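import Cfsg.Agent.Forms.Witt

/-!
# Orthogonal bases: splitting off an anisotropic vector, norms in finite fields

Main results: `exists_consBasis`, `exists_orthonormal_basis_hermitian`,
`exists_diagonal_basis_symm`, `exists_mul_involution_eq`.
-/

namespace CfsgLib.Forms

set_option linter.style.haveILetI false

open Module Submodule

variable {F V : Type*} [Field F] [AddCommGroup V] [Module F V] {σ : F →+* F}

/-- The orthogonal complement of an anisotropic vector is nondegenerate. -/
theorem sep_restrict_ker {ε : F} (B : V →ₛₗ[σ] V →ₗ[F] F) (hε : ∀ u v, B v u = ε * σ (B u v))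
    (hB : ∀ x : V, (∀ y, B x y = 0) → x = 0) {v : V} (hv : B v v ≠ 0) :
    ∀ x : LinearMap.ker (B v), (∀ y : LinearMap.ker (B v), B (x : V) (y : V) = 0) → x = 0 := by
  intro x hx
  apply Subtype.ext
  apply hB
  intro y
  have hx0 : B (x : V) v = 0 := by rw [hε v x, x.2]; simp
  have hy : y - (B v y / B v v) • v ∈ LinearMap.ker (B v) := by simp [hv]
  have := hx ⟨_, hy⟩
  simpa [hx0] using this

/-- A basis adapted to `V = ⟨v⟩ ⊕ ker (B v)`. -/
theorem exists_consBasis (B : V →ₛₗ[σ] V →ₗ[F] F) {v : V} (hv : B v v ≠ 0) {n : ℕ}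
    (b : Basis (Fin n) F (LinearMap.ker (B v))) :
    ∃ b' : Basis (Fin (n + 1)) F V, b' 0 = v ∧ ∀ i, b' i.succ = b i := by
  refine ⟨Basis.mkFinCons v b ?_ ?_, ?_, ?_⟩
  · intro c x hx h
    have := congrArg (B v) h
    simpa [(LinearMap.mem_ker).1 hx, hv] using this
  · intro z
    exact ⟨-(B v z / B v v), by simp [hv]⟩
  · simp
  · simp

theorem finrank_ker_apply [FiniteDimensional F V] (B : V →ₛₗ[σ] V →ₗ[F] F) {v : V}
    (hv : B v v ≠ 0) : finrank F (LinearMap.ker (B v)) + 1 = finrank F V :=
  Module.Dual.finrank_ker_add_one_of_ne_zero (fun h => hv (by rw [h]; rfl))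

/-- A Hermitian form with zero diagonal vanishes. -/
theorem hermitian_eq_zero_of_diag (hσ : σ ≠ RingHom.id F) (B : V →ₛₗ[σ] V →ₗ[F] F)
    (hS : B.IsSymm) (h0 : ∀ v : V, B v v = 0) : B = 0 := by
  obtain ⟨t, ht⟩ : ∃ t, σ t ≠ t := by
    by_contra h
    exact hσ (RingHom.ext fun x => not_not.1 fun hx => h ⟨x, hx⟩)
  ext u v
  have key : ∀ w, B u w + σ (B u w) = 0 := by
    intro w
    have h := h0 (u + w)
    rw [hS.eq]
    simpa [h0] using h
  have h1 := key v
  have h2 := key (t • v)
  simp only [map_smul, smul_eq_mul, map_mul] at h2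
  have h3 : (σ t - t) * B u v = 0 := by linear_combination -1 * h2 + σ t * h1
  simpa [sub_eq_zero, ht] using h3

/-- In a finite field, every element fixed by an involution is a norm. -/
theorem exists_mul_involution_eq [Finite F] (hσ : σ ≠ RingHom.id F) (hσ2 : ∀ a, σ (σ a) = a)
    {c : F} (hc : σ c = c) : ∃ a, a * σ a = c := by
  by_cases h2 : ringChar F = 2
  · obtain ⟨a, ha⟩ := FiniteField.isSquare_of_char_two h2 c
    refine ⟨a, ?_⟩
    have h : σ a * σ a = a * a := by rw [← map_mul, ← ha, hc, ha]
    rcases mul_self_eq_mul_self_iff.1 h with h' | h'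
    · rw [h', ← ha]
    · haveI := ringChar.eq_iff.1 h2
      rw [h', CharTwo.neg_eq, ← ha]
  obtain ⟨t, ht⟩ : ∃ t, σ t ≠ t := by
    by_contra h
    exact hσ (RingHom.ext fun x => not_not.1 fun hx => h ⟨x, hx⟩)
  obtain ⟨d, hd, hd0⟩ : ∃ d, σ d = -d ∧ d ≠ 0 :=
    ⟨t - σ t, by rw [map_sub, hσ2, neg_sub], sub_ne_zero.2 (Ne.symm ht)⟩
  let K : Subfield F := σ.eqLocusField (RingHom.id F)
  haveI : Fintype K := Fintype.ofFinite K
  have hdd : d * d ∈ K := by
    show σ (d * d) = d * d
    rw [map_mul, hd]; ring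
  have hK2 : ringChar K ≠ 2 := by
    intro h
    apply h2
    haveI := ringChar.eq_iff.1 h
    haveI : CharP F 2 := charP_of_injective_ringHom (f := K.subtype) Subtype.val_injective 2
    exact ringChar.eq F 2
  have hodd : Fintype.card K % 2 = 1 := FiniteField.odd_card_of_char_ne_two hK2
  obtain ⟨x, y, hxy⟩ := FiniteField.exists_root_sum_quadratic
    (f := (Polynomial.X ^ 2 - Polynomial.C (⟨c, hc⟩ : K)))
    (g := Polynomial.C (-⟨d * d, hdd⟩ : K) * Polynomial.X ^ 2)
    (Polynomial.degree_X_pow_sub_C (by norm_num) _)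
    (Polynomial.degree_C_mul_X_pow 2 (neg_ne_zero.2 fun h => by
      simpa [hd0] using congrArg Subtype.val h)) hodd
  simp only [Polynomial.eval_sub, Polynomial.eval_pow, Polynomial.eval_X, Polynomial.eval_C,
    Polynomial.eval_mul] at hxy
  have hxy' := congrArg Subtype.val hxy
  push_cast at hxy'
  refine ⟨x + d * y, ?_⟩
  have hx : σ (x : F) = x := x.2
  have hy : σ (y : F) = y := y.2
  rw [map_add, map_mul, hd, hx, hy]
  linear_combination hxy'

/-- Orthonormal bases of nondegenerate Hermitian forms over finite fields. -/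
theorem exists_orthonormal_basis_hermitian [Finite F] [FiniteDimensional F V]
    (hσ : σ ≠ RingHom.id F) (hσ2 : ∀ a, σ (σ a) = a) (B : V →ₛₗ[σ] V →ₗ[F] F)
    (hS : B.IsSymm) (hB : ∀ x : V, (∀ y, B x y = 0) → x = 0) :
    ∀ {n : ℕ}, finrank F V = n →
      ∃ b : Basis (Fin n) F V, ∀ i j, B (b i) (b j) = if i = j then 1 else 0 := by
  intro n hn
  induction n generalizing V with
  | zero => exact ⟨Module.finBasisOfFinrankEq F V hn, fun i => i.elim0⟩
  | succ n ih =>
    obtain ⟨v, hv⟩ : ∃ v, B v v ≠ 0 := by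
      by_contra h
      have h0 := hermitian_eq_zero_of_diag hσ B hS fun v => not_not.1 fun hv => h ⟨v, hv⟩
      haveI : Subsingleton V := subsingleton_of_forall_eq 0 fun x => hB x fun y => by simp [h0]
      have := Module.finrank_zero_of_subsingleton (R := F) (M := V)
      omega
    obtain ⟨a, ha⟩ := exists_mul_involution_eq hσ hσ2 (c := (B v v)⁻¹)
      (by rw [map_inv₀, hS.eq])
    obtain ⟨w, hw⟩ : ∃ w, B w w = 1 :=
      ⟨a • v, by
        simp only [map_smulₛₗ, RingHom.id_apply, LinearMap.smul_apply, smul_eq_mul]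
        rw [← mul_assoc, ha, inv_mul_cancel₀ hv]⟩
    have hw0 : B w w ≠ 0 := by rw [hw]; exact one_ne_zero
    let W := LinearMap.ker (B w)
    obtain ⟨b, hb⟩ := ih
      ({ toFun := fun x => (B (x : V)).comp W.subtype
         map_add' := fun x y => by ext; simp
         map_smul' := fun c x => by ext; simp } : W →ₛₗ[σ] W →ₗ[F] F)
      ⟨fun x y => hS.eq x y⟩
      (sep_restrict_ker B (ε := 1) (fun u v => by rw [one_mul, hS.eq]) hB hw0)
      (by have h := finrank_ker_apply B hw0; change finrank F W + 1 = _ at h; omega)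
    obtain ⟨b', h0, hs⟩ := exists_consBasis B hw0 b
    refine ⟨b', fun i j => ?_⟩
    have hmem : ∀ k, B w (b k : V) = 0 := fun k => (b k).2
    induction i using Fin.cases with
    | zero =>
      induction j using Fin.cases with
      | zero => simp [h0, hw]
      | succ j => simp [h0, hs, hmem, (Fin.succ_ne_zero j).symm]
    | succ i =>
      induction j using Fin.cases with
      | zero => rw [h0, hs, ← hS.eq, hmem, map_zero, if_neg (Fin.succ_ne_zero i)]
      | succ j =>
        have := hb i j
        simpa [hs, Fin.succ_inj] using this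

/-- A nonsquare of a finite field times another nonsquare is a square. -/
theorem isSquare_mul_of_not_isSquare [Finite F] {a b : F} (ha : ¬ IsSquare a)
    (hb : ¬ IsSquare b) : IsSquare (a * b) := by
  classical
  haveI := Fintype.ofFinite F
  by_contra h
  have h1 := quadraticChar_neg_one_iff_not_isSquare.2 h
  rw [map_mul, quadraticChar_neg_one_iff_not_isSquare.2 ha,
    quadraticChar_neg_one_iff_not_isSquare.2 hb] at h1
  norm_num at h1

/-- In odd characteristic every binary diagonal form `a x² + b y²` represents every element. -/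
theorem exists_diag_binary [Finite F] (h2 : (2 : F) ≠ 0) {a b : F} (ha : a ≠ 0) (hb : b ≠ 0)
    (c : F) : ∃ x y, a * x ^ 2 + b * y ^ 2 = c := by
  haveI := Fintype.ofFinite F
  have hodd : Fintype.card F % 2 = 1 := FiniteField.odd_card_of_char_ne_two fun h => h2 (by
    haveI := ringChar.eq_iff.1 h; exact CharTwo.two_eq_zero)
  obtain ⟨x, y, hxy⟩ := FiniteField.exists_root_sum_quadratic
    (f := Polynomial.X ^ 2 - Polynomial.C (c / a))
    (g := Polynomial.C (b / a) * Polynomial.X ^ 2) (Polynomial.degree_X_pow_sub_C (by norm_num) _)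
    (Polynomial.degree_C_mul_X_pow 2 (div_ne_zero hb ha)) hodd
  simp only [Polynomial.eval_sub, Polynomial.eval_pow, Polynomial.eval_X, Polynomial.eval_C,
    Polynomial.eval_mul] at hxy
  refine ⟨x, y, ?_⟩
  field_simp at hxy
  linear_combination hxy

/-- Diagonal normal form of nondegenerate symmetric forms over finite fields of odd order. -/
theorem exists_diagonal_basis_symm [Finite F] [FiniteDimensional F V] (h2 : (2 : F) ≠ 0)
    (B : LinearMap.BilinForm F V) (hS : B.IsSymm) (hB : ∀ x : V, (∀ y, B x y = 0) → x = 0)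
    {α : F} (hα : ¬ IsSquare α) {n : ℕ} (hn : finrank F V = n + 1) :
    ∃ b : Basis (Fin (n + 1)) F V, (∀ i j, i ≠ j → B (b i) (b j) = 0) ∧
      (∀ i, i ≠ Fin.last n → B (b i) (b i) = 1) ∧
      (B (b (Fin.last n)) (b (Fin.last n)) = 1 ∨ B (b (Fin.last n)) (b (Fin.last n)) = α) := by
  have hα0 : α ≠ 0 := fun h => hα (h ▸ ⟨0, by simp⟩)
  induction n generalizing V with
  | zero =>
    let b₀ := Module.finBasisOfFinrankEq F V hn
    have hc : B (b₀ 0) (b₀ 0) ≠ 0 := by
      intro h
      apply b₀.ne_zero 0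
      apply hB
      have h0 : B (b₀ 0) = 0 := b₀.ext fun i => by simp [Fin.fin_one_eq_zero i, h]
      intro y; rw [h0]; rfl
    obtain ⟨t, ht0, ht⟩ : ∃ t, t ≠ 0 ∧
        (t * t * B (b₀ 0) (b₀ 0) = 1 ∨ t * t * B (b₀ 0) (b₀ 0) = α) := by
      by_cases hsq : IsSquare (B (b₀ 0) (b₀ 0))
      · obtain ⟨r, hr⟩ := hsq
        have hr0 : r ≠ 0 := fun h => hc (by rw [hr, h, zero_mul])
        exact ⟨r⁻¹, inv_ne_zero hr0, Or.inl (by rw [hr]; field_simp)⟩
      · obtain ⟨r, hr⟩ := isSquare_mul_of_not_isSquare hα hsq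
        refine ⟨r / B (b₀ 0) (b₀ 0), ?_, Or.inr ?_⟩
        · refine div_ne_zero (fun h => ?_) hc
          rw [h, zero_mul] at hr
          simp [hα0, hc] at hr
        · field_simp
          linear_combination -hr
    refine ⟨b₀.unitsSMul fun _ => Units.mk0 t ht0,
      fun i j h => absurd (Subsingleton.elim (α := Fin 1) i j) h,
      fun i h => absurd (Subsingleton.elim (α := Fin 1) i _) h, ?_⟩
    have e : Fin.last 0 = (0 : Fin 1) := rfl
    simp only [e, Module.Basis.unitsSMul_apply, Units.smul_def, Units.val_mk0, map_smul,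
      LinearMap.smul_apply, smul_eq_mul, ← mul_assoc]
    exact ht
  | succ n ih =>
    obtain ⟨x, hx⟩ : ∃ x, B x x ≠ 0 := by
      haveI : Invertible (2 : F) := invertibleOfNonzero h2
      have hne : B ≠ 0 := by
        intro h
        haveI : Subsingleton V := subsingleton_of_forall_eq 0 fun z => hB z fun y => by simp [h]
        have := Module.finrank_zero_of_subsingleton (R := F) (M := V)
        omega
      exact LinearMap.BilinForm.exists_bilinForm_self_ne_zero hne ⟨fun a b => hS.eq a b⟩
    have hsym : ∀ u v, B v u = 1 * RingHom.id F (B u v) := fun u v => by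
      rw [one_mul, RingHom.id_apply, hS.eq]
    obtain ⟨y, hy⟩ : ∃ y : LinearMap.ker (B x), B (y : V) y ≠ 0 := by
      by_contra h
      have hz : ∀ y : LinearMap.ker (B x), y = 0 := by
        intro y
        apply sep_restrict_ker B hsym hB hx
        intro z
        have h1 := not_not.1 fun hy => h ⟨y, hy⟩
        have h2' := not_not.1 fun hy => h ⟨z, hy⟩
        have h3 := not_not.1 fun hy => h ⟨y + z, hy⟩
        simp only [Submodule.coe_add, map_add, LinearMap.add_apply, h1, h2',
          hS.eq (z : V) (y : V), zero_add, add_zero] at h3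
        rw [← two_mul] at h3
        exact (mul_eq_zero.1 h3).resolve_left h2
      haveI : Subsingleton (LinearMap.ker (B x)) := subsingleton_of_forall_eq 0 hz
      have := finrank_ker_apply B hx
      have := Module.finrank_zero_of_subsingleton (R := F) (M := LinearMap.ker (B x))
      omega
    obtain ⟨w, hw⟩ : ∃ w, B w w = 1 := by
      obtain ⟨s, t, hst⟩ := exists_diag_binary h2 hx hy 1
      refine ⟨s • x + t • (y : V), ?_⟩
      have hxy : B x (y : V) = 0 := y.2
      simp only [map_add, map_smul, LinearMap.add_apply, LinearMap.smul_apply, smul_eq_mul, hxy,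
        hS.eq (y : V) x]
      linear_combination hst
    have hw0 : B w w ≠ 0 := by rw [hw]; exact one_ne_zero
    obtain ⟨b, hb1, hb2, hb3⟩ := ih (B.restrict (LinearMap.ker (B w)))
      ⟨fun u v => hS.eq u v⟩ (sep_restrict_ker B hsym hB hw0)
      (by have := finrank_ker_apply B hw0; omega)
    obtain ⟨b', h0, hs⟩ := exists_consBasis B hw0 b
    refine ⟨b', fun i j hij => ?_, fun i hi => ?_, ?_⟩
    · induction i using Fin.cases with
      | zero =>
        induction j using Fin.cases with
        | zero => exact absurd rfl hij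
        | succ j => rw [h0, hs]; exact (b j).2
      | succ i =>
        induction j using Fin.cases with
        | zero => rw [h0, hs, hS.eq]; exact (b i).2
        | succ j =>
          rw [hs, hs]
          exact hb1 i j fun h => hij (h ▸ rfl)
    · induction i using Fin.cases with
      | zero => rw [h0, hw]
      | succ i =>
        rw [hs]
        exact hb2 i fun h => hi (by rw [h, Fin.succ_last])
    · rw [← Fin.succ_last, hs]
      exact hb3

end CfsgLib.Forms
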