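import Cfsg.Agent.Forms.IsoGroup

/-!
# Hyperbolic planes and symplectic bases

Main results: `hypPlane_isCompl`, `exists_symplectic_basis` (alternating forms with radical),
`exists_symplectic_basis_nondeg`.
-/

namespace CfsgLib.Forms

open Module Submodule

variable {F V : Type*} [Field F] [AddCommGroup V] [Module F V]

/-- The orthogonal of a hyperbolic pair of an alternating form. -/
def pairPerp (B : LinearMap.BilinForm F V) (u v : V) : Submodule F V :=
  LinearMap.ker (B u) ⊓ LinearMap.ker (B v)

/-- The coordinates `(a, c, w)` of `a • u + c • v + w` form an isomorphism. -/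
def pairDecomp (B : LinearMap.BilinForm F V) (hA : B.IsAlt) {u v : V} (h : B u v = 1) :
    ((F × F) × pairPerp B u v) ≃ₗ[F] V where
  toFun p := p.1.1 • u + p.1.2 • v + (p.2 : V)
  map_add' p p' := by simp only [Prod.fst_add, Prod.snd_add, Submodule.coe_add, add_smul]; abel
  map_smul' c p := by
    simp only [Prod.smul_fst, Prod.smul_snd, Submodule.coe_smul, smul_eq_mul, RingHom.id_apply,
      smul_add, mul_smul]
  invFun z := ((- B v z, B u z), ⟨z + B v z • u - B u z • v, by
    have hvu : B v u = -1 := by rw [← LinearMap.IsAlt.neg hA u v, h]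
    simp [pairPerp, hA u, hA v, h, hvu]⟩)
  left_inv p := by
    have hvu : B v u = -1 := by rw [← LinearMap.IsAlt.neg hA u v, h]
    have hu : B u (p.2 : V) = 0 := p.2.2.1
    have hv : B v (p.2 : V) = 0 := p.2.2.2
    refine Prod.ext (Prod.ext ?_ ?_) (Subtype.ext ?_) <;>
      simp [hA u, hA v, h, hvu, hu, hv]
    abel
  right_inv z := by simp only [neg_smul]; abel

theorem pairPerp_iff (B : LinearMap.BilinForm F V) (u v z : V) :
    z ∈ pairPerp B u v ↔ ∀ x ∈ span F {u, v}, B x z = 0 := by
  constructor
  · intro hz x hx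
    obtain ⟨a, c, rfl⟩ := Submodule.mem_span_pair.1 hx
    simp [(LinearMap.mem_ker).1 hz.1, (LinearMap.mem_ker).1 hz.2]
  · intro hz
    exact ⟨hz u (subset_span (by simp)), hz v (subset_span (by simp))⟩

theorem isCompl_pairPerp (B : LinearMap.BilinForm F V) (hA : B.IsAlt) {u v : V} (h : B u v = 1) :
    IsCompl (span F {u, v}) (pairPerp B u v) := by
  refine IsCompl.of_eq ?_ ?_
  · rw [eq_bot_iff]
    intro x hx
    obtain ⟨a, c, rfl⟩ := Submodule.mem_span_pair.1 hx.1
    have h1 := (LinearMap.mem_ker).1 hx.2.1
    have h2 := (LinearMap.mem_ker).1 hx.2.2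
    have hvu : B v u = -1 := by rw [← LinearMap.IsAlt.neg hA u v, h]
    simp [hA u, h] at h1
    simp [hA v, hvu] at h2
    simp [h1, h2]
  · rw [eq_top_iff]
    intro z _
    obtain ⟨p, rfl⟩ := (pairDecomp B hA h).surjective z
    exact add_mem_sup (Submodule.mem_span_pair.2 ⟨_, _, rfl⟩) p.2.2

/-- An alternating form has a basis of hyperbolic pairs and radical vectors. -/
theorem exists_symplectic_basis [FiniteDimensional F V] (B : LinearMap.BilinForm F V)
    (hA : B.IsAlt) :
    ∃ (m k : ℕ) (b : Basis ((Fin m ⊕ Fin m) ⊕ Fin k) F V),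
      (∀ i j : Fin m, B (b (Sum.inl (Sum.inl i))) (b (Sum.inl (Sum.inr j))) = if i = j then 1 else 0) ∧
      (∀ i j : Fin m, B (b (Sum.inl (Sum.inl i))) (b (Sum.inl (Sum.inl j))) = 0) ∧
      (∀ i j : Fin m, B (b (Sum.inl (Sum.inr i))) (b (Sum.inl (Sum.inr j))) = 0) ∧
      (∀ (j : Fin k) (v : V), B (b (Sum.inr j)) v = 0) := by
  generalize hd : finrank F V = d
  induction d using Nat.strong_induction_on generalizing V with
  | _ d ih =>
    by_cases hB : B = 0
    · refine ⟨0, finrank F V, (Module.finBasis F V).reindex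
        ((Equiv.sumEmpty (Fin (finrank F V)) (Fin 0 ⊕ Fin 0)).symm.trans (Equiv.sumComm _ _)),
        fun i => i.elim0, fun i => i.elim0, fun i => i.elim0, fun j v => by simp [hB]⟩
    obtain ⟨u, v, huv⟩ : ∃ u v, B u v = 1 := by
      obtain ⟨u, hu⟩ : ∃ u, B u ≠ 0 := by
        by_contra h; exact hB (LinearMap.ext fun u => not_not.1 fun hu => h ⟨u, hu⟩)
      obtain ⟨v, hv⟩ : ∃ v, B u v ≠ 0 := by
        by_contra h; exact hu (LinearMap.ext fun v => not_not.1 fun hv => h ⟨v, hv⟩)
      exact ⟨u, (B u v)⁻¹ • v, by simp [hv]⟩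
    have hlt : finrank F (pairPerp B u v) < d := by
      have := (pairDecomp B hA huv).finrank_eq
      rw [Module.finrank_prod, Module.finrank_prod, Module.finrank_self] at this
      omega
    obtain ⟨m, k, b, h1, h2, h3, h4⟩ := ih _ hlt (B.restrict (pairPerp B u v))
      (fun x => hA x) rfl
    let e : (Fin 1 ⊕ Fin 1) ⊕ ((Fin m ⊕ Fin m) ⊕ Fin k) ≃
        (Fin (m + 1) ⊕ Fin (m + 1)) ⊕ Fin k :=
      { toFun := fun x => match x with
          | .inl (.inl _) => .inl (.inl 0)
          | .inl (.inr _) => .inl (.inr 0)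
          | .inr (.inl (.inl i)) => .inl (.inl i.succ)
          | .inr (.inl (.inr i)) => .inl (.inr i.succ)
          | .inr (.inr j) => .inr j
        invFun := fun x => match x with
          | .inl (.inl i) => Fin.cases (.inl (.inl 0)) (fun i => .inr (.inl (.inl i))) i
          | .inl (.inr i) => Fin.cases (.inl (.inr 0)) (fun i => .inr (.inl (.inr i))) i
          | .inr j => .inr (.inr j)
        left_inv := by
          rintro ((i | i) | ((i | i) | j)) <;> simp [Fin.fin_one_eq_zero]
        right_inv := by
          rintro ((i | i) | j)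
          · induction i using Fin.cases <;> simp
          · induction i using Fin.cases <;> simp
          · rfl }
    let B2 := ((((Basis.singleton (Fin 1) F).prod (Basis.singleton (Fin 1) F)).prod b).map
      (pairDecomp B hA huv)).reindex e
    have hl0 : B2 (.inl (.inl 0)) = u := by
      simp [B2, e, Basis.prod_apply, pairDecomp]
    have hr0 : B2 (.inl (.inr 0)) = v := by
      simp [B2, e, Basis.prod_apply, pairDecomp]
    have hls : ∀ i : Fin m, B2 (.inl (.inl i.succ)) = (b (.inl (.inl i)) : V) := fun i => by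
      simp [B2, e, Basis.prod_apply, pairDecomp]
    have hrs : ∀ i : Fin m, B2 (.inl (.inr i.succ)) = (b (.inl (.inr i)) : V) := fun i => by
      simp [B2, e, Basis.prod_apply, pairDecomp]
    have hk : ∀ j, B2 (.inr j) = (b (.inr j) : V) := fun j => by
      simp [B2, e, Basis.prod_apply, pairDecomp]
    have hperp : ∀ x : pairPerp B u v, B u (x : V) = 0 ∧ B v (x : V) = 0 ∧ B (x : V) u = 0 ∧
        B (x : V) v = 0 := fun x => by
      refine ⟨x.2.1, x.2.2, ?_, ?_⟩
      · rw [← LinearMap.IsAlt.neg hA u, (LinearMap.mem_ker).1 x.2.1, neg_zero]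
      · rw [← LinearMap.IsAlt.neg hA v, (LinearMap.mem_ker).1 x.2.2, neg_zero]
    refine ⟨m + 1, k, B2, ?_, ?_, ?_, ?_⟩
    · intro i j
      induction i using Fin.cases with
      | zero =>
        induction j using Fin.cases with
        | zero => simp [hl0, hr0, huv]
        | succ j => simp [hl0, hrs, (hperp _).1, (Fin.succ_ne_zero j).symm]
      | succ i =>
        induction j using Fin.cases with
        | zero => simp [hls, hr0, (hperp _).2.2.2]
        | succ j =>
          have := h1 i j
          simpa [hls, hrs, Fin.succ_inj] using this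
    · intro i j
      induction i using Fin.cases with
      | zero =>
        induction j using Fin.cases with
        | zero => simp [hl0, hA u]
        | succ j => simp [hl0, hls, (hperp _).1]
      | succ i =>
        induction j using Fin.cases with
        | zero => simp [hls, hl0, (hperp _).2.2.1]
        | succ j => simpa [hls] using h2 i j
    · intro i j
      induction i using Fin.cases with
      | zero =>
        induction j using Fin.cases with
        | zero => simp [hr0, hA v]
        | succ j => simp [hr0, hrs, (hperp _).2.1]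
      | succ i =>
        induction j using Fin.cases with
        | zero => simp [hrs, hr0, (hperp _).2.2.2]
        | succ j => simpa [hrs] using h3 i j
    · intro j z
      obtain ⟨p, rfl⟩ := (pairDecomp B hA huv).surjective z
      rw [hk]
      show B (b (Sum.inr j) : V) (p.1.1 • u + p.1.2 • v + (p.2 : V)) = 0
      have : B (b (Sum.inr j) : V) (p.2 : V) = 0 := h4 j p.2
      simp [(hperp (b (Sum.inr j))).2.2.1, (hperp (b (Sum.inr j))).2.2.2, this]

/-- A nondegenerate alternating form has a symplectic basis. -/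
theorem exists_symplectic_basis_nondeg [FiniteDimensional F V] (B : LinearMap.BilinForm F V)
    (hA : B.IsAlt) (hB : B.Nondegenerate) :
    ∃ (m : ℕ) (b : Basis (Fin m ⊕ Fin m) F V),
      (∀ i j : Fin m, B (b (Sum.inl i)) (b (Sum.inr j)) = if i = j then 1 else 0) ∧
      (∀ i j : Fin m, B (b (Sum.inl i)) (b (Sum.inl j)) = 0) ∧
      (∀ i j : Fin m, B (b (Sum.inr i)) (b (Sum.inr j)) = 0) := by
  obtain ⟨m, k, b, h1, h2, h3, h4⟩ := exists_symplectic_basis B hA
  obtain rfl : k = 0 := by
    rcases k with _ | k
    · rfl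
    · exact absurd (hB.1 _ (h4 0)) (b.ne_zero _)
  refine ⟨m, b.reindex (Equiv.sumEmpty _ _), ?_, ?_, ?_⟩ <;> intro i j <;>
    simp only [Basis.reindex_apply]
  · exact h1 i j
  · exact h2 i j
  · exact h3 i j

end CfsgLib.Forms
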