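import Cfsg.Prelude.Def_Classical
import Cfsg.Prelude.Def_LieClassical
import Cfsg.Agent.FieldEmb.Basic
import Cfsg.Agent.Forms.Diagonal

/-!
# Counting vectors of given norm for Hermitian forms over finite fields

`u q n = q^n - (-1)^n`.  Main results: `card_norm_fiber`, `card_sumNorm` (closed forms for the
number of vectors with given norm), `hermSesq` (the standard form as a sesquilinear map).
-/

namespace CfsgLib.Forms

set_option linter.style.haveILetI false

open Module

variable {F : Type*} [Field F] [Fintype F] {q : ℕ}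

/-- `q^n - (-1)^n`. -/
def u (q n : ℕ) : ℕ := if Even n then q ^ n - 1 else q ^ n + 1

theorem u_cast (hq : 1 ≤ q) (n : ℕ) : (u q n : ℤ) = (q : ℤ) ^ n - (-1) ^ n := by
  unfold u
  split_ifs with h
  · rw [Nat.cast_sub (Nat.one_le_pow _ _ hq), h.neg_one_pow]; simp
  · rw [(Nat.not_even_iff_odd.1 h).neg_one_pow]; simp

theorem u_succ (n : ℕ) : u q (n + 1) = if Even n then q ^ (n + 1) + 1 else q ^ (n + 1) - 1 := by
  unfold u
  by_cases h : Even n
  · rw [if_pos h, if_neg (fun h' => (Nat.even_add_one.1 h') h)]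
  · rw [if_neg h, if_pos (Nat.even_add_one.2 h)]

theorem two_le_q (hF : Fintype.card F = q ^ 2) : 2 ≤ q := by
  by_contra h
  have h1 : 1 < Fintype.card F := Fintype.one_lt_card
  interval_cases q <;> simp at hF <;> omega

/-- The map `x ↦ x^(q+1)` takes every non-zero value of the fixed field `q + 1` times. -/
theorem card_norm_fiber (hF : Fintype.card F = q ^ 2) (μ : F) (hμ : μ ≠ 0) (hμq : μ ^ q = μ) :
    Nat.card {x : F // x ^ (q + 1) = μ} = q + 1 := by
  have hq := two_le_q hF
  have hG : Nat.card Fˣ = (q + 1) * (q - 1) := by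
    rw [Nat.card_units, Nat.card_eq_fintype_card, hF, sq, ← Nat.mul_self_sub_mul_self_eq q 1]
  let f : Fˣ →* Fˣ := powMonoidHom (q + 1)
  have hker : Nat.card f.ker = q + 1 := by
    rw [IsCyclic.card_powMonoidHom_ker, hG]
    exact Nat.gcd_eq_right (dvd_mul_right _ _)
  have hrange : f.range = (powMonoidHom (q - 1) : Fˣ →* Fˣ).ker := by
    apply Subgroup.eq_of_le_of_card_ge
    · rintro _ ⟨x, rfl⟩
      show (x ^ (q + 1)) ^ (q - 1) = 1
      rw [← pow_mul, ← hG, pow_card_eq_one']
    · rw [IsCyclic.card_powMonoidHom_ker, hG, Nat.gcd_eq_right (dvd_mul_left _ _)]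
      have h := Subgroup.card_eq_card_quotient_mul_card_subgroup f.ker
      rw [hker, Nat.card_congr (QuotientGroup.quotientKerEquivRange f).toEquiv, hG,
        mul_comm (q + 1)] at h
      exact (Nat.eq_of_mul_eq_mul_right (by omega) h).le
  obtain ⟨u₀, hu₀⟩ : Units.mk0 μ hμ ∈ f.range := by
    rw [hrange]
    show Units.mk0 μ hμ ^ (q - 1) = 1
    ext
    simp only [Units.val_pow_eq_pow_val, Units.val_mk0, Units.val_one]
    apply mul_left_cancel₀ hμ
    rw [mul_one, ← pow_succ', show q - 1 + 1 = q by omega, hμq]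
  have hu₀' : (u₀ : F) ^ (q + 1) = μ := by
    have h := congrArg Units.val hu₀
    simpa [f] using h
  refine Eq.trans ?_ hker
  refine Nat.card_congr
    { toFun := fun x => ⟨Units.mk0 (x.1 / u₀) (div_ne_zero ?_ u₀.ne_zero), ?_⟩
      invFun := fun k => ⟨(k.1 : F) * u₀, ?_⟩
      left_inv := fun x => Subtype.ext (by simp)
      right_inv := fun k => Subtype.ext (Units.ext (by simp)) }
  · intro h
    have := x.2
    rw [h, zero_pow (by omega)] at this
    exact hμ this.symm
  · show _ ^ (q + 1) = (1 : Fˣ)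
    ext
    simp [div_pow, x.2, hu₀', hμ]
  · have h := congrArg Units.val k.2
    simp only [f, powMonoidHom_apply, Units.val_pow_eq_pow_val, Units.val_one] at h
    rw [mul_pow, h, hu₀', one_mul]

omit [Fintype F] in
theorem card_norm_fiber_zero : Nat.card {x : F // x ^ (q + 1) = 0} = 1 := by
  haveI : Unique {x : F // x ^ (q + 1) = 0} :=
    { default := ⟨0, zero_pow (by omega)⟩
      uniq := fun x => Subtype.ext (eq_zero_of_pow_eq_zero x.2) }
  exact Nat.card_unique

/-- Vectors with `∑ xᵢ^(q+1) = μ`, in closed form. -/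
theorem card_sumNorm (hF : Fintype.card F = q ^ 2) [DecidableEq F] : ∀ (n : ℕ) (μ : F), μ ^ q = μ →
    (Nat.card {v : Fin n → F // ∑ i, v i ^ (q + 1) = μ} : ℤ) * q =
      (q : ℤ) ^ (2 * n) + ((q : ℤ) * (if μ = 0 then 1 else 0) - 1) * (-(q : ℤ)) ^ n := by
  obtain ⟨σ, hσ, hσ2⟩ := CfsgLib.FieldEmb.exists_conj hF
  intro n
  induction n with
  | zero =>
    intro μ _
    by_cases h : μ = 0
    · subst h
      haveI : Unique {v : Fin 0 → F // ∑ i, v i ^ (q + 1) = 0} :=
        { default := ⟨Fin.elim0, by simp⟩, uniq := fun v => Subtype.ext (funext fun i => i.elim0) }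
      simp
    · haveI : IsEmpty {v : Fin 0 → F // ∑ i, v i ^ (q + 1) = μ} :=
        ⟨fun v => h (by simpa using v.2.symm)⟩
      rw [Nat.card_of_isEmpty]
      simp [h]
  | succ n ih =>
    intro μ hμ
    let e : {v : Fin (n + 1) → F // ∑ i, v i ^ (q + 1) = μ} ≃
        Σ x : F, {w : Fin n → F // ∑ i, w i ^ (q + 1) = μ - x ^ (q + 1)} :=
      { toFun := fun v => ⟨v.1 0, ⟨Fin.tail v.1, by
          have h := v.2
          rw [Fin.sum_univ_succ] at h
          rw [eq_sub_iff_add_eq, add_comm]
          exact h⟩⟩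
        invFun := fun p => ⟨Fin.cons p.1 p.2.1, by
          rw [Fin.sum_univ_succ]
          simp [p.2.2]⟩
        left_inv := fun v => Subtype.ext (Fin.cons_self_tail v.1)
        right_inv := fun p => by
          obtain ⟨x, w, hw⟩ := p
          refine Sigma.subtype_ext ?_ ?_ <;> simp }
    have hfix : ∀ x : F, (μ - x ^ (q + 1)) ^ q = μ - x ^ (q + 1) := fun x => by
      rw [← hσ, map_sub, hσ μ, hμ, map_pow, hσ x]
      congr 1
      rw [pow_succ, pow_succ, ← pow_mul x q q, mul_comm (x ^ q) x]
      rw [← hσ x, show x ^ (q * q) = σ (σ x) by rw [hσ, hσ, ← pow_mul], hσ2]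
    rw [Nat.card_congr e, Nat.card_sigma, Nat.cast_sum, Finset.sum_mul,
      Finset.sum_congr rfl fun x _ => ih _ (hfix x)]
    rw [Finset.sum_add_distrib, Finset.sum_const, Finset.card_univ, hF, ← Finset.sum_mul,
      Finset.sum_sub_distrib, ← Finset.mul_sum, Finset.sum_const, Finset.card_univ, hF,
      Finset.sum_boole]
    have hset : (Finset.univ.filter fun x : F => μ - x ^ (q + 1) = 0).card =
        Nat.card {x : F // x ^ (q + 1) = μ} := by
      rw [Nat.card_eq_fintype_card, Fintype.card_subtype]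
      congr 1
      ext x
      simp only [Finset.mem_filter, Finset.mem_univ, true_and, sub_eq_zero]
      exact eq_comm
    simp only [hset, nsmul_eq_mul]
    by_cases h : μ = 0
    · subst h
      rw [card_norm_fiber_zero, if_pos rfl]
      push_cast
      ring
    · rw [card_norm_fiber hF μ h hμ, if_neg h]
      push_cast
      ring

/-- The standard Hermitian form as a sesquilinear map (semilinear in the first variable). -/
def hermSesq (σ : F →+* F) (n : ℕ) : (Fin n → F) →ₛₗ[σ] (Fin n → F) →ₗ[F] F where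
  toFun v := ∑ i, σ (v i) • LinearMap.proj i
  map_add' a b := by simp [add_smul, Finset.sum_add_distrib]
  map_smul' c a := by simp [Finset.smul_sum, mul_smul]

omit [Fintype F] in
theorem hermSesq_apply (σ : F →+* F) (n : ℕ) (v w : Fin n → F) :
    hermSesq σ n v w = ∑ i, σ (v i) * w i := by
  simp [hermSesq]

omit [Fintype F] in
theorem hermForm_eq_hermSesq {σ : F →+* F} (hσ : ∀ x, σ x = x ^ q) (n : ℕ) (v w : Fin n → F) :
    Cfsg.hermForm n F q v w = hermSesq σ n w v := by
  rw [hermSesq_apply, Cfsg.hermForm]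
  exact Finset.sum_congr rfl fun i _ => by rw [hσ, mul_comm]

omit [Fintype F] in
theorem hermSesq_isSymm {σ : F →+* F} (hσ2 : ∀ x, σ (σ x) = x) (n : ℕ) :
    (hermSesq σ n).IsSymm := ⟨fun v w => by
  rw [hermSesq_apply, hermSesq_apply, map_sum]
  exact Finset.sum_congr rfl fun i _ => by rw [map_mul, hσ2, mul_comm]⟩

omit [Fintype F] in
theorem hermSesq_sep {σ : F →+* F} (n : ℕ) (v : Fin n → F) (h : ∀ w, hermSesq σ n v w = 0) :
    v = 0 := by
  funext i
  have := h (Pi.single i 1)
  simpa [hermSesq_apply, Pi.single_apply] using this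

/-- A frobenius of order two is not the identity. -/
theorem conj_ne_id (hF : Fintype.card F = q ^ 2) {σ : F →+* F} (hσ : ∀ x, σ x = x ^ q) :
    σ ≠ RingHom.id F := by
  intro h
  have hq := two_le_q hF
  classical
  have hcard : (Finset.univ : Finset F).card ≤ q := by
    have hp : (Polynomial.X ^ q - Polynomial.X : Polynomial F) ≠ 0 :=
      FiniteField.X_pow_card_sub_X_ne_zero F hq
    refine le_trans (Polynomial.card_le_degree_of_subset_roots (p := Polynomial.X ^ q - Polynomial.X)
      fun x _ => ?_) (le_of_eq (FiniteField.X_pow_card_sub_X_natDegree_eq F hq))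
    rw [Polynomial.mem_roots hp]
    simp [← hσ, h]
  rw [Finset.card_univ, hF] at hcard
  nlinarith

end CfsgLib.Forms
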