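import Cfsg.Agent.Forms.Witt

/-!
# Isometry groups of sesquilinear forms: splitting and counting

Main results: `isoGroup`, `isoGroupCongr`, `stabSubmodule`, `stabEquivProd`, `fixEquiv`,
`card_smul_mem`, `card_stab_mul_card_frame`.
-/

namespace CfsgLib.Forms

set_option linter.style.haveILetI false

open Module Submodule

variable {F V V' : Type*} [Field F] [AddCommGroup V] [Module F V] [AddCommGroup V'] [Module F V']
  {σ : F →+* F}

/-- The isometry group of a sesquilinear form. -/
def isoGroup (B : V →ₛₗ[σ] V →ₗ[F] F) : Subgroup (V ≃ₗ[F] V) where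
  carrier := {g | ∀ u v, B (g u) (g v) = B u v}
  mul_mem' {a b} ha hb u v := (ha (b u) (b v)).trans (hb u v)
  one_mem' _ _ := rfl
  inv_mem' {a} ha u v := by
    have h := ha (a.symm u) (a.symm v)
    rw [LinearEquiv.apply_symm_apply, LinearEquiv.apply_symm_apply] at h
    exact h.symm

theorem mem_isoGroup {B : V →ₛₗ[σ] V →ₗ[F] F} {g : V ≃ₗ[F] V} :
    g ∈ isoGroup B ↔ ∀ u v, B (g u) (g v) = B u v := Iff.rfl

/-- Isometric spaces have isomorphic isometry groups. -/
def isoGroupCongr {B : V →ₛₗ[σ] V →ₗ[F] F} {B' : V' →ₛₗ[σ] V' →ₗ[F] F} (e : V ≃ₗ[F] V')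
    (h : ∀ u v, B' (e u) (e v) = B u v) : isoGroup B ≃* isoGroup B' where
  toFun g := ⟨(e.symm.trans g.1).trans e, fun u v => by
    show B' (e (g.1 (e.symm u))) (e (g.1 (e.symm v))) = B' u v
    rw [h, g.2, ← h, e.apply_symm_apply, e.apply_symm_apply]⟩
  invFun g := ⟨(e.trans g.1).trans e.symm, fun u v => by
    show B (e.symm (g.1 (e u))) (e.symm (g.1 (e v))) = B u v
    rw [← h, e.apply_symm_apply, e.apply_symm_apply, g.2, h]⟩
  left_inv g := by
    apply Subtype.ext; ext x
    simp
  right_inv g := by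
    apply Subtype.ext; ext x
    simp
  map_mul' a b := by
    apply Subtype.ext; ext x
    simp

/-- The restriction of a sesquilinear form to a subspace. -/
def restrictForm (B : V →ₛₗ[σ] V →ₗ[F] F) (W : Submodule F V) : W →ₛₗ[σ] W →ₗ[F] F where
  toFun x := (B (x : V)).comp W.subtype
  map_add' x y := by ext; simp
  map_smul' c x := by ext; simp

@[simp] theorem restrictForm_apply (B : V →ₛₗ[σ] V →ₗ[F] F) (W : Submodule F V) (x y : W) :
    restrictForm B W x y = B (x : V) (y : V) := rfl

/-- The isometries mapping `X` onto itself. -/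
def stabSubmodule (B : V →ₛₗ[σ] V →ₗ[F] F) (X : Submodule F V) : Subgroup (isoGroup B) where
  carrier := {g | ∀ x, g.1 x ∈ X ↔ x ∈ X}
  mul_mem' {a b} ha hb x := (ha (b.1 x)).trans (hb x)
  one_mem' _ := Iff.rfl
  inv_mem' {a} ha x := by
    have h := ha (a.1.symm x)
    rw [LinearEquiv.apply_symm_apply] at h
    exact h.symm

theorem mem_stabSubmodule_of_le [FiniteDimensional F V] {B : V →ₛₗ[σ] V →ₗ[F] F}
    {X : Submodule F V} {g : isoGroup B} (h : ∀ x ∈ X, g.1 x ∈ X) : g ∈ stabSubmodule B X := by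
  intro x
  refine ⟨fun hx => ?_, h x⟩
  have hinj : Function.Injective ((g.1.toLinearMap).restrict h) := fun a b hab =>
    Subtype.ext (g.1.injective (congrArg Subtype.val hab))
  obtain ⟨y, hy⟩ := (LinearMap.injective_iff_surjective.1 hinj) ⟨_, hx⟩
  have hy' : g.1 (y : V) = g.1 x := congrArg Subtype.val hy
  exact g.1.injective hy' ▸ y.2

/-- Restriction of an element of the stabiliser to the subspace. -/
def stabRestrict {B : V →ₛₗ[σ] V →ₗ[F] F} {X : Submodule F V} (g : isoGroup B)
    (h : ∀ x, g.1 x ∈ X ↔ x ∈ X) : X ≃ₗ[F] X where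
  toFun x := ⟨g.1 x, (h x).2 x.2⟩
  map_add' a b := Subtype.ext (map_add g.1 _ _)
  map_smul' c a := Subtype.ext (map_smul g.1 _ _)
  invFun x := ⟨g.1.symm x, (h _).1 (by rw [LinearEquiv.apply_symm_apply]; exact x.2)⟩
  left_inv x := Subtype.ext (g.1.symm_apply_apply _)
  right_inv x := Subtype.ext (g.1.apply_symm_apply _)

theorem stab_orthogonal {B : V →ₛₗ[σ] V →ₗ[F] F} {X W : Submodule F V}
    (hW : ∀ v, v ∈ W ↔ ∀ x ∈ X, B x v = 0) {g : isoGroup B}
    (h : ∀ x, g.1 x ∈ X ↔ x ∈ X) (v : V) : g.1 v ∈ W ↔ v ∈ W := by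
  rw [hW, hW]
  constructor
  · intro hv x hx
    rw [← g.2 x v]
    exact hv _ ((h x).2 hx)
  · intro hv x hx
    obtain ⟨y, rfl⟩ := g.1.surjective x
    rw [g.2]
    exact hv y ((h y).1 hx)

/-- An isometry of `X` and one of `W` glue to an isometry of `V = X ⊕ W`. -/
noncomputable def glue {B : V →ₛₗ[σ] V →ₗ[F] F} {X W : Submodule F V} (hc : IsCompl X W)
    (hXW : ∀ x ∈ X, ∀ w ∈ W, B x w = 0) (hWX : ∀ w ∈ W, ∀ x ∈ X, B w x = 0)
    (p : isoGroup (restrictForm B X) × isoGroup (restrictForm B W)) : isoGroup B :=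
  ⟨((Submodule.prodEquivOfIsCompl X W hc).symm.trans (p.1.1.prodCongr p.2.1)).trans
    (Submodule.prodEquivOfIsCompl X W hc), fun u v => by
    obtain ⟨a, rfl⟩ := (Submodule.prodEquivOfIsCompl X W hc).surjective u
    obtain ⟨b, rfl⟩ := (Submodule.prodEquivOfIsCompl X W hc).surjective v
    have h1 := p.1.2 a.1 b.1
    have h2 := p.2.2 a.2 b.2
    simp only [restrictForm_apply] at h1 h2
    simp [h1, h2, hXW _ a.1.2 _ b.2.2, hWX _ a.2.2 _ b.1.2, hXW _ (p.1.1 a.1).2 _ (p.2.1 b.2).2,
      hWX _ (p.2.1 a.2).2 _ (p.1.1 b.1).2]⟩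

theorem glue_apply {B : V →ₛₗ[σ] V →ₗ[F] F} {X W : Submodule F V} (hc : IsCompl X W)
    (hXW : ∀ x ∈ X, ∀ w ∈ W, B x w = 0) (hWX : ∀ w ∈ W, ∀ x ∈ X, B w x = 0)
    (p : isoGroup (restrictForm B X) × isoGroup (restrictForm B W)) (x : X) (w : W) :
    (glue hc hXW hWX p).1 ((x : V) + w) = (p.1.1 x : V) + (p.2.1 w : V) := by
  have h : (Submodule.prodEquivOfIsCompl X W hc).symm ((x : V) + w) = (x, w) := by
    rw [LinearEquiv.symm_apply_eq]; rfl
  simp only [glue, LinearEquiv.trans_apply]
  rw [h]
  rfl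

/-- The stabiliser of `X` is the product of the isometry groups of `X` and of `X^⊥`, when these
are complementary. -/
noncomputable def stabEquivProd {B : V →ₛₗ[σ] V →ₗ[F] F} {X W : Submodule F V} (hc : IsCompl X W)
    (hW : ∀ v, v ∈ W ↔ ∀ x ∈ X, B x v = 0) (hrefl : ∀ u v, B u v = 0 → B v u = 0) :
    stabSubmodule B X ≃* isoGroup (restrictForm B X) × isoGroup (restrictForm B W) where
  toFun g := (⟨stabRestrict g.1 g.2, fun u v => g.1.2 u v⟩,
    ⟨stabRestrict g.1 (stab_orthogonal hW g.2), fun u v => g.1.2 u v⟩)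
  invFun p := ⟨glue hc (fun x hx w hw => (hW w).1 hw x hx)
      (fun w hw x hx => hrefl _ _ ((hW w).1 hw x hx)) p, fun v => by
    obtain ⟨a, rfl⟩ := (Submodule.prodEquivOfIsCompl X W hc).surjective v
    rw [show (Submodule.prodEquivOfIsCompl X W hc) a = (a.1 : V) + a.2 from rfl, glue_apply]
    constructor
    · intro h
      have h' := X.sub_mem h (p.1.1 a.1).2
      rw [add_sub_cancel_left] at h'
      have h0 : (p.2.1 a.2 : V) = 0 :=
        Submodule.disjoint_def.1 hc.disjoint _ h' (p.2.1 a.2).2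
      have : a.2 = 0 := p.2.1.injective (by rw [map_zero]; exact Subtype.ext h0)
      simp [this]
    · intro h
      have h' := X.sub_mem h a.1.2
      rw [add_sub_cancel_left] at h'
      have h0 : a.2 = 0 := Subtype.ext (Submodule.disjoint_def.1 hc.disjoint _ h' a.2.2)
      simp [h0]⟩
  left_inv g := by
    apply Subtype.ext; apply Subtype.ext; ext v
    obtain ⟨a, rfl⟩ := (Submodule.prodEquivOfIsCompl X W hc).surjective v
    rw [show (Submodule.prodEquivOfIsCompl X W hc) a = (a.1 : V) + a.2 from rfl]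
    exact (glue_apply hc (fun x hx w hw => (hW w).1 hw x hx)
      (fun w hw x hx => hrefl _ _ ((hW w).1 hw x hx)) _ a.1 a.2).trans (map_add g.1.1 _ _).symm
  right_inv p := by
    refine Prod.ext (Subtype.ext ?_) (Subtype.ext ?_) <;> ext x
    · show (glue hc (fun x hx w hw => (hW w).1 hw x hx)
        (fun w hw x hx => hrefl _ _ ((hW w).1 hw x hx)) p).1 (x : V) = (p.1.1 x : V)
      have := glue_apply hc (fun x hx w hw => (hW w).1 hw x hx)
        (fun w hw x hx => hrefl _ _ ((hW w).1 hw x hx)) p x 0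
      simpa using this
    · show (glue hc (fun x hx w hw => (hW w).1 hw x hx)
        (fun w hw x hx => hrefl _ _ ((hW w).1 hw x hx)) p).1 (x : V) = (p.2.1 x : V)
      have := glue_apply hc (fun x hx w hw => (hW w).1 hw x hx)
        (fun w hw x hx => hrefl _ _ ((hW w).1 hw x hx)) p 0 x
      simpa using this
  map_mul' g h := rfl

theorem fix_mem_stabSubmodule {B : V →ₛₗ[σ] V →ₗ[F] F} {X : Submodule F V} {g : isoGroup B}
    (h : ∀ x ∈ X, g.1 x = x) : g ∈ stabSubmodule B X := fun x => by
  constructor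
  · intro hx
    exact (g.1.injective (h _ hx)) ▸ hx
  · intro hx; rw [h x hx]; exact hx

/-- The isometries fixing `X` pointwise form the isometry group of `X^⊥`. -/
noncomputable def fixEquiv {B : V →ₛₗ[σ] V →ₗ[F] F} {X W : Submodule F V} (hc : IsCompl X W)
    (hW : ∀ v, v ∈ W ↔ ∀ x ∈ X, B x v = 0) (hrefl : ∀ u v, B u v = 0 → B v u = 0) :
    {g : isoGroup B // ∀ x ∈ X, g.1 x = x} ≃ isoGroup (restrictForm B W) where
  toFun g := (stabEquivProd hc hW hrefl ⟨g.1, fix_mem_stabSubmodule g.2⟩).2
  invFun b := ⟨((stabEquivProd hc hW hrefl).symm (1, b)).1, fun x hx => by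
    have h := congrArg (fun p : isoGroup (restrictForm B X) × isoGroup (restrictForm B W) =>
      ((p.1.1 ⟨x, hx⟩ : X) : V)) ((stabEquivProd hc hW hrefl).apply_symm_apply (1, b))
    exact h⟩
  left_inv g := by
    apply Subtype.ext
    simp only
    set s : stabSubmodule B X := ⟨g.1, fix_mem_stabSubmodule g.2⟩
    have h1 : (stabEquivProd hc hW hrefl s).1 = 1 := by
      apply Subtype.ext; ext x
      exact g.2 x x.2
    have key : (stabEquivProd hc hW hrefl).symm (1, (stabEquivProd hc hW hrefl s).2) = s := by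
      rw [show ((1 : isoGroup (restrictForm B X)), (stabEquivProd hc hW hrefl s).2)
        = stabEquivProd hc hW hrefl s from Prod.ext h1.symm rfl, MulEquiv.symm_apply_apply]
    exact congrArg Subtype.val key
  right_inv b := by
    show (stabEquivProd hc hW hrefl ((stabEquivProd hc hW hrefl).symm (1, b))).2 = b
    rw [MulEquiv.apply_symm_apply]

/-- Finiteness of the isometry group of a finite space. -/
theorem finite_isoGroup [Finite V] (B : V →ₛₗ[σ] V →ₗ[F] F) : Finite (isoGroup B) := by
  haveI : Finite (V ≃ₗ[F] V) :=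
    Finite.of_injective (fun g => (g : V → V)) DFunLike.coe_injective
  infer_instance

/-- The elements carrying `x` into a subset of its orbit. -/
theorem card_smul_mem {G α : Type*} [Group G] [MulAction G α] (x : α) (S : Set α)
    (hS : S ⊆ MulAction.orbit G x) :
    Nat.card {g : G // g • x ∈ S} = Nat.card S * Nat.card (MulAction.stabilizer G x) := by
  choose t ht using fun s : S => MulAction.mem_orbit_iff.1 (hS s.2)
  rw [← Nat.card_prod]
  refine Nat.card_congr
    { toFun := fun g => (⟨g.1 • x, g.2⟩, ⟨(t ⟨g.1 • x, g.2⟩)⁻¹ * g.1, ?_⟩)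
      invFun := fun p => ⟨t p.1 * p.2.1, ?_⟩
      left_inv := fun g => Subtype.ext (mul_inv_cancel_left _ _)
      right_inv := fun p => ?_ }
  · rw [MulAction.mem_stabilizer_iff, mul_smul, inv_smul_eq_iff]
    exact (ht ⟨g.1 • x, g.2⟩).symm
  · rw [mul_smul, MulAction.mem_stabilizer_iff.1 p.2.2, ht]
    exact p.1.2
  · have h : (t p.1 * p.2.1) • x = (p.1 : α) := by
      rw [mul_smul, MulAction.mem_stabilizer_iff.1 p.2.2, ht]
    have h' : (⟨(t p.1 * p.2.1) • x, by rw [h]; exact p.1.2⟩ : S) = p.1 := Subtype.ext h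
    refine Prod.ext h' (Subtype.ext ?_)
    show (t _)⁻¹ * (t p.1 * p.2.1) = p.2.1
    rw [h', inv_mul_cancel_left]

/-- `|G| = |orbit| · |stabiliser|`. -/
theorem card_eq_orbit_mul_stabilizer {G α : Type*} [Group G] [MulAction G α] (x : α) :
    Nat.card G = Nat.card (MulAction.orbit G x) * Nat.card (MulAction.stabilizer G x) := by
  rw [← card_smul_mem x (MulAction.orbit G x) subset_rfl]
  exact Nat.card_congr (Equiv.subtypeUnivEquiv fun g => MulAction.mem_orbit x g).symm

/-! ### Totally isotropic frames -/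

/-- Independent families spanning totally isotropic subspaces. -/
def frames (B : V →ₛₗ[σ] V →ₗ[F] F) (k : ℕ) : Set (Fin k → V) :=
  {f | LinearIndependent F f ∧ ∀ i j, B (f i) (f j) = 0}

/-- The possible next vectors of a frame. -/
def frameExt (B : V →ₛₗ[σ] V →ₗ[F] F) {k : ℕ} (f : Fin k → V) : Set V :=
  {v | v ∉ span F (Set.range f) ∧ B v v = 0 ∧ ∀ i, B (f i) v = 0}

theorem card_frames [Finite F] [Finite V] (B : V →ₛₗ[σ] V →ₗ[F] F)
    (hrefl : ∀ u v, B u v = 0 → B v u = 0) (c : ℕ → ℕ) : ∀ k,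
    (∀ i < k, ∀ f ∈ frames B i, Nat.card (frameExt B f) = c i) →
      Nat.card (frames B k) = ∏ i ∈ Finset.range k, c i := by
  intro k
  induction k with
  | zero =>
    intro _
    haveI : Unique (frames B 0) :=
      { default := ⟨Fin.elim0, linearIndependent_empty_type, fun i => i.elim0⟩
        uniq := fun f => Subtype.ext (funext fun i => i.elim0) }
    simp
  | succ k ih =>
    intro hc
    let e : frames B (k + 1) ≃ Σ f : frames B k, frameExt B f.1 :=
      { toFun := fun f => ⟨⟨Fin.init f.1,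
            f.2.1.comp _ (Fin.castSucc_injective k), fun i j => f.2.2 _ _⟩,
          ⟨f.1 (Fin.last k), by
            have h := f.2.1
            rw [← Fin.snoc_init_self f.1, linearIndependent_finSnoc] at h
            exact ⟨h.2, f.2.2 _ _, fun i => f.2.2 _ _⟩⟩⟩
        invFun := fun p => ⟨Fin.snoc p.1.1 p.2.1,
          linearIndependent_finSnoc.2 ⟨p.1.2.1, p.2.2.1⟩, by
            intro i j
            induction i using Fin.lastCases with
            | last =>
              induction j using Fin.lastCases with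
              | last => simpa using p.2.2.2.1
              | cast j => simpa using hrefl _ _ (p.2.2.2.2 j)
            | cast i =>
              induction j using Fin.lastCases with
              | last => simpa using p.2.2.2.2 i
              | cast j => simpa using p.1.2.2 i j⟩
        left_inv := fun f => Subtype.ext (Fin.snoc_init_self f.1)
        right_inv := fun p => by
          obtain ⟨⟨f, hf⟩, ⟨v, hv⟩⟩ := p
          refine Sigma.subtype_ext (Subtype.ext ?_) ?_ <;> simp }
    haveI : Fintype (frames B k) := Fintype.ofFinite _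
    rw [Nat.card_congr e, Nat.card_sigma, Finset.sum_congr rfl
      (fun f _ => hc k (Nat.lt_succ_self k) f.1 f.2), Finset.prod_range_succ, ← ih
      (fun i hi => hc i (Nat.lt_succ_of_lt hi))]
    simp [Nat.card_eq_fintype_card]

/-- The orbit of a frame consists of all frames, given Witt's theorem. -/
theorem orbit_frame_eq [FiniteDimensional F V] (B : V →ₛₗ[σ] V →ₗ[F] F)
    (hwitt : ∀ (X Y : Submodule F V) (φ : X ≃ₗ[F] Y),
      (∀ x x' : X, B (φ x : V) (φ x' : V) = B (x : V) (x' : V)) →
      ∃ g : V ≃ₗ[F] V, (∀ u v : V, B (g u) (g v) = B u v) ∧ ∀ x : X, g (x : V) = (φ x : V))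
    {k : ℕ} {f : Fin k → V} (hf : f ∈ frames B k) :
    MulAction.orbit (isoGroup B) f = frames B k := by
  ext f'
  constructor
  · rintro ⟨g, rfl⟩
    refine ⟨hf.1.map' g.1.toLinearMap g.1.ker, fun i j => ?_⟩
    show B (g.1 (f i)) (g.1 (f j)) = 0
    rw [g.2]; exact hf.2 i j
  · intro hf'
    have zero : ∀ (h : Fin k → V), h ∈ frames B k → ∀ x ∈ span F (Set.range h),
        ∀ y ∈ span F (Set.range h), B x y = 0 := by
      intro h hh x hx y hy
      induction hx using Submodule.span_induction with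
      | mem x hx =>
        obtain ⟨i, rfl⟩ := hx
        induction hy using Submodule.span_induction with
        | mem y hy => obtain ⟨j, rfl⟩ := hy; exact hh.2 i j
        | zero => simp
        | add a b _ _ ha hb => simp [ha, hb]
        | smul c a _ ha => simp [ha]
      | zero => simp
      | add a b _ _ ha hb => simp [ha, hb]
      | smul c a _ ha => simp [ha]
    let φ := (Basis.span hf.1).equiv (Basis.span hf'.1) (Equiv.refl _)
    obtain ⟨g, hg, hgX⟩ := hwitt _ _ φ fun x x' => by
      rw [zero f hf _ x.2 _ x'.2, zero f' hf' _ (φ x).2 _ (φ x').2]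
    refine ⟨⟨g, hg⟩, funext fun i => ?_⟩
    show g (f i) = f' i
    have h := hgX (Basis.span hf.1 i)
    rw [Basis.equiv_apply, Equiv.refl_apply] at h
    simpa [Basis.span_apply] using h

/-- `|Stab W| · #frames = |G| · #bases of W` for totally isotropic `W`. -/
theorem card_stab_mul_card_frames [Fintype F] [Finite V] [FiniteDimensional F V]
    (B : V →ₛₗ[σ] V →ₗ[F] F)
    (hwitt : ∀ (X Y : Submodule F V) (φ : X ≃ₗ[F] Y),
      (∀ x x' : X, B (φ x : V) (φ x' : V) = B (x : V) (x' : V)) →
      ∃ g : V ≃ₗ[F] V, (∀ u v : V, B (g u) (g v) = B u v) ∧ ∀ x : X, g (x : V) = (φ x : V))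
    {k : ℕ} (W : Submodule F V) (hWk : finrank F W = k) (hW : ∀ u ∈ W, ∀ v ∈ W, B u v = 0) :
    Nat.card (stabSubmodule B W) * Nat.card (frames B k) =
      Nat.card (isoGroup B) * ∏ i : Fin k, (Fintype.card F ^ k - Fintype.card F ^ (i : ℕ)) := by
  haveI := finite_isoGroup B
  let b := Module.finBasisOfFinrankEq F W hWk
  obtain ⟨f, hfdef⟩ : ∃ f : Fin k → V, f = fun i => (b i : V) := ⟨_, rfl⟩
  have hfW : ∀ i, f i ∈ W := fun i => by rw [hfdef]; exact (b i).2
  have hf : f ∈ frames B k :=
    ⟨hfdef ▸ b.linearIndependent.map' W.subtype W.ker_subtype,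
      fun i j => hW _ (hfW i) _ (hfW j)⟩
  let S : Set (Fin k → V) := frames B k ∩ {f' | ∀ i, f' i ∈ W}
  have hS : S ⊆ MulAction.orbit (isoGroup B) f := by
    rw [orbit_frame_eq B hwitt hf]; exact Set.inter_subset_left
  have hiff : ∀ g : isoGroup B, g • f ∈ S ↔ g ∈ stabSubmodule B W := by
    intro g
    constructor
    · intro hg
      apply mem_stabSubmodule_of_le
      intro x hx
      have hx' : x = ∑ i, b.repr ⟨x, hx⟩ i • f i := by
        have h := congrArg Subtype.val (b.sum_repr ⟨x, hx⟩)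
        simp only [Submodule.coe_sum, Submodule.coe_smul] at h
        simp only [hfdef]
        exact h.symm
      rw [hx', map_sum]
      exact W.sum_mem fun i _ => by rw [map_smul]; exact W.smul_mem _ (hg.2 i)
    · intro hg
      refine ⟨?_, fun i => (hg _).2 (hfW i)⟩
      rw [← orbit_frame_eq B hwitt hf]
      exact MulAction.mem_orbit f g
  have h1 : Nat.card (stabSubmodule B W) = Nat.card S * Nat.card (MulAction.stabilizer (isoGroup B) f) := by
    rw [← card_smul_mem f S hS]
    exact Nat.card_congr (Equiv.subtypeEquivRight fun g => (hiff g).symm)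
  have h2 : Nat.card S = ∏ i : Fin k, (Fintype.card F ^ k - Fintype.card F ^ (i : ℕ)) := by
    haveI : Fintype W := Fintype.ofFinite W
    have hcard := card_linearIndependent (K := F) (V := W) (k := k) (by omega)
    rw [hWk] at hcard
    rw [← hcard]
    refine Nat.card_congr
      { toFun := fun s => ⟨fun i => ⟨s.1 i, s.2.2 i⟩, LinearIndependent.of_comp W.subtype s.2.1.1⟩
        invFun := fun s => ⟨fun i => (s.1 i : V), ⟨⟨s.2.map' W.subtype W.ker_subtype,
          fun i j => hW _ (s.1 i).2 _ (s.1 j).2⟩, fun i => (s.1 i).2⟩⟩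
        left_inv := fun s => rfl
        right_inv := fun s => rfl }
  rw [h1, h2, card_eq_orbit_mul_stabilizer (G := isoGroup B) f, orbit_frame_eq B hwitt hf]
  ring

end CfsgLib.Forms

namespace CfsgLib.Forms

open Module Submodule

variable {F V : Type*} [Field F] [AddCommGroup V] [Module F V] {σ : F →+* F}

/-- A family in a totally isotropic subspace spans it when it is a basis-sized independent one. -/
theorem span_range_eq_of_mem [FiniteDimensional F V] {k : ℕ} {f : Fin k → V}
    (hf : LinearIndependent F f) {W : Submodule F V} (hWk : finrank F W = k) (h : ∀ i, f i ∈ W) :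
    span F (Set.range f) = W := by
  refine Submodule.eq_of_le_of_finrank_le (Submodule.span_le.2 ?_) ?_
  · rintro _ ⟨i, rfl⟩; exact h i
  · rw [finrank_span_eq_card hf, Fintype.card_fin, hWk]

/-- `#(totally isotropic k-subspaces) · #bases = #frames`. -/
theorem card_isotropic_mul [Fintype F] [Finite V] [FiniteDimensional F V]
    (B : V →ₛₗ[σ] V →ₗ[F] F) (k : ℕ) :
    Nat.card {W : Submodule F V // finrank F W = k ∧ ∀ u ∈ W, ∀ v ∈ W, B u v = 0} *
        ∏ i : Fin k, (Fintype.card F ^ k - Fintype.card F ^ (i : ℕ)) =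
      Nat.card (frames B k) := by
  have hspan : ∀ f ∈ frames B k, finrank F (span F (Set.range f)) = k ∧
      ∀ u ∈ span F (Set.range f), ∀ v ∈ span F (Set.range f), B u v = 0 := by
    intro f hf
    refine ⟨by rw [finrank_span_eq_card hf.1, Fintype.card_fin], fun u hu v hv => ?_⟩
    induction hu using Submodule.span_induction with
    | mem x hx =>
      obtain ⟨i, rfl⟩ := hx
      induction hv using Submodule.span_induction with
      | mem y hy => obtain ⟨j, rfl⟩ := hy; exact hf.2 i j
      | zero => simp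
      | add a b _ _ ha hb => simp [ha, hb]
      | smul c a _ ha => simp [ha]
    | zero => simp
    | add a b _ _ ha hb => simp [ha, hb]
    | smul c a _ ha => simp [ha]
  let P := {W : Submodule F V // finrank F W = k ∧ ∀ u ∈ W, ∀ v ∈ W, B u v = 0}
  haveI : Finite P := Finite.of_injective (fun W : P => (W.1 : Set V))
    (fun a b h => Subtype.ext (SetLike.coe_injective h))
  haveI : Fintype P := Fintype.ofFinite P
  let e : frames B k ≃
      Σ W : P, {s : Fin k → V // LinearIndependent F s ∧ ∀ i, s i ∈ W.1} :=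
    { toFun := fun f => ⟨⟨_, hspan f.1 f.2⟩, ⟨f.1, f.2.1, fun i => subset_span ⟨i, rfl⟩⟩⟩
      invFun := fun p => ⟨p.2.1, p.2.2.1,
        fun i j => p.1.2.2 _ (p.2.2.2 i) _ (p.2.2.2 j)⟩
      left_inv := fun f => rfl
      right_inv := fun p => Sigma.subtype_ext
        (Subtype.ext (span_range_eq_of_mem p.2.2.1 p.1.2.1 p.2.2.2)) rfl }
  rw [Nat.card_congr e, Nat.card_sigma]
  have hc : ∀ W : P, Nat.card {s : Fin k → V // LinearIndependent F s ∧ ∀ i, s i ∈ W.1} =
      ∏ i : Fin k, (Fintype.card F ^ k - Fintype.card F ^ (i : ℕ)) := fun W => by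
    have h := card_linearIndependent (K := F) (V := W.1) (k := k) W.2.1.ge
    rw [W.2.1] at h
    rw [← h]
    exact Nat.card_congr
      { toFun := fun s => ⟨fun i => ⟨s.1 i, s.2.2 i⟩, LinearIndependent.of_comp W.1.subtype s.2.1⟩
        invFun := fun s => ⟨fun i => (s.1 i : V), s.2.map' W.1.subtype W.1.ker_subtype,
          fun i => (s.1 i).2⟩
        left_inv := fun s => rfl
        right_inv := fun s => rfl }
  rw [Finset.sum_congr rfl fun W _ => hc W, Finset.sum_const, Finset.card_univ,
    ← Nat.card_eq_fintype_card (α := P), smul_eq_mul]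

end CfsgLib.Forms
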