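import Cfsg.Prelude.Def_ClassicalGeometry
import Cfsg.Agent.Forms.HermitianCount
import Cfsg.Agent.Forms.IsoGroup

/-!
# Orders of unitary groups and of their stabilisers

Main results: `card_herm_value`, `card_isoGroup_herm`, `guEquivIso`, `card_GU`, `card_SU_mul`,
`card_frames_herm`, `exists_det_stab`, `card_stab_SU_mul`.
-/

namespace CfsgLib.Forms

open Module Submodule

set_option linter.style.haveILetI false

variable {F V : Type*} [Field F] [AddCommGroup V] [Module F V] {σ : F →+* F}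

theorem herm_refl {B : V →ₛₗ[σ] V →ₗ[F] F} (hS : B.IsSymm) :
    ∀ u v, B u v = 0 → B v u = 0 := fun u v h => by rw [← hS.eq, h, map_zero]

variable [Fintype F] {q : ℕ}

/-- The number of vectors of given norm. -/
theorem card_herm_value [DecidableEq F] [FiniteDimensional F V] (hF : Fintype.card F = q ^ 2)
    (hσ : ∀ x, σ x = x ^ q) (hσ2 : ∀ x, σ (σ x) = x) (B : V →ₛₗ[σ] V →ₗ[F] F) (hS : B.IsSymm)
    (hB : ∀ x, (∀ y, B x y = 0) → x = 0) {n : ℕ} (hn : finrank F V = n) (μ : F) (hμ : μ ^ q = μ) :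
    (Nat.card {v : V // B v v = μ} : ℤ) * q =
      (q : ℤ) ^ (2 * n) + ((q : ℤ) * (if μ = 0 then 1 else 0) - 1) * (-(q : ℤ)) ^ n := by
  obtain ⟨b, hb⟩ := exists_orthonormal_basis_hermitian (conj_ne_id hF hσ) hσ2 B hS hB hn
  rw [← card_sumNorm hF n μ hμ]
  congr 2
  refine Nat.card_congr (b.equivFun.toEquiv.subtypeEquiv fun v => ?_)
  have hval : B v v = ∑ i, b.equivFun v i ^ (q + 1) := by
    generalize hc : b.equivFun v = c
    have hv : v = ∑ i, c i • b i := by rw [← hc, b.sum_equivFun]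
    rw [hv]
    simp [hb, hσ, pow_succ, mul_comm]
  exact hval ▸ Iff.rfl

theorem card_norm_one [FiniteDimensional F V] (hF : Fintype.card F = q ^ 2)
    (hσ : ∀ x, σ x = x ^ q) (hσ2 : ∀ x, σ (σ x) = x) (B : V →ₛₗ[σ] V →ₗ[F] F) (hS : B.IsSymm)
    (hB : ∀ x, (∀ y, B x y = 0) → x = 0) {n : ℕ} (hn : finrank F V = n + 1) :
    Nat.card {v : V // B v v = 1} = q ^ n * u q (n + 1) := by
  classical
  have hq := two_le_q hF
  have h := card_herm_value hF hσ hσ2 B hS hB hn 1 (one_pow q)
  rw [if_neg one_ne_zero, mul_zero, zero_sub] at h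
  have hq0 : (q : ℤ) ≠ 0 := by exact_mod_cast (show q ≠ 0 by omega)
  apply Int.ofNat.inj
  show (Nat.card {v : V // B v v = 1} : ℤ) = ((q ^ n * u q (n + 1) : ℕ) : ℤ)
  apply mul_right_cancel₀ hq0
  rw [h, Nat.cast_mul, Nat.cast_pow, u_cast (by omega), neg_pow (q : ℤ)]
  ring

theorem card_isotropic [FiniteDimensional F V] (hF : Fintype.card F = q ^ 2)
    (hσ : ∀ x, σ x = x ^ q) (hσ2 : ∀ x, σ (σ x) = x) (B : V →ₛₗ[σ] V →ₗ[F] F) (hS : B.IsSymm)
    (hB : ∀ x, (∀ y, B x y = 0) → x = 0) {n : ℕ} (hn : finrank F V = n) :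
    Nat.card {v : V // B v v = 0} = u q n * u q (n - 1) + 1 := by
  classical
  have hq := two_le_q hF
  have h := card_herm_value hF hσ hσ2 B hS hB hn 0 (zero_pow (by omega))
  rw [if_pos rfl, mul_one] at h
  have hq0 : (q : ℤ) ≠ 0 := by exact_mod_cast (show q ≠ 0 by omega)
  apply Int.ofNat.inj
  show (Nat.card {v : V // B v v = 0} : ℤ) = ((u q n * u q (n - 1) + 1 : ℕ) : ℤ)
  apply mul_right_cancel₀ hq0
  rw [h, Nat.cast_add, Nat.cast_mul, u_cast (by omega), u_cast (by omega), Nat.cast_one]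
  rcases n with _ | n
  · simp
  · rw [Nat.add_sub_cancel, neg_pow (q : ℤ)]
    have h1 : ((-1 : ℤ) ^ n) * (-1) ^ n = 1 := by rw [← pow_add]; exact Even.neg_one_pow ⟨n, rfl⟩
    ring_nf
    rw [show ((-1 : ℤ) ^ (n * 2)) = 1 from by rw [mul_comm, pow_mul]; simp]
    ring

/-- `|GU(V)|`. -/
theorem card_isoGroup_herm [Finite V] [FiniteDimensional F V] (hF : Fintype.card F = q ^ 2)
    (hσ : ∀ x, σ x = x ^ q) (hσ2 : ∀ x, σ (σ x) = x) (B : V →ₛₗ[σ] V →ₗ[F] F) (hS : B.IsSymm)
    (hB : ∀ x, (∀ y, B x y = 0) → x = 0) {n : ℕ} (hn : finrank F V = n) :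
    Nat.card (isoGroup B) =
      q ^ (∑ i ∈ Finset.range n, i) * ∏ i ∈ Finset.range n, u q (i + 1) := by
  induction n generalizing V with
  | zero =>
    haveI : Subsingleton V := Module.finrank_zero_iff.1 hn
    haveI : Unique (isoGroup B) :=
      { default := 1, uniq := fun g => Subtype.ext (LinearEquiv.ext fun x => Subsingleton.elim _ _) }
    simp
  | succ n ih =>
    have hσ1 := conj_ne_id hF hσ
    obtain ⟨b, hb⟩ := exists_orthonormal_basis_hermitian hσ1 hσ2 B hS hB hn
    obtain ⟨v, hv⟩ : ∃ v, B v v = 1 := ⟨b 0, by simpa using hb 0 0⟩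
    have hv0 : B v v ≠ 0 := by rw [hv]; exact one_ne_zero
    have hne : ∀ {w : V}, B w w = 1 → w ≠ 0 := fun h h' => by simp [h'] at h
    have horb : MulAction.orbit (isoGroup B) v = {w | B w w = 1} := by
      ext w
      constructor
      · rintro ⟨g, rfl⟩
        show B (g.1 v) (g.1 v) = 1
        rw [g.2, hv]
      · intro hw
        have hw' : B w w = 1 := hw
        let φ := (LinearEquiv.toSpanNonzeroSingleton F V v (hne hv)).symm.trans
          (LinearEquiv.toSpanNonzeroSingleton F V w (hne hw'))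
        obtain ⟨g, hg, hgX⟩ := witt_hermitian hσ1 hσ2 B hS
          ⟨hB, fun x hx => hB x fun y => herm_refl hS _ _ (hx y)⟩ _ _ φ fun x x' => by
            obtain ⟨a, rfl⟩ := (LinearEquiv.toSpanNonzeroSingleton F V v (hne hv)).surjective x
            obtain ⟨a', rfl⟩ := (LinearEquiv.toSpanNonzeroSingleton F V v (hne hv)).surjective x'
            simp only [φ, LinearEquiv.trans_apply, LinearEquiv.symm_apply_apply]
            simp [hv, hw', LinearEquiv.toSpanNonzeroSingleton_apply]
        refine ⟨⟨g, hg⟩, ?_⟩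
        have h := hgX (LinearEquiv.toSpanNonzeroSingleton F V v (hne hv) 1)
        show g v = w
        simp only [φ, LinearEquiv.trans_apply, LinearEquiv.symm_apply_apply] at h
        simpa [LinearEquiv.toSpanNonzeroSingleton_apply] using h
    have hW : ∀ z, z ∈ LinearMap.ker (B v) ↔ ∀ x ∈ span F {v}, B x z = 0 := by
      intro z
      constructor
      · intro hz x hx
        obtain ⟨a, rfl⟩ := Submodule.mem_span_singleton.1 hx
        simp [(LinearMap.mem_ker).1 hz]
      · exact fun hz => hz v (mem_span_singleton_self v)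
    have hc : IsCompl (span F {v}) (LinearMap.ker (B v)) := by
      refine IsCompl.of_eq ?_ ?_
      · rw [eq_bot_iff]
        intro x hx
        obtain ⟨a, rfl⟩ := Submodule.mem_span_singleton.1 hx.1
        have := (LinearMap.mem_ker).1 hx.2
        simp [hv] at this
        simp [this]
      · rw [eq_top_iff]
        intro x _
        rw [Submodule.mem_sup]
        exact ⟨B v x • v, Submodule.mem_span_singleton.2 ⟨_, rfl⟩, x - B v x • v,
          by simp [hv], by abel⟩
    have hstab : Nat.card (MulAction.stabilizer (isoGroup B) v) =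
        Nat.card (isoGroup (restrictForm B (LinearMap.ker (B v)))) := by
      rw [← Nat.card_congr (fixEquiv hc hW (herm_refl hS))]
      refine Nat.card_congr (Equiv.subtypeEquivRight fun g => ?_)
      rw [MulAction.mem_stabilizer_iff]
      constructor
      · intro h x hx
        obtain ⟨a, rfl⟩ := Submodule.mem_span_singleton.1 hx
        have h0 : g.1 v = v := h
        simp [h0]
      · exact fun h => h v (mem_span_singleton_self v)
    rw [card_eq_orbit_mul_stabilizer (G := isoGroup B) v, horb, hstab,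
      ih (restrictForm B (LinearMap.ker (B v))) ⟨fun x y => hS.eq x y⟩
        (sep_restrict_ker B (ε := 1) (fun x y => by rw [one_mul, hS.eq]) hB hv0)
        (by have := finrank_ker_apply B hv0; omega),
      show Nat.card ({w | B w w = 1} : Set V) = Nat.card {w : V // B w w = 1} from rfl,
      card_norm_one hF hσ hσ2 B hS hB hn, Finset.prod_range_succ, Finset.sum_range_succ, pow_add]
    ring

/-! ### Isotropic frames -/

/-- Extensions of an isotropic frame of a Hermitian form. -/
theorem card_frameExt_herm [Finite V] [FiniteDimensional F V] (hF : Fintype.card F = q ^ 2)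
    (hσ : ∀ x, σ x = x ^ q) (hσ2 : ∀ x, σ (σ x) = x) (B : V →ₛₗ[σ] V →ₗ[F] F) (hS : B.IsSymm)
    (hB : ∀ x, (∀ y, B x y = 0) → x = 0) {n i : ℕ} (hn : finrank F V = n) {f : Fin i → V}
    (hf : f ∈ frames B i) :
    Nat.card (frameExt B f) = (q ^ 2) ^ i * (u q (n - 2 * i) * u q (n - 2 * i - 1)) := by
  classical
  obtain ⟨X, hXdef⟩ : ∃ X, X = span F (Set.range f) := ⟨_, rfl⟩
  let L : V →ₗ[F] (Fin i → F) := LinearMap.pi fun j => B (f j)
  have hLsurj : Function.Surjective L := by
    let c := Basis.span hf.1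
    have hw : ∀ j, ∃ w, ∀ l, B (f l) w = if l = j then 1 else 0 := by
      intro j
      obtain ⟨φ, hφ⟩ := LinearMap.exists_extend (c.coord j)
      obtain ⟨w, hw⟩ := exists_rep B hσ2 hB φ
      refine ⟨w, fun l => ?_⟩
      have h : φ (f l) = c.coord j (c l) := by
        have := LinearMap.congr_fun hφ (c l)
        simpa [c, Basis.span_apply] using this
      rw [← hS.eq, hw, h]
      simp [c, Finsupp.single_apply]
    choose w hw using hw
    intro a
    refine ⟨∑ j, a j • w j, funext fun l => ?_⟩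
    simp [L, hw]
  obtain ⟨Y, hYdef⟩ : ∃ Y, Y = LinearMap.ker L := ⟨_, rfl⟩
  have hmem : ∀ v, v ∈ Y ↔ ∀ j, B (f j) v = 0 := fun v => by
    rw [hYdef, LinearMap.mem_ker]
    exact ⟨fun h j => congrFun h j, fun h => funext h⟩
  have hYd : finrank F Y + i = n := by
    have h := L.finrank_range_add_finrank_ker
    rw [LinearMap.range_eq_top.2 hLsurj, finrank_top, ← hYdef, Module.finrank_fin_fun, hn] at h
    omega
  have hXd : finrank F X = i := by rw [hXdef, finrank_span_eq_card hf.1, Fintype.card_fin]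
  have hXY : ∀ x ∈ X, ∀ y ∈ Y, B x y = 0 := by
    intro x hx y hy
    rw [hXdef] at hx
    induction hx using Submodule.span_induction with
    | mem x hx => obtain ⟨j, rfl⟩ := hx; exact (hmem y).1 hy j
    | zero => simp
    | add a b _ _ ha hb => simp [ha, hb]
    | smul c a _ ha => simp [ha]
  have hle : X ≤ Y := by
    rw [hXdef, Submodule.span_le]
    rintro _ ⟨j, rfl⟩
    exact (hmem _).2 fun j' => hf.2 j' j
  -- the orthogonal of `Y` is `X`
  have hperp : ∀ v, (∀ y ∈ Y, B v y = 0) → v ∈ X := by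
    intro v hv
    choose w hw using fun j : Fin i => hLsurj (Pi.single j 1)
    have hv' : v = ∑ j, σ (B v (w j)) • f j := by
      rw [← sub_eq_zero]
      apply hB
      intro z
      have hz : z - ∑ j, L z j • w j ∈ Y := by
        rw [hYdef, LinearMap.mem_ker, map_sub, map_sum, sub_eq_zero]
        funext l
        simp [hw, Pi.single_apply]
      have h1 := hv _ hz
      simp only [map_sub, map_sum, LinearMap.sub_apply, LinearMap.coe_sum, Finset.sum_apply,
        LinearMap.map_smulₛₗ, LinearMap.smul_apply, map_smul, smul_eq_mul, hσ2, sub_eq_zero] at h1 ⊢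
      rw [h1]
      exact Finset.sum_congr rfl fun j _ => by simp [L, mul_comm]
    rw [hv', hXdef]
    exact Submodule.sum_mem _ fun j _ => Submodule.smul_mem _ _ (subset_span ⟨j, rfl⟩)
  obtain ⟨C, hC⟩ := Submodule.exists_isCompl X
  obtain ⟨W0, hW0def⟩ : ∃ W0, W0 = C ⊓ Y := ⟨_, rfl⟩
  have hsup : X ⊔ W0 = Y := by
    rw [hW0def, ← sup_inf_assoc_of_le C hle, hC.sup_eq_top, top_inf_eq]
  have hinf : X ⊓ W0 = ⊥ :=
    le_bot_iff.1 (le_trans (inf_le_inf_left _ (hW0def ▸ inf_le_left)) hC.inf_eq_bot.le)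
  have hW0Y : W0 ≤ Y := hW0def ▸ inf_le_right
  have hW0d : finrank F W0 = n - 2 * i := by
    have h := Submodule.finrank_sup_add_finrank_inf_eq X W0
    rw [hsup, hinf, finrank_bot, hXd] at h
    omega
  have hW0n : ∀ x : W0, (∀ y : W0, restrictForm B W0 x y = 0) → x = 0 := by
    intro x hx
    have hxX : (x : V) ∈ X := by
      apply hperp
      intro y hy
      rw [← hsup] at hy
      obtain ⟨a, ha, b, hb, rfl⟩ := Submodule.mem_sup.1 hy
      rw [map_add, herm_refl hS _ _ (hXY a ha x (hW0Y x.2)), zero_add]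
      exact hx ⟨b, hb⟩
    apply Subtype.ext
    have : (x : V) ∈ X ⊓ W0 := ⟨hxX, x.2⟩
    rw [hinf, Submodule.mem_bot] at this
    exact this
  have hval : ∀ a ∈ X, ∀ b ∈ W0, B (a + b) (a + b) = B b b := by
    intro a ha b hb
    simp [hXY a ha a (hle ha), hXY a ha b (hW0Y hb), herm_refl hS _ _ (hXY a ha b (hW0Y hb))]
  let Z := {b : W0 // restrictForm B W0 b b = 0 ∧ b ≠ 0}
  let T : X × Z → frameExt B f := fun p => ⟨(p.1 : V) + (p.2.1 : V), fun h => by
      have h' : (p.2.1 : V) ∈ X := by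
        have := X.sub_mem (le_of_eq hXdef.symm h) p.1.2
        simpa using this
      have h'' : (p.2.1 : V) ∈ X ⊓ W0 := ⟨h', p.2.1.2⟩
      rw [hinf, Submodule.mem_bot] at h''
      exact p.2.2.2 (Subtype.ext h''), by rw [hval _ p.1.2 _ p.2.1.2]; exact p.2.2.1,
    fun j => (hmem _).1 (Y.add_mem (hle p.1.2) (hW0Y p.2.1.2)) j⟩
  have hT : Function.Bijective T := by
    refine ⟨fun p p' h => ?_, fun v => ?_⟩
    · have h' : (p.1 : V) + (p.2.1 : V) = (p'.1 : V) + (p'.2.1 : V) := congrArg Subtype.val h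
      have h1 : ((p.2.1 : V) - p'.2.1) ∈ X ⊓ W0 := by
        refine ⟨?_, W0.sub_mem p.2.1.2 p'.2.1.2⟩
        rw [show (p.2.1 : V) - p'.2.1 = (p'.1 : V) - p.1 by
          rw [sub_eq_sub_iff_add_eq_add, add_comm, h', add_comm]]
        exact X.sub_mem p'.1.2 p.1.2
      rw [hinf, Submodule.mem_bot, sub_eq_zero] at h1
      rw [h1, add_left_inj] at h'
      exact Prod.ext (Subtype.ext h') (Subtype.ext (Subtype.ext h1))
    · have hvY : v.1 ∈ Y := (hmem _).2 v.2.2.2
      rw [← hsup] at hvY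
      obtain ⟨a, ha, b, hb, hab⟩ := Submodule.mem_sup.1 hvY
      refine ⟨(⟨a, ha⟩, ⟨⟨b, hb⟩, ?_, fun h => ?_⟩), Subtype.ext hab⟩
      · show B b b = 0
        rw [← hval a ha b hb, hab]
        exact v.2.2.1
      · have h0 : b = 0 := congrArg Subtype.val h
        exact v.2.1 (by rw [← hab, h0, add_zero, ← hXdef]; exact ha)
  have hZ : Nat.card Z + 1 = Nat.card {b : W0 // restrictForm B W0 b b = 0} := by
    have h := Set.ncard_sdiff_singleton_add_one (a := (0 : W0))
      (s := {b : W0 | restrictForm B W0 b b = 0}) (by simp) (Set.toFinite _)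
    rw [← Nat.card_coe_set_eq, ← Nat.card_coe_set_eq] at h
    exact h
  rw [card_isotropic hF hσ hσ2 (restrictForm B W0) ⟨fun x y => hS.eq x y⟩ hW0n hW0d] at hZ
  rw [← Nat.card_congr (Equiv.ofBijective T hT), Nat.card_prod,
    Module.natCard_eq_pow_finrank (K := F) (V := X), hXd, Nat.card_eq_fintype_card, hF]
  congr 1
  omega

omit [Fintype F] in
/-- Norm-one scalars are quotients `a / σ a`. -/
theorem exists_div_eq (hσ1 : σ ≠ RingHom.id F) (hσ2 : ∀ x, σ (σ x) = x) {c : F}
    (hc : c * σ c = 1) : ∃ a : F, a ≠ 0 ∧ c * σ a = a := by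
  obtain ⟨x, hx⟩ : ∃ x, x + c * σ x ≠ 0 := by
    by_contra h
    have hall : ∀ x, x + c * σ x = 0 := fun x => not_not.1 fun hx => h ⟨x, hx⟩
    have h1 := hall 1
    rw [map_one, mul_one] at h1
    apply hσ1
    ext x
    show σ x = x
    have h2 := hall x
    linear_combination σ x * h1 - h2
  refine ⟨x + c * σ x, hx, ?_⟩
  rw [map_add, map_mul, hσ2]
  linear_combination x * hc

omit [Fintype F] in
/-- Every norm-one scalar is the determinant of an isometry stabilising a given totally isotropic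
subspace. -/
theorem exists_det_stab [Finite F] [FiniteDimensional F V] (hσ1 : σ ≠ RingHom.id F)
    (hσ2 : ∀ x, σ (σ x) = x) (B : V →ₛₗ[σ] V →ₗ[F] F) (hS : B.IsSymm)
    (hB : ∀ x, (∀ y, B x y = 0) → x = 0) (hV : 0 < finrank F V) (W : Submodule F V)
    (hW : ∀ a ∈ W, ∀ b ∈ W, B a b = 0) {c : F} (hc : c * σ c = 1) :
    ∃ g : isoGroup B, g ∈ stabSubmodule B W ∧ LinearMap.det g.1.toLinearMap = c := by
  have hc0 : c ≠ 0 := fun h => by simp [h] at hc
  -- an endomorphism preserving `B` is an automorphism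
  have mk : ∀ f : V →ₗ[F] V, (∀ x y, B (f x) (f y) = B x y) → (∀ x ∈ W, f x ∈ W) →
      LinearMap.det f = c → ∃ g : isoGroup B, g ∈ stabSubmodule B W ∧
        LinearMap.det g.1.toLinearMap = c := by
    intro f hf hfW hdet
    have hinj : Function.Injective f := (injective_iff_map_eq_zero f).2 fun x hx =>
      hB x fun y => by rw [← hf, hx]; simp
    exact ⟨⟨LinearEquiv.ofInjectiveEndo f hinj, hf⟩, mem_stabSubmodule_of_le hfW, hdet⟩
  by_cases hex : ∃ v, (∀ z ∈ W, B v z = 0) ∧ B v v ≠ 0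
  · obtain ⟨v, hvW, hv⟩ := hex
    refine mk (LinearMap.transvection ((c - 1) • B v) ((B v v)⁻¹ • v)) (fun x y => ?_)
      (fun x hx => ?_) ?_
    · have hfix : σ (B v v) = B v v := hS.eq v v
      simp only [LinearMap.transvection.apply, LinearMap.smul_apply, smul_eq_mul, map_add,
        LinearMap.map_smulₛₗ, LinearMap.add_apply, LinearMap.smul_apply, map_smul, RingHom.id_apply,
        map_mul, map_inv₀, hfix, map_sub, map_one, ← hS.eq v x]
      field_simp
      linear_combination (σ (B v x) * B v y) * hc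
    · simp [LinearMap.transvection.apply, hvW x hx, hx]
    · rw [LinearMap.transvection.det, LinearMap.smul_apply, map_smul, smul_eq_mul, smul_eq_mul]
      field_simp
      ring
  have hall : ∀ v, (∀ z ∈ W, B v z = 0) → B v v = 0 := fun v h =>
    not_not.1 fun h' => hex ⟨v, h, h'⟩
  obtain ⟨w, hwW, hw0⟩ : ∃ w ∈ W, w ≠ 0 := by
    apply Submodule.exists_mem_ne_zero_of_ne_bot
    rintro rfl
    have h0 := hermitian_eq_zero_of_diag hσ1 B hS fun v => hall v (by simp)
    haveI : Subsingleton V := subsingleton_of_forall_eq 0 fun x => hB x fun y => by simp [h0]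
    have := Module.finrank_zero_of_subsingleton (R := F) (M := V)
    omega
  obtain ⟨y, hyw, hy⟩ : ∃ y, B y w = 1 ∧ B y y = 0 := by
    obtain ⟨v, hv⟩ : ∃ v, B v w ≠ 0 := by
      by_contra h
      exact hw0 (hB w fun y => herm_refl hS _ _ (not_not.1 fun hy => h ⟨y, hy⟩))
    obtain ⟨y₀, hy₀⟩ : ∃ y₀, B y₀ w = 1 :=
      ⟨σ ((B v w)⁻¹) • v, by simp [hσ2, hv]⟩
    obtain ⟨t, ht⟩ := exists_add_involution_eq hσ1 hσ2
      (d := - B y₀ y₀) (by rw [map_neg, hS.eq])
    refine ⟨y₀ + t • w, by simp [hy₀, hW w hwW w hwW], ?_⟩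
    simp [hy₀, hW w hwW w hwW, ← hS.eq y₀ w]
    linear_combination ht
  have hwy : B w y = 1 := by rw [← hS.eq, hyw, map_one]
  have hww : B w w = 0 := hW w hwW w hwW
  obtain ⟨a, ha, hca⟩ := exists_div_eq hσ1 hσ2 hc
  have hσa : σ a ≠ 0 := fun h => ha (by rw [← hσ2 a, h, map_zero])
  obtain ⟨b, hab, hbc, hab'⟩ : ∃ b, σ a * b = 1 ∧ a * b = c ∧ a * σ b = 1 := by
    refine ⟨(σ a)⁻¹, mul_inv_cancel₀ hσa, ?_, ?_⟩
    · field_simp
      linear_combination -hca
    · rw [map_inv₀, hσ2, mul_inv_cancel₀ ha]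
  refine mk (LinearMap.transvection ((a - 1) • B y) w ∘ₗ LinearMap.transvection ((b - 1) • B w) y)
    (fun x z => ?_) (fun x hx => ?_) ?_
  · simp only [LinearMap.coe_comp, Function.comp_apply, LinearMap.transvection.apply,
      LinearMap.smul_apply, smul_eq_mul, map_add, map_smul, hy, mul_zero, add_zero,
      LinearMap.map_smulₛₗ, LinearMap.add_apply, LinearMap.smul_apply, RingHom.id_apply, map_mul,
      map_sub, map_one, map_zero, hww, hyw, hwy, mul_one, ← hS.eq y x, ← hS.eq w x]
    linear_combination (σ (B y x) * B w z) * hab + (σ (B w x) * B y z) * hab'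
  · simp only [LinearMap.coe_comp, Function.comp_apply, LinearMap.transvection.apply,
      LinearMap.smul_apply, smul_eq_mul, hW w hwW x hx, mul_zero, zero_smul, add_zero]
    exact W.add_mem hx (W.smul_mem _ hwW)
  · rw [LinearMap.det_comp, LinearMap.transvection.det, LinearMap.transvection.det]
    simp [hyw, hwy, hbc]

end CfsgLib.Forms

namespace CfsgLib.Forms

open Module Submodule

variable {F V : Type*} [Field F] [AddCommGroup V] [Module F V] {σ : F →+* F} [Fintype F] {q : ℕ}

theorem sum_range_two (n : ℕ) : 2 * (∑ i ∈ Finset.range n, i) + n = n * n := by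
  induction n with
  | zero => simp
  | succ n ih => rw [Finset.sum_range_succ]; nlinarith

theorem sum_range_half (n : ℕ) : n * (n - 1) / 2 = ∑ i ∈ Finset.range n, i :=
  (Finset.sum_range_id n).symm

/-- The number of isotropic frames. -/
theorem card_frames_herm [Finite V] [FiniteDimensional F V] (hF : Fintype.card F = q ^ 2)
    (hσ : ∀ x, σ x = x ^ q) (hσ2 : ∀ x, σ (σ x) = x) (B : V →ₛₗ[σ] V →ₗ[F] F) (hS : B.IsSymm)
    (hB : ∀ x, (∀ y, B x y = 0) → x = 0) (k d : ℕ) (hn : finrank F V = d + 2 * k) :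
    Nat.card (frames B k) * ∏ i ∈ Finset.range d, u q (i + 1) =
      (q ^ 2) ^ (∑ i ∈ Finset.range k, i) * ∏ i ∈ Finset.range (d + 2 * k), u q (i + 1) := by
  rw [card_frames B (herm_refl hS)
    (fun i => (q ^ 2) ^ i * (u q (d + 2 * k - 2 * i) * u q (d + 2 * k - 2 * i - 1))) k
    (fun i _ f hf => card_frameExt_herm hF hσ hσ2 B hS hB hn hf),
    Finset.prod_mul_distrib, Finset.prod_pow_eq_pow_sum, mul_assoc]
  congr 1
  clear hn
  induction k with
  | zero => simp
  | succ k ih =>
    rw [Finset.prod_range_succ', show d + 2 * (k + 1) = (d + 2 * k + 1) + 1 by ring,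
      Finset.prod_range_succ, Finset.prod_range_succ, ← ih]
    rw [Finset.prod_congr rfl (fun i (_ : i ∈ Finset.range k) => show
      u q (d + 2 * k + 1 + 1 - 2 * (i + 1)) * u q (d + 2 * k + 1 + 1 - 2 * (i + 1) - 1) =
        u q (d + 2 * k - 2 * i) * u q (d + 2 * k - 2 * i - 1) by
      rw [show d + 2 * k + 1 + 1 - 2 * (i + 1) = d + 2 * k - 2 * i by omega])]
    simp only [Nat.mul_zero, Nat.sub_zero, Nat.add_sub_cancel]
    ring

/-- The determinant of an isometry. -/
noncomputable def isoDet (B : V →ₛₗ[σ] V →ₗ[F] F) : isoGroup B →* Fˣ :=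
  LinearEquiv.det.comp (isoGroup B).subtype

omit [Fintype F] in
theorem isoDet_val (B : V →ₛₗ[σ] V →ₗ[F] F) (g : isoGroup B) :
    (isoDet B g : F) = LinearMap.det g.1.toLinearMap := LinearEquiv.coe_det _

/-- Mathlib-style matrices: `Cfsg.GU` is the isometry group of `hermSesq`. -/
noncomputable def guEquivIso (hσ : ∀ x, σ x = x ^ q) (n : ℕ) :
    Cfsg.GU n F q ≃* isoGroup (hermSesq σ n) where
  toFun g := ⟨{ Matrix.toLin' (g.1 : Matrix (Fin n) (Fin n) F) with
      invFun := fun x => ((g.1⁻¹ : GL (Fin n) F) : Matrix (Fin n) (Fin n) F).mulVec x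
      left_inv := fun x => by simp [Matrix.mulVec_mulVec, ← Units.val_mul]
      right_inv := fun x => by simp [Matrix.mulVec_mulVec, ← Units.val_mul] }, fun v w => by
    rw [← hermForm_eq_hermSesq hσ, ← hermForm_eq_hermSesq hσ]
    exact g.2 w v⟩
  invFun g := ⟨⟨LinearMap.toMatrix' g.1.toLinearMap, LinearMap.toMatrix' g.1.symm.toLinearMap,
      by rw [← LinearMap.toMatrix'_comp]; simp, by rw [← LinearMap.toMatrix'_comp]; simp⟩,
    fun v w => by
      show Cfsg.hermForm n F q ((LinearMap.toMatrix' g.1.toLinearMap).mulVec v)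
        ((LinearMap.toMatrix' g.1.toLinearMap).mulVec w) = _
      simp only [LinearMap.toMatrix'_mulVec, LinearEquiv.coe_coe]
      rw [hermForm_eq_hermSesq hσ, hermForm_eq_hermSesq hσ]
      exact g.2 w v⟩
  left_inv g := Subtype.ext (Units.ext
    (Matrix.ext_iff_mulVec.2 fun x => LinearMap.toMatrix'_mulVec _ x))
  right_inv g := Subtype.ext (LinearEquiv.ext fun x => LinearMap.toMatrix'_mulVec _ x)
  map_mul' a b := Subtype.ext (LinearEquiv.ext fun x => (Matrix.mulVec_mulVec x _ _).symm)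

theorem guEquivIso_apply (hσ : ∀ x, σ x = x ^ q) (n : ℕ) (g : Cfsg.GU n F q) (x : Fin n → F) :
    (guEquivIso hσ n g).1 x = (g.1 : Matrix (Fin n) (Fin n) F).mulVec x := rfl

theorem isoDet_guEquivIso (hσ : ∀ x, σ x = x ^ q) (n : ℕ) (g : Cfsg.GU n F q) :
    isoDet (hermSesq σ n) (guEquivIso hσ n g) = Matrix.GeneralLinearGroup.det g.1 := by
  apply Units.ext
  rw [isoDet_val, Matrix.GeneralLinearGroup.val_det_apply]
  exact LinearMap.det_toLin' _

omit [Fintype F] in
/-- Determinants of isometries have norm one. -/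
theorem isoDet_norm (σ : F →+* F) (n : ℕ) (g : isoGroup (hermSesq σ n)) :
    (isoDet (hermSesq σ n) g : F) * σ (isoDet (hermSesq σ n) g : F) = 1 := by
  let M : Matrix (Fin n) (Fin n) F := LinearMap.toMatrix' g.1.toLinearMap
  have hM : ∀ i k, M k i = g.1 (Pi.single i 1) k := fun i k => by
    simp [M, LinearMap.toMatrix'_apply]
  have key : (M.map σ).transpose * M = 1 := by
    ext i j
    have h := g.2 (Pi.single i 1) (Pi.single j 1)
    rw [hermSesq_apply, hermSesq_apply] at h
    rw [Matrix.mul_apply]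
    simp only [Matrix.transpose_apply, Matrix.map_apply, hM]
    rw [h, Matrix.one_apply]
    simp [Pi.single_apply, apply_ite σ, eq_comm]
  have hdet := congrArg Matrix.det key
  rw [Matrix.det_mul, Matrix.det_transpose, Matrix.det_one] at hdet
  have hM' : (isoDet (hermSesq σ n) g : F) = M.det := by
    rw [isoDet_val, LinearMap.det_toMatrix']
  rw [hM', RingHom.map_det, mul_comm]
  exact hdet

/-- `|GU_n(q)|`. -/
theorem card_GU (hF : Fintype.card F = q ^ 2) (n : ℕ) :
    Nat.card (Cfsg.GU n F q) =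
      q ^ (∑ i ∈ Finset.range n, i) * ∏ i ∈ Finset.range n, u q (i + 1) := by
  obtain ⟨σ, hσ, hσ2⟩ := CfsgLib.FieldEmb.exists_conj hF
  rw [Nat.card_congr (guEquivIso hσ n).toEquiv]
  exact card_isoGroup_herm hF hσ hσ2 (hermSesq σ n) (hermSesq_isSymm hσ2 n) (hermSesq_sep n)
    (Module.finrank_fin_fun F)

/-- Elements of `SU` stabilising `W` are the determinant-one isometries stabilising `W`. -/
noncomputable def suStabEquiv (hσ : ∀ x, σ x = x ^ q) (n : ℕ) (W : Submodule F (Fin n → F)) :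
    ↥((Cfsg.stabilizing (Cfsg.slToMat n F) (W : Set (Fin n → F))).subgroupOf (Cfsg.SU n F q)) ≃
      {g : stabSubmodule (hermSesq σ n) W // isoDet (hermSesq σ n) g.1 = 1} where
  toFun A := ⟨⟨guEquivIso hσ n ⟨Matrix.SpecialLinearGroup.toGL A.1.1, A.1.2⟩,
    fun x => (A.2 x).symm⟩, by
      rw [isoDet_guEquivIso]
      exact Units.ext A.1.1.2⟩
  invFun g := ⟨⟨⟨((((guEquivIso hσ n).symm g.1.1).1 : GL (Fin n) F) : Matrix (Fin n) (Fin n) F), by
      have h := g.2
      rw [← (guEquivIso hσ n).apply_symm_apply g.1.1, isoDet_guEquivIso] at h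
      exact congrArg Units.val h⟩, ((guEquivIso hσ n).symm g.1.1).2⟩, fun x => by
    have h := g.1.2 x
    rw [← (guEquivIso hσ n).apply_symm_apply g.1.1] at h
    exact h.symm⟩
  left_inv A := by
    apply Subtype.ext; apply Subtype.ext; apply Subtype.ext
    simp only [MulEquiv.symm_apply_apply]
    rfl
  right_inv g := by
    apply Subtype.ext; apply Subtype.ext
    apply (guEquivIso hσ n).symm.injective
    simp only [MulEquiv.symm_apply_apply]
    exact Subtype.ext (Units.ext rfl)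

/-- `(q + 1) · |Stab_SU W| = |Stab_GU W|` for totally isotropic `W`. -/
theorem card_stab_SU_mul (hF : Fintype.card F = q ^ 2) (hσ : ∀ x, σ x = x ^ q)
    (hσ2 : ∀ x, σ (σ x) = x) {n : ℕ} (hn : 1 ≤ n) (W : Submodule F (Fin n → F))
    (hW : ∀ a ∈ W, ∀ b ∈ W, hermSesq σ n a b = 0) :
    (q + 1) * Nat.card
        ↥((Cfsg.stabilizing (Cfsg.slToMat n F) (W : Set (Fin n → F))).subgroupOf (Cfsg.SU n F q)) =
      Nat.card (stabSubmodule (hermSesq σ n) W) := by
  classical
  have hσ1 := conj_ne_id hF hσ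
  let d : stabSubmodule (hermSesq σ n) W →* Fˣ := (isoDet (hermSesq σ n)).comp (Subgroup.subtype _)
  rw [Nat.card_congr (suStabEquiv hσ n W)]
  show (q + 1) * Nat.card d.ker = _
  rw [Subgroup.card_eq_card_quotient_mul_card_subgroup d.ker,
    Nat.card_congr (QuotientGroup.quotientKerEquivRange d).toEquiv]
  congr 1
  rw [← card_norm_fiber hF 1 one_ne_zero (one_pow q)]
  have hnorm : ∀ x : F, x * σ x = x ^ (q + 1) := fun x => by rw [hσ, pow_succ, mul_comm]
  have hrange : ∀ c : Fˣ, c ∈ d.range ↔ (c : F) ^ (q + 1) = 1 := by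
    intro c
    constructor
    · rintro ⟨g, rfl⟩
      rw [← hnorm]
      exact isoDet_norm σ n g.1
    · intro hc
      obtain ⟨g, hg, hgd⟩ := exists_det_stab hσ1 hσ2 (hermSesq σ n) (hermSesq_isSymm hσ2 n)
        (hermSesq_sep n) (by rw [Module.finrank_fin_fun]; omega) W hW (c := (c : F))
        (by rw [hnorm]; exact hc)
      exact ⟨⟨g, hg⟩, Units.ext ((isoDet_val _ g).trans hgd)⟩
  let e : {x : F // x ^ (q + 1) = 1} ≃ d.range :=
    { toFun := fun x => ⟨Units.mk0 x.1 (fun h => by
        have h' := x.2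
        rw [h, zero_pow (by omega)] at h'
        exact zero_ne_one h'), (hrange _).2 x.2⟩
      invFun := fun c => ⟨(c.1 : F), (hrange c.1).1 c.2⟩
      left_inv := fun x => Subtype.ext rfl
      right_inv := fun c => Subtype.ext (Units.ext rfl) }
  exact Nat.card_congr e

end CfsgLib.Forms

namespace CfsgLib.Forms

open Module Submodule

variable {F V : Type*} [Field F] [AddCommGroup V] [Module F V] {σ : F →+* F} [Fintype F] {q : ℕ}

/-- Every nondegenerate Hermitian space is a standard one. -/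
theorem nonempty_isoGroup_herm_equiv_GU [FiniteDimensional F V] (hF : Fintype.card F = q ^ 2)
    (hσ : ∀ x, σ x = x ^ q) (hσ2 : ∀ x, σ (σ x) = x) (B : V →ₛₗ[σ] V →ₗ[F] F) (hS : B.IsSymm)
    (hB : ∀ x, (∀ y, B x y = 0) → x = 0) {n : ℕ} (hn : finrank F V = n) :
    Nonempty (isoGroup B ≃* Cfsg.GU n F q) := by
  obtain ⟨b, hb⟩ := exists_orthonormal_basis_hermitian (conj_ne_id hF hσ) hσ2 B hS hB hn
  refine ⟨(isoGroupCongr b.equivFun fun v w => ?_).trans (guEquivIso hσ n).symm⟩
  rw [hermSesq_apply]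
  generalize hv : b.equivFun v = c
  generalize hw : b.equivFun w = d
  have hv' : v = ∑ i, c i • b i := by rw [← hv, b.sum_equivFun]
  have hw' : w = ∑ i, d i • b i := by rw [← hw, b.sum_equivFun]
  rw [hv', hw']
  simp [hb, mul_comm]

theorem u_pos (hq : 2 ≤ q) (n : ℕ) : 0 < u q (n + 1) := by
  unfold u
  split_ifs
  · have : 1 < q ^ (n + 1) := Nat.one_lt_pow (by omega) (by omega)
    omega
  · omega

end CfsgLib.Forms
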