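import Cfsg.Agent.Forms.Symplectic
import Cfsg.Agent.Forms.SymplecticBasis

/-!
# Orders of symplectic groups and of their stabilisers

Main results: `card_isoGroup_alt`, `spEquivIso`, `card_symplecticGroup`,
`natCard_isotropicExt`, `card_stab_isotropic_mul`.
-/

namespace CfsgLib.Forms

set_option linter.style.haveILetI false

open Module Submodule

variable {F V : Type*} [Field F] [AddCommGroup V] [Module F V]

theorem alt_symm {B : LinearMap.BilinForm F V} (hA : B.IsAlt) : ∀ u v, B u v = 0 → B v u = 0 :=
  fun u v h => by rw [← LinearMap.IsAlt.neg hA u v, h, neg_zero]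

/-- The fibre of a non-zero functional over any value is equivalent to its kernel. -/
noncomputable def fiberEquivKer (φ : V →ₗ[F] F) {a : F} {v₀ : V} (h : φ v₀ = a) :
    {v : V // φ v = a} ≃ LinearMap.ker φ where
  toFun v := ⟨v.1 - v₀, by simp [v.2, h]⟩
  invFun v := ⟨v.1 + v₀, by simp [(LinearMap.mem_ker).1 v.2, h]⟩
  left_inv v := by simp
  right_inv v := by simp

theorem card_fiber [Fintype F] [Finite V] [FiniteDimensional F V] (φ : V →ₗ[F] F) (hφ : φ ≠ 0)
    (a : F) : Nat.card {v : V // φ v = a} = Fintype.card F ^ (finrank F V - 1) := by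
  obtain ⟨v₁, hv₁⟩ : ∃ v, φ v ≠ 0 := by
    by_contra h; exact hφ (LinearMap.ext fun v => not_not.1 fun hv => h ⟨v, hv⟩)
  rw [Nat.card_congr (fiberEquivKer φ (v₀ := (a / φ v₁) • v₁) (a := a) (by simp [hv₁])),
    Module.natCard_eq_pow_finrank (K := F), Nat.card_eq_fintype_card]
  have h := Module.Dual.finrank_ker_add_one_of_ne_zero hφ
  rw [← h, Nat.add_sub_cancel]

/-- Vectors outside a subspace. -/
theorem card_diff [Fintype F] [Finite V] [FiniteDimensional F V] {X Y : Submodule F V}
    (h : X ≤ Y) :
    Nat.card ((Y : Set V) \ X : Set V) =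
      Fintype.card F ^ finrank F Y - Fintype.card F ^ finrank F X := by
  have e : ∀ Z : Submodule F V, Nat.card (Z : Set V) = Fintype.card F ^ finrank F Z := fun Z => by
    rw [← Nat.card_eq_fintype_card (α := F), ← Module.natCard_eq_pow_finrank]
    rfl
  rw [← e, ← e, Nat.card_coe_set_eq, Nat.card_coe_set_eq, Nat.card_coe_set_eq,
    Set.ncard_sdiff (SetLike.coe_subset_coe.2 h) (Set.toFinite _)]

/-- Transitivity on hyperbolic pairs of an alternating form. -/
theorem exists_iso_pair [FiniteDimensional F V] (B : LinearMap.BilinForm F V) (hA : B.IsAlt)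
    (hB : B.Nondegenerate) {u v u' v' : V} (h : B u v = 1) (h' : B u' v' = 1) :
    ∃ g : isoGroup B, g.1 u = u' ∧ g.1 v = v' := by
  let L : ((F × F) →ₗ[F] V) :=
    (LinearMap.toSpanSingleton F V u).coprod (LinearMap.toSpanSingleton F V v)
  let L' : ((F × F) →ₗ[F] V) :=
    (LinearMap.toSpanSingleton F V u').coprod (LinearMap.toSpanSingleton F V v')
  have inj : ∀ (a b : V), B a b = 1 → Function.Injective
      ((LinearMap.toSpanSingleton F V a).coprod (LinearMap.toSpanSingleton F V b)) := by
    intro a b hab
    rw [injective_iff_map_eq_zero]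
    intro p hp
    have hba : B b a = -1 := by rw [← LinearMap.IsAlt.neg hA a b, hab]
    have h1 := congrArg (B a) hp
    have h2 := congrArg (B b) hp
    simp [hA a, hab] at h1
    simp [hA b, hba] at h2
    exact Prod.ext h2 h1
  have e : ∀ (a b : V), B a b = 1 → ∀ p p' : F × F,
      B (p.1 • a + p.2 • b) (p'.1 • a + p'.2 • b) = p.1 * p'.2 - p.2 * p'.1 := by
    intro a b hab p p'
    have hba : B b a = -1 := by rw [← LinearMap.IsAlt.neg hA a b, hab]
    simp [hA a, hA b, hab, hba]
    ring
  let φ := (LinearEquiv.ofInjective L (inj u v h)).symm.trans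
    (LinearEquiv.ofInjective L' (inj u' v' h'))
  obtain ⟨g, hg, hgX⟩ := witt_alt B hB hA _ _ φ fun x x' => by
    obtain ⟨p, rfl⟩ := (LinearEquiv.ofInjective L (inj u v h)).surjective x
    obtain ⟨p', rfl⟩ := (LinearEquiv.ofInjective L (inj u v h)).surjective x'
    simp only [φ, LinearEquiv.trans_apply, LinearEquiv.symm_apply_apply,
      LinearEquiv.ofInjective_apply]
    simp only [L, L', LinearMap.coprod_apply, LinearMap.toSpanSingleton_apply]
    rw [e u v h, e u' v' h']
  refine ⟨⟨g, hg⟩, ?_, ?_⟩
  · have := hgX ((LinearEquiv.ofInjective L (inj u v h)) (1, 0))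
    simpa [φ, L, L'] using this
  · have := hgX ((LinearEquiv.ofInjective L (inj u v h)) (0, 1))
    simpa [φ, L, L'] using this

/-- `|Sp(V)|`. -/
theorem card_isoGroup_alt [Fintype F] [Finite V] [FiniteDimensional F V]
    (B : LinearMap.BilinForm F V) (hA : B.IsAlt) (hB : ∀ x, (∀ y, B x y = 0) → x = 0) {m : ℕ}
    (hm : finrank F V = 2 * m) :
    Nat.card (isoGroup B) = Fintype.card F ^ (m ^ 2) *
      ∏ i ∈ Finset.range m, (Fintype.card F ^ (2 * (i + 1)) - 1) := by
  induction m generalizing V with
  | zero =>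
    haveI : Subsingleton V := Module.finrank_zero_iff.1 (by omega)
    haveI : Unique (isoGroup B) :=
      { default := 1, uniq := fun g => Subtype.ext (LinearEquiv.ext fun x => Subsingleton.elim _ _) }
    simp
  | succ m ih =>
    have hB' : B.Nondegenerate :=
      ⟨hB, fun x hx => hB x fun y => alt_symm hA _ _ (hx y)⟩
    obtain ⟨u, v, huv⟩ : ∃ u v, B u v = 1 := by
      haveI : Nontrivial V := Module.nontrivial_of_finrank_pos (R := F) (by omega)
      obtain ⟨u, hu⟩ := exists_ne (0 : V)
      obtain ⟨v, hv⟩ : ∃ v, B u v ≠ 0 := by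
        by_contra h; exact hu (hB u fun v => not_not.1 fun hv => h ⟨v, hv⟩)
      exact ⟨u, (B u v)⁻¹ • v, by simp [hv]⟩
    let P : Set (Fin 2 → V) := {f | B (f 0) (f 1) = 1}
    have horb : MulAction.orbit (isoGroup B) ![u, v] = P := by
      ext f
      constructor
      · rintro ⟨g, rfl⟩
        show B (g.1 u) (g.1 v) = 1
        rw [g.2, huv]
      · intro hf
        obtain ⟨g, h0, h1⟩ := exists_iso_pair B hA hB' huv hf
        exact ⟨g, funext fun i => by fin_cases i <;> assumption⟩
    have hP : Nat.card P = (Fintype.card F ^ (2 * m + 2) - 1) * Fintype.card F ^ (2 * m + 1) := by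
      let e : P ≃ Σ a : ((((⊤ : Submodule F V) : Set V) \ (⊥ : Submodule F V)) : Set V),
          {b : V // B a.1 b = 1} :=
        { toFun := fun f => ⟨⟨f.1 0, trivial, fun h => by
            have h1 : B (f.1 0) (f.1 1) = 1 := f.2
            simp [(Submodule.mem_bot F).1 h] at h1⟩, ⟨f.1 1, f.2⟩⟩
          invFun := fun p => ⟨![p.1.1, p.2.1], p.2.2⟩
          left_inv := fun f => Subtype.ext (funext fun i => by fin_cases i <;> rfl)
          right_inv := fun p => rfl }
      haveI := Fintype.ofFinite ((((⊤ : Submodule F V) : Set V) \ (⊥ : Submodule F V)) : Set V)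
      rw [Nat.card_congr e, Nat.card_sigma, Finset.sum_congr rfl (fun a _ =>
        card_fiber (B a.1) (fun h0 => a.2.2 ((Submodule.mem_bot F).2 (hB a.1 fun y => by
          rw [h0]; rfl))) 1),
        Finset.sum_const, Finset.card_univ, ← Nat.card_eq_fintype_card, card_diff bot_le,
        finrank_top, finrank_bot, pow_zero, smul_eq_mul, hm]
      congr 2
    have hW : ∀ z, z ∈ pairPerp B u v ↔ ∀ x ∈ span F {u, v}, B x z = 0 := pairPerp_iff B u v
    have hstab : Nat.card (MulAction.stabilizer (isoGroup B) ![u, v]) =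
        Nat.card (isoGroup (restrictForm B (pairPerp B u v))) := by
      rw [← Nat.card_congr (fixEquiv (isCompl_pairPerp B hA huv) hW (alt_symm hA))]
      refine Nat.card_congr (Equiv.subtypeEquivRight fun g => ?_)
      rw [MulAction.mem_stabilizer_iff]
      constructor
      · intro h x hx
        obtain ⟨a, c, rfl⟩ := Submodule.mem_span_pair.1 hx
        have h0 : g.1 u = u := congrFun h 0
        have h1 : g.1 v = v := congrFun h 1
        simp [h0, h1]
      · intro h
        funext i
        fin_cases i
        · exact h u (subset_span (by simp))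
        · exact h v (subset_span (by simp))
    have hWdim : finrank F (pairPerp B u v) = 2 * m := by
      have := (pairDecomp B hA huv).finrank_eq
      rw [Module.finrank_prod, Module.finrank_prod, Module.finrank_self] at this
      omega
    have hWnd : ∀ x : pairPerp B u v, (∀ y : pairPerp B u v,
        restrictForm B (pairPerp B u v) x y = 0) → x = 0 := by
      intro x hx
      apply Subtype.ext
      apply hB
      intro z
      obtain ⟨p, rfl⟩ := (pairDecomp B hA huv).surjective z
      show B (x : V) (p.1.1 • u + p.1.2 • v + (p.2 : V)) = 0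
      have h1 : B (x : V) u = 0 := alt_symm hA _ _ x.2.1
      have h2 : B (x : V) v = 0 := alt_symm hA _ _ x.2.2
      have h3 : B (x : V) (p.2 : V) = 0 := hx p.2
      simp [h1, h2, h3]
    rw [card_eq_orbit_mul_stabilizer (G := isoGroup B) ![u, v], horb, hP, hstab,
      ih (restrictForm B (pairPerp B u v)) (fun x => hA x) hWnd hWdim, Finset.prod_range_succ,
      show (m + 1) ^ 2 = (2 * m + 1) + m ^ 2 by ring, pow_add,
      show 2 * (m + 1) = 2 * m + 2 by ring]
    ring

/-- Mathlib's symplectic group is the isometry group of `sympBilin`. -/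
noncomputable def spEquivIso (m : ℕ) (F : Type*) [Field F] :
    Matrix.symplecticGroup (Fin m) F ≃* isoGroup (sympBilin m F) where
  toFun A := ⟨{ Matrix.toLin' A.1 with
      invFun := fun x => (A⁻¹).1.mulVec x
      left_inv := fun x => by
        simp [Matrix.mulVec_mulVec, ← Submonoid.coe_mul]
      right_inv := fun x => by
        simp [Matrix.mulVec_mulVec, ← Submonoid.coe_mul] }, fun u v => by
    rw [sympBilin_apply, sympBilin_apply]
    exact sympForm_map A u v⟩
  invFun g := ⟨LinearMap.toMatrix' g.1.toLinearMap, mem_symplecticGroup_iff_form.2 fun u v => by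
    simp only [LinearMap.toMatrix'_mulVec, LinearEquiv.coe_coe, ← sympBilin_apply]
    exact g.2 u v⟩
  left_inv A := sp_ext fun x => LinearMap.toMatrix'_mulVec _ x
  right_inv g := Subtype.ext (LinearEquiv.ext fun x => LinearMap.toMatrix'_mulVec _ x)
  map_mul' A B := Subtype.ext (LinearEquiv.ext fun x => (Matrix.mulVec_mulVec x A.1 B.1).symm)

theorem spEquivIso_apply {m : ℕ} (A : Matrix.symplecticGroup (Fin m) F) (x : Fin m ⊕ Fin m → F) :
    (spEquivIso m F A).1 x = A.1.mulVec x := rfl

theorem finrank_sympSpace (m : ℕ) : finrank F (Fin m ⊕ Fin m → F) = 2 * m := by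
  simp [two_mul]

/-- `|Sp_{2m}(q)|`. -/
theorem card_symplecticGroup [Fintype F] (m : ℕ) :
    Nat.card (Matrix.symplecticGroup (Fin m) F) = Fintype.card F ^ (m ^ 2) *
      ∏ i ∈ Finset.range m, (Fintype.card F ^ (2 * (i + 1)) - 1) := by
  rw [Nat.card_congr (spEquivIso m F).toEquiv]
  exact card_isoGroup_alt (sympBilin m F) sympBilin_isAlt (fun x h => sympBilin_nondegenerate.1 x h) (finrank_sympSpace m)

/-- Extensions of an isotropic frame of an alternating form. -/
theorem card_frameExt_alt [Fintype F] [Finite V] [FiniteDimensional F V]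
    (B : LinearMap.BilinForm F V) (hA : B.IsAlt) (hB : ∀ x, (∀ y, B x y = 0) → x = 0) {i : ℕ}
    {f : Fin i → V} (hf : f ∈ frames B i) :
    Nat.card (frameExt B f) =
      Fintype.card F ^ (finrank F V - i) - Fintype.card F ^ i := by
  have hB' : B.Nondegenerate := ⟨hB, fun x hx => hB x fun y => alt_symm hA _ _ (hx y)⟩
  have hX : finrank F (span F (Set.range f)) = i := by
    rw [finrank_span_eq_card hf.1, Fintype.card_fin]
  obtain ⟨Y, hY⟩ : ∃ Y, Y = LinearMap.BilinForm.orthogonal B (span F (Set.range f)) := ⟨_, rfl⟩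
  have hmem : ∀ v, v ∈ Y ↔ ∀ j, B (f j) v = 0 := by
    intro v
    rw [hY]
    constructor
    · exact fun h j => h _ (subset_span ⟨j, rfl⟩)
    · intro h x hx
      show B x v = 0
      induction hx using Submodule.span_induction with
      | mem x hx => obtain ⟨j, rfl⟩ := hx; exact h j
      | zero => simp
      | add a b _ _ ha hb => simp [ha, hb]
      | smul c a _ ha => simp [ha]
  have hle : span F (Set.range f) ≤ Y := by
    rw [Submodule.span_le]
    rintro _ ⟨j, rfl⟩
    exact (hmem _).2 fun j' => hf.2 j' j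
  have hYd : finrank F Y = finrank F V - i := by
    rw [hY, LinearMap.BilinForm.finrank_orthogonal hB', hX]
  have hset : frameExt B f = (Y : Set V) \ (span F (Set.range f) : Submodule F V) := by
    ext v
    exact ⟨fun h => ⟨(hmem v).2 h.2.2, h.1⟩, fun h => ⟨h.2, hA v, (hmem v).1 h.1⟩⟩
  rw [hset, card_diff hle, hYd, hX]

/-- The order of the stabiliser of a totally isotropic subspace, times the number of frames. -/
theorem card_stab_isotropic_mul [Fintype F] [Finite V] [FiniteDimensional F V]
    (B : LinearMap.BilinForm F V) (hA : B.IsAlt) (hB : ∀ x, (∀ y, B x y = 0) → x = 0) {k : ℕ}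
    (W : Submodule F V) (hWk : finrank F W = k) (hW : ∀ u ∈ W, ∀ v ∈ W, B u v = 0) :
    Nat.card (stabSubmodule B W) * ∏ i ∈ Finset.range k,
        (Fintype.card F ^ (finrank F V - i) - Fintype.card F ^ i) =
      Nat.card (isoGroup B) * ∏ i : Fin k, (Fintype.card F ^ k - Fintype.card F ^ (i : ℕ)) := by
  have hB' : B.Nondegenerate := ⟨hB, fun x hx => hB x fun y => alt_symm hA _ _ (hx y)⟩
  rw [← card_stab_mul_card_frames B (witt_alt B hB' hA) W hWk hW,
    card_frames B (alt_symm hA)
      (fun i => Fintype.card F ^ (finrank F V - i) - Fintype.card F ^ i) k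
      (fun i _ f hf => card_frameExt_alt B hA hB hf)]

end CfsgLib.Forms

namespace CfsgLib.Forms

open Module Submodule

variable {F V : Type*} [Field F] [AddCommGroup V] [Module F V]

/-- Every nondegenerate alternating space is a standard one. -/
theorem nonempty_isoGroup_alt_equiv_sp [FiniteDimensional F V] (B : LinearMap.BilinForm F V)
    (hA : B.IsAlt) (hB : ∀ x, (∀ y, B x y = 0) → x = 0) {j : ℕ} (hj : finrank F V = 2 * j) :
    Nonempty (isoGroup B ≃* Matrix.symplecticGroup (Fin j) F) := by
  obtain ⟨m, b, h1, h2, h3⟩ := exists_symplectic_basis_nondeg B hA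
    ⟨hB, fun x hx => hB x fun y => alt_symm hA _ _ (hx y)⟩
  obtain rfl : m = j := by
    have := Module.finrank_eq_card_basis b
    simp at this
    omega
  let e := b.equiv (Pi.basisFun F (Fin m ⊕ Fin m)) (Equiv.sumComm _ _)
  refine ⟨(isoGroupCongr e fun u v => ?_).trans (spEquivIso m F).symm⟩
  have key : (sympBilin m F).compl₁₂ e.toLinearMap e.toLinearMap = B := by
    refine b.ext fun i => b.ext fun i' => ?_
    simp only [LinearMap.compl₁₂_apply, LinearEquiv.coe_coe, e, Basis.equiv_apply,
      Equiv.sumComm_apply, Pi.basisFun_apply, sympBilin_apply]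
    rcases i with i | i <;> rcases i' with i' | i'
    · simp [Sum.swap, sympForm_single_inr, h2]
    · simp [Sum.swap, sympForm_single_inl, h1, Pi.single_apply, eq_comm]
    · rw [← LinearMap.IsAlt.neg hA (b (Sum.inl i')) (b (Sum.inr i)), h1]
      simp [Sum.swap, sympForm_single_inr, Pi.single_apply]
    · simp [Sum.swap, sympForm_single_inl, h3]
  exact LinearMap.congr_fun (LinearMap.congr_fun key u) v

end CfsgLib.Forms
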