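import Cfsg.Agent.Forms.Symplectic

/-!
# The symplectic group on the points of projective space: rank three, primitivity

Main results: `exists_spGL_mulVec_pair`, `spGL_isPreprimitive`.
-/

namespace CfsgLib.Forms

open Matrix Module MulAction
open scoped LinearAlgebra.Projectivization Pointwise

variable {F : Type*} [Field F] {m : ℕ}

/-- A linear automorphism preserving the symplectic form as an element of `Cfsg.spGL`. -/
theorem exists_spGL_of_linearEquiv (g : (Fin m ⊕ Fin m → F) ≃ₗ[F] (Fin m ⊕ Fin m → F))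
    (hg : ∀ u v, Cfsg.sympForm m F (g u) (g v) = Cfsg.sympForm m F u v) :
    ∃ A : Cfsg.spGL m F, ∀ x : Fin m ⊕ Fin m → F, A • x = g x := by
  refine ⟨⟨⟨LinearMap.toMatrix' g.toLinearMap, LinearMap.toMatrix' g.symm.toLinearMap, ?_, ?_⟩,
    fun u v => ?_⟩, fun x => LinearMap.toMatrix'_mulVec _ x⟩
  · rw [← LinearMap.toMatrix'_comp]; simp
  · rw [← LinearMap.toMatrix'_comp]; simp
  · show Cfsg.sympForm m F (LinearMap.toMatrix' g.toLinearMap *ᵥ u)
      (LinearMap.toMatrix' g.toLinearMap *ᵥ v) = _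
    simp only [LinearMap.toMatrix'_mulVec]
    exact hg u v

/-- Witt for two pairs of independent vectors with the same inner product. -/
theorem exists_spGL_mulVec_pair {u v u' v' : Fin m ⊕ Fin m → F}
    (h : LinearIndependent F ![u, v]) (h' : LinearIndependent F ![u', v'])
    (e : Cfsg.sympForm m F u v = Cfsg.sympForm m F u' v') :
    ∃ A : Cfsg.spGL m F, A • u = u' ∧ A • v = v' := by
  let b := Basis.span h
  let b' := Basis.span h'
  let φ := b.equiv b' (Equiv.refl _)
  have hφ : ∀ i, (φ (b i) : Fin m ⊕ Fin m → F) = ![u', v'] i := fun i => by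
    simp only [φ, Basis.equiv_apply, Equiv.refl_apply]
    exact congrArg Subtype.val (Basis.span_apply h' i)
  have hb : ∀ x y, sympBilin m F (φ x : Fin m ⊕ Fin m → F) (φ y : Fin m ⊕ Fin m → F)
      = sympBilin m F (x : Fin m ⊕ Fin m → F) (y : Fin m ⊕ Fin m → F) := by
    have key : (sympBilin m F).compl₁₂ ((Submodule.subtype _).comp φ.toLinearMap)
        ((Submodule.subtype _).comp φ.toLinearMap) =
        (sympBilin m F).compl₁₂ (Submodule.subtype _) (Submodule.subtype _) := by
      refine b.ext fun i => b.ext fun j => ?_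
      simp only [LinearMap.compl₁₂_apply, LinearMap.coe_comp, Function.comp_apply,
        Submodule.coe_subtype, LinearEquiv.coe_coe, hφ]
      simp only [b, Basis.span_apply]
      fin_cases i <;> fin_cases j <;>
        simp [sympBilin_apply, sympForm_self, e, sympForm_swap u v, sympForm_swap u' v']
    intro x y
    exact LinearMap.congr_fun (LinearMap.congr_fun key x) y
  obtain ⟨g, hg, hgX⟩ := witt_alt (sympBilin m F) sympBilin_nondegenerate sympBilin_isAlt _ _ φ hb
  obtain ⟨A, hA⟩ := exists_spGL_of_linearEquiv g (fun x y => by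
    rw [← sympBilin_apply, ← sympBilin_apply, hg])
  refine ⟨A, ?_, ?_⟩
  · rw [hA]
    have := hgX (b 0)
    rw [hφ] at this
    simpa [b, Basis.span_apply] using this
  · rw [hA]
    have := hgX (b 1)
    rw [hφ] at this
    simpa [b, Basis.span_apply] using this

/-- Points at the same relation to `a` are conjugate in the stabiliser of `a`. -/
theorem exists_spGL_fix_move {a b c : ℙ F (Fin m ⊕ Fin m → F)} (hb : b ≠ a) (hc : c ≠ a)
    (h : Cfsg.sympForm m F a.rep b.rep = 0 ↔ Cfsg.sympForm m F a.rep c.rep = 0) :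
    ∃ A : Cfsg.spGL m F, A • a = a ∧ A • b = c := by
  have hli : ∀ {x : ℙ F (Fin m ⊕ Fin m → F)}, x ≠ a → LinearIndependent F ![a.rep, x.rep] :=
    fun hx => Projectivization.linearIndependent_pair_iff_ne.2 hx.symm
  obtain ⟨t, ht0, ht⟩ : ∃ t : F, t ≠ 0 ∧
      Cfsg.sympForm m F a.rep b.rep = Cfsg.sympForm m F a.rep (t • c.rep) := by
    by_cases h0 : Cfsg.sympForm m F a.rep b.rep = 0
    · refine ⟨1, one_ne_zero, ?_⟩
      rw [one_smul, h0, h.1 h0]
    · refine ⟨Cfsg.sympForm m F a.rep b.rep / Cfsg.sympForm m F a.rep c.rep,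
        div_ne_zero h0 fun h' => h0 (h.2 h'), ?_⟩
      rw [← sympBilin_apply a.rep (_ • _), map_smul, smul_eq_mul, sympBilin_apply,
        div_mul_cancel₀ _ fun h' => h0 (h.2 h')]
  have hli' : LinearIndependent F ![a.rep, t • c.rep] := by
    have := hli hc
    rw [LinearIndependent.pair_iff] at this ⊢
    intro s r hsr
    rw [smul_smul] at hsr
    obtain ⟨h1, h2⟩ := this s (r * t) hsr
    exact ⟨h1, (mul_eq_zero.1 h2).resolve_right ht0⟩
  obtain ⟨A, hA1, hA2⟩ := exists_spGL_mulVec_pair (hli hb) hli' ht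
  refine ⟨A, ?_, ?_⟩
  · conv_lhs => rw [← Projectivization.mk_rep a, Subgroup.smul_def, Projectivization.smul_mk]
    conv_rhs => rw [← Projectivization.mk_rep a]
    exact (Projectivization.mk_eq_mk_iff' F _ _ _ _).2 ⟨1, by rw [one_smul, ← Subgroup.smul_def, hA1]⟩
  · conv_lhs => rw [← Projectivization.mk_rep b, Subgroup.smul_def, Projectivization.smul_mk]
    conv_rhs => rw [← Projectivization.mk_rep c]
    exact (Projectivization.mk_eq_mk_iff' F _ _ _ _).2 ⟨t, by rw [← Subgroup.smul_def, hA2]⟩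

theorem exists_sympForm_ne_zero_two {u v : Fin m ⊕ Fin m → F} (hu : u ≠ 0) (hv : v ≠ 0) :
    ∃ z, Cfsg.sympForm m F u z ≠ 0 ∧ Cfsg.sympForm m F v z ≠ 0 := by
  obtain ⟨z₁, h₁⟩ : ∃ z, Cfsg.sympForm m F u z ≠ 0 := by
    by_contra h; exact hu (sympForm_sep u fun z => not_not.1 fun hz => h ⟨z, hz⟩)
  obtain ⟨z₂, h₂⟩ : ∃ z, Cfsg.sympForm m F v z ≠ 0 := by
    by_contra h; exact hv (sympForm_sep v fun z => not_not.1 fun hz => h ⟨z, hz⟩)
  by_cases c₁ : Cfsg.sympForm m F v z₁ = 0
  · by_cases c₂ : Cfsg.sympForm m F u z₂ = 0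
    · refine ⟨z₁ + z₂, ?_, ?_⟩ <;> rw [← sympBilin_apply, map_add, sympBilin_apply, sympBilin_apply]
      · rw [c₂, add_zero]; exact h₁
      · rw [c₁, zero_add]; exact h₂
    · exact ⟨z₂, c₂, h₂⟩
  · exact ⟨z₁, h₁, c₁⟩

theorem spGL_isPretransitive : IsPretransitive (Cfsg.spGL m F) (ℙ F (Fin m ⊕ Fin m → F)) := by
  refine ⟨fun a c => ?_⟩
  by_cases hac : a = c
  · exact ⟨1, by rw [one_smul, hac]⟩
  obtain ⟨z, hz1, hz2⟩ := exists_sympForm_ne_zero_two a.rep_nonzero c.rep_nonzero
  have hz0 : z ≠ 0 := by rintro rfl; simp [Cfsg.sympForm] at hz1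
  obtain ⟨p, hp⟩ : ∃ p, p = Projectivization.mk F z hz0 := ⟨_, rfl⟩
  obtain ⟨s, hs⟩ : ∃ s : F, s • z = p.rep := by
    rw [hp]
    exact (Projectivization.mk_eq_mk_iff' F _ _ (Projectivization.rep_nonzero _) hz0).1
      (Projectivization.mk_rep _)
  have hs0 : s ≠ 0 := fun h => p.rep_nonzero (by rw [← hs, h, zero_smul])
  have key : ∀ x : ℙ F (Fin m ⊕ Fin m → F), Cfsg.sympForm m F x.rep z ≠ 0 →
      Cfsg.sympForm m F p.rep x.rep ≠ 0 ∧ x ≠ p := by
    intro x hx
    have h1 : Cfsg.sympForm m F p.rep x.rep = - (s * Cfsg.sympForm m F x.rep z) := by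
      rw [sympForm_swap, ← hs, ← sympBilin_apply, map_smul, smul_eq_mul, sympBilin_apply]
    refine ⟨by rw [h1]; exact neg_ne_zero.2 (mul_ne_zero hs0 hx), fun h => ?_⟩
    rw [h, ← hs, ← sympBilin_apply, map_smul, LinearMap.smul_apply, sympBilin_apply,
      sympForm_self, smul_zero] at hx
    exact hx rfl
  obtain ⟨ha1, ha2⟩ := key a hz1
  obtain ⟨hc1, hc2⟩ := key c hz2
  obtain ⟨A, -, hA⟩ := exists_spGL_fix_move ha2 hc2 (iff_of_false ha1 hc1)
  exact ⟨A, hA⟩

theorem spGL_isPreprimitive (hm : 1 ≤ m) :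
    IsPreprimitive (Cfsg.spGL m F) (ℙ F (Fin m ⊕ Fin m → F)) := by
  haveI := spGL_isPretransitive (F := F) (m := m)
  have hne : (Pi.single (Sum.inl ⟨0, hm⟩) 1 : Fin m ⊕ Fin m → F) ≠ 0 := fun h => by
    simpa using congrFun h (Sum.inl ⟨0, hm⟩)
  refine IsPreprimitive.of_isTrivialBlock_base (Projectivization.mk F _ hne) ?_
  generalize Projectivization.mk F _ hne = a
  intro B haB hB
  by_cases hsub : B.Subsingleton
  · exact Or.inl hsub
  refine Or.inr ?_
  obtain ⟨b, hbB, hba⟩ : ∃ b ∈ B, b ≠ a := by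
    by_contra h
    exact hsub fun x hx y hy => (not_not.1 fun hxa => h ⟨x, hx, hxa⟩).trans
      (not_not.1 fun hya => h ⟨y, hy, hya⟩).symm
  -- inside `B` one may move along the stabiliser of any point of `B`
  have hmove : ∀ p q r : ℙ F (Fin m ⊕ Fin m → F), p ∈ B → q ∈ B → q ≠ p → r ≠ p →
      (Cfsg.sympForm m F p.rep q.rep = 0 ↔ Cfsg.sympForm m F p.rep r.rep = 0) → r ∈ B := by
    intro p q r hp hq hqp hrp hiff
    obtain ⟨A, hAp, hAq⟩ := exists_spGL_fix_move hqp hrp hiff
    rw [← hAq, ← hB.smul_eq_of_mem hp (by rw [hAp]; exact hp)]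
    exact Set.smul_mem_smul_set hq
  rw [Set.eq_univ_iff_forall]
  intro c
  by_cases hca : c = a
  · rwa [hca]
  by_cases hiff : Cfsg.sympForm m F a.rep b.rep = 0 ↔ Cfsg.sympForm m F a.rep c.rep = 0
  · exact hmove a b c haB hbB hba hca hiff
  by_cases hab : Cfsg.sympForm m F a.rep b.rep = 0
  · have hac : Cfsg.sympForm m F a.rep c.rep ≠ 0 := fun h => hiff (iff_of_true hab h)
    obtain ⟨w, hw0, hwa, hwc⟩ : ∃ w, w ≠ 0 ∧ Cfsg.sympForm m F a.rep w = 0 ∧
        Cfsg.sympForm m F c.rep w = 0 := by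
      have hli := Projectivization.linearIndependent_pair_iff_ne.2 hba.symm
      let L : (Fin m ⊕ Fin m → F) →ₗ[F] F := sympBilin m F a.rep
      let M : LinearMap.ker L →ₗ[F] F := (sympBilin m F c.rep).comp (LinearMap.ker L).subtype
      obtain ⟨w, hw, hw0⟩ : ∃ w ∈ LinearMap.ker M, w ≠ 0 := by
        apply Submodule.exists_mem_ne_zero_of_ne_bot
        intro hker
        rw [LinearMap.ker_eq_bot] at hker
        have h1 := LinearMap.finrank_le_finrank_of_injective hker
        have h2 : 2 ≤ finrank F (LinearMap.ker L) := by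
          have hle : Submodule.span F (Set.range ![a.rep, b.rep]) ≤ LinearMap.ker L := by
            rw [Submodule.span_le]
            rintro _ ⟨i, rfl⟩
            fin_cases i
            · exact sympBilin_isAlt a.rep
            · show sympBilin m F a.rep b.rep = 0
              rw [sympBilin_apply]; exact hab
          have h3 := Submodule.finrank_mono hle
          rwa [finrank_span_eq_card hli, Fintype.card_fin] at h3
        rw [Module.finrank_self] at h1
        omega
      refine ⟨w, fun h => hw0 (Subtype.ext h), ?_, ?_⟩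
      · rw [← sympBilin_apply]; exact w.2
      · rw [← sympBilin_apply]; exact hw
    obtain ⟨p, hp⟩ : ∃ p, p = Projectivization.mk F w hw0 := ⟨_, rfl⟩
    obtain ⟨s, hs⟩ : ∃ s : F, s • w = p.rep := by
      rw [hp]
      exact (Projectivization.mk_eq_mk_iff' F _ _ (Projectivization.rep_nonzero _) hw0).1
        (Projectivization.mk_rep _)
    have hap : Cfsg.sympForm m F a.rep p.rep = 0 := by
      rw [← hs, ← sympBilin_apply, map_smul, sympBilin_apply, hwa, smul_zero]
    have hcp : Cfsg.sympForm m F c.rep p.rep = 0 := by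
      rw [← hs, ← sympBilin_apply, map_smul, sympBilin_apply, hwc, smul_zero]
    have hpa : p ≠ a := by
      intro h
      rw [h] at hcp
      exact hac (by rw [sympForm_swap, hcp, neg_zero])
    have hpc : p ≠ c := fun h => hac (by rw [← h, hap])
    refine hmove p a c (hmove a b p haB hbB hba hpa (iff_of_true hab hap)) haB hpa.symm hpc.symm
      (iff_of_true ?_ ?_) <;> rw [sympForm_swap]
    · rw [hap, neg_zero]
    · rw [hcp, neg_zero]
  · obtain ⟨w, hwa, hwc⟩ := exists_sympForm_ne_zero_two a.rep_nonzero c.rep_nonzero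
    have hw0 : w ≠ 0 := by rintro rfl; simp [Cfsg.sympForm] at hwa
    obtain ⟨p, hp⟩ : ∃ p, p = Projectivization.mk F w hw0 := ⟨_, rfl⟩
    obtain ⟨s, hs⟩ : ∃ s : F, s • w = p.rep := by
      rw [hp]
      exact (Projectivization.mk_eq_mk_iff' F _ _ (Projectivization.rep_nonzero _) hw0).1
        (Projectivization.mk_rep _)
    have hs0 : s ≠ 0 := fun h => p.rep_nonzero (by rw [← hs, h, zero_smul])
    have hap : Cfsg.sympForm m F a.rep p.rep ≠ 0 := by
      rw [← hs, ← sympBilin_apply, map_smul, sympBilin_apply]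
      exact smul_ne_zero hs0 hwa
    have hcp : Cfsg.sympForm m F c.rep p.rep ≠ 0 := by
      rw [← hs, ← sympBilin_apply, map_smul, sympBilin_apply]
      exact smul_ne_zero hs0 hwc
    have hpa : p ≠ a := fun h => hap (by rw [h, sympForm_self])
    have hpc : p ≠ c := fun h => hcp (by rw [h, sympForm_self])
    refine hmove p a c (hmove a b p haB hbB hba hpa (iff_of_false hab hap)) haB hpa.symm hpc.symm
      (iff_of_false ?_ ?_) <;> rw [sympForm_swap] <;> exact neg_ne_zero.2 ‹_›

end CfsgLib.Forms
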