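import Cfsg.Agent.Forms.Diagonal

/-!
# Plus type is detected by the discriminant

Main results: `det_fromBlocks_zero₁₁'`, `exists_isometry_of_isSquare`, `plus_iff_isSquare`,
`det_tmul`.
-/

namespace CfsgLib.Forms

open Matrix Module

variable {F V : Type*} [Field F] [AddCommGroup V] [Module F V]

/-- The determinant of a block matrix with vanishing upper left corner. -/
theorem det_fromBlocks_zero₁₁' {k : Type*} [Fintype k] [DecidableEq k] (C D E : Matrix k k F) :
    (fromBlocks 0 C D E).det = (-1) ^ Fintype.card k * (C.det * D.det) := by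
  have hP : (fromBlocks 0 1 1 0 : Matrix (k ⊕ k) (k ⊕ k) F).det = (-1) ^ Fintype.card k := by
    have h : (fromBlocks 0 1 1 0 : Matrix (k ⊕ k) (k ⊕ k) F) * fromBlocks 1 0 1 1 =
        fromBlocks 1 1 1 0 := by
      simp [fromBlocks_multiply]
    have h' := congrArg Matrix.det h
    rw [det_mul, det_fromBlocks_zero₁₂, det_one, mul_one, mul_one, det_fromBlocks_one₁₁, mul_one,
      zero_sub, det_neg, det_one, mul_one] at h'
    exact h'
  have h : fromBlocks 0 C D E = fromBlocks C 0 E D * fromBlocks 0 1 1 0 := by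
    simp [fromBlocks_multiply]
  rw [h, det_mul, det_fromBlocks_zero₁₂, hP]
  ring

variable {ι : Type*} [Fintype ι] [DecidableEq ι]

theorem det_toMatrix₂_change {ι' : Type*} [Fintype ι'] [DecidableEq ι']
    (B : LinearMap.BilinForm F V) (b : Basis ι F V) (c : Basis ι' F V) :
    ∃ t, t ≠ 0 ∧
      (LinearMap.BilinForm.toMatrix c B).det = t ^ 2 * (LinearMap.BilinForm.toMatrix b B).det := by
  obtain ⟨d, hd⟩ : ∃ d, d = c.reindex (c.indexEquiv b) := ⟨_, rfl⟩
  refine ⟨(b.toMatrix d).det, (isUnit_det_of_left_inverse (A := b.toMatrix d)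
    (B := d.toMatrix b) ?_).ne_zero, ?_⟩
  · exact d.toMatrix_mul_toMatrix_flip b
  have e : (LinearMap.BilinForm.toMatrix d B).det = (LinearMap.BilinForm.toMatrix c B).det := by
    rw [← det_submatrix_equiv_self (c.indexEquiv b).symm (LinearMap.BilinForm.toMatrix c B)]
    congr 1
    ext i j
    simp [hd, LinearMap.BilinForm.toMatrix_apply]
  rw [← e, ← LinearMap.BilinForm.toMatrix_mul_basis_toMatrix b d B, det_mul, det_mul,
    det_transpose]
  ring

/-- Two nondegenerate symmetric forms of equal dimension with determinants in the same square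
class are isometric. -/
theorem exists_isometry_of_isSquare [Finite F] [FiniteDimensional F V] {W : Type*} [AddCommGroup W]
    [Module F W] [FiniteDimensional F W] (h2 : (2 : F) ≠ 0) (B : LinearMap.BilinForm F V)
    (B' : LinearMap.BilinForm F W) (hS : B.IsSymm) (hS' : B'.IsSymm)
    {ι' : Type*} [Fintype ι'] [DecidableEq ι'] (b : Basis ι F V) (b' : Basis ι' F W)
    (hcard : Fintype.card ι = Fintype.card ι')
    (hd : (LinearMap.BilinForm.toMatrix b B).det ≠ 0)
    (hd' : (LinearMap.BilinForm.toMatrix b' B').det ≠ 0)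
    (hsq : IsSquare ((LinearMap.BilinForm.toMatrix b B).det *
      (LinearMap.BilinForm.toMatrix b' B').det)) :
    ∃ g : V ≃ₗ[F] W, ∀ x y, B' (g x) (g y) = B x y := by
  rcases Nat.eq_zero_or_pos (Fintype.card ι) with h0 | h0
  · haveI := Fintype.card_eq_zero_iff.1 h0
    refine ⟨b.equiv b' (Fintype.equivOfCardEq hcard), fun x y => ?_⟩
    have hx : x = 0 := b.ext_elem fun i => isEmptyElim i
    simp [hx]
  obtain ⟨n, hn⟩ : ∃ n, Fintype.card ι = n + 1 := ⟨Fintype.card ι - 1, by omega⟩
  obtain ⟨α, hα⟩ := FiniteField.exists_nonsquare (F := F) (fun h => h2 (by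
    haveI := ringChar.eq_iff.1 h; exact CharTwo.two_eq_zero))
  have hα0 : α ≠ 0 := fun h => hα (h ▸ ⟨0, by simp⟩)
  obtain ⟨c, hc, hc1, hc2⟩ := exists_diagonal_basis_symm h2 B hS
    (LinearMap.BilinForm.nondegenerate_of_det_ne_zero B b hd).1 hα
    (show finrank F V = n + 1 by rw [finrank_eq_card_basis b, hn])
  obtain ⟨c', hc', hc1', hc2'⟩ := exists_diagonal_basis_symm h2 B' hS'
    (LinearMap.BilinForm.nondegenerate_of_det_ne_zero B' b' hd').1 hα
    (show finrank F W = n + 1 by rw [finrank_eq_card_basis b', ← hcard, hn])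
  have hdc : (LinearMap.BilinForm.toMatrix c B).det = B (c (Fin.last n)) (c (Fin.last n)) := by
    have e : LinearMap.BilinForm.toMatrix c B = diagonal fun i => B (c i) (c i) := by
      ext i j
      by_cases h : i = j
      · subst h; simp [LinearMap.BilinForm.toMatrix_apply]
      · simp [LinearMap.BilinForm.toMatrix_apply, hc i j h, h]
    rw [e, det_diagonal, Fintype.prod_eq_single (Fin.last n) fun i hi => hc1 i hi]
  have hdc' : (LinearMap.BilinForm.toMatrix c' B').det = B' (c' (Fin.last n)) (c' (Fin.last n)) := by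
    have e : LinearMap.BilinForm.toMatrix c' B' = diagonal fun i => B' (c' i) (c' i) := by
      ext i j
      by_cases h : i = j
      · subst h; simp [LinearMap.BilinForm.toMatrix_apply]
      · simp [LinearMap.BilinForm.toMatrix_apply, hc' i j h, h]
    rw [e, det_diagonal, Fintype.prod_eq_single (Fin.last n) fun i hi => hc1' i hi]
  obtain ⟨t, ht, hte⟩ := det_toMatrix₂_change B b c
  obtain ⟨t', ht', hte'⟩ := det_toMatrix₂_change B' b' c'
  have hlast : B (c (Fin.last n)) (c (Fin.last n)) = B' (c' (Fin.last n)) (c' (Fin.last n)) := by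
    have hsq' : IsSquare ((LinearMap.BilinForm.toMatrix c B).det *
        (LinearMap.BilinForm.toMatrix c' B').det) := by
      obtain ⟨r, hr⟩ := hsq
      exact ⟨t * t' * r, by rw [hte, hte']; linear_combination t ^ 2 * t' ^ 2 * hr⟩
    rw [hdc, hdc'] at hsq'
    rcases hc2 with h | h <;> rcases hc2' with h' | h' <;> rw [h, h'] at hsq' ⊢
    · exact absurd (by simpa using hsq') hα
    · exact absurd (by simpa using hsq') hα
  refine ⟨c.equiv c' (Equiv.refl _), fun x y => ?_⟩
  have h : B'.compl₁₂ (c.equiv c' (Equiv.refl _)).toLinearMap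
      (c.equiv c' (Equiv.refl _)).toLinearMap = B := by
    refine c.ext fun i => c.ext fun j => ?_
    simp only [LinearMap.compl₁₂_apply, LinearEquiv.coe_coe, Basis.equiv_apply, Equiv.refl_apply]
    by_cases hij : i = j
    · subst hij
      by_cases hi : i = Fin.last n
      · subst hi; exact hlast.symm
      · rw [hc1 i hi, hc1' i hi]
    · rw [hc i j hij, hc' i j hij]
  exact LinearMap.congr_fun (LinearMap.congr_fun h x) y

/-- A nondegenerate symmetric form on a space of dimension `2k` is of plus type iff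
`(-1)^k det` is a square. -/
theorem plus_iff_isSquare [Finite F] [FiniteDimensional F V] (h2 : (2 : F) ≠ 0)
    (B : LinearMap.BilinForm F V) (hS : B.IsSymm) (b : Basis ι F V)
    (hd : (LinearMap.BilinForm.toMatrix b B).det ≠ 0) {k : ℕ} (hk : Fintype.card ι = 2 * k) :
    (∃ X : Submodule F V, finrank F X = k ∧ ∀ x ∈ X, ∀ y ∈ X, B x y = 0) ↔
      IsSquare ((-1 : F) ^ k * (LinearMap.BilinForm.toMatrix b B).det) := by
  have hV : finrank F V = 2 * k := by rw [finrank_eq_card_basis b, hk]
  constructor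
  · rintro ⟨X, hX, hiso⟩
    obtain ⟨Y, hY⟩ := X.exists_isCompl
    have hYd : finrank F Y = k := by have := Submodule.finrank_add_eq_of_isCompl hY; omega
    obtain ⟨c, hc⟩ : ∃ c, c = ((Module.finBasisOfFinrankEq F X hX).prod
      (Module.finBasisOfFinrankEq F Y hYd)).map (Submodule.prodEquivOfIsCompl X Y hY) := ⟨_, rfl⟩
    obtain ⟨t, ht, hte⟩ := det_toMatrix₂_change B b c
    obtain ⟨M, hM⟩ : ∃ M, M = LinearMap.BilinForm.toMatrix c B := ⟨_, rfl⟩
    rw [← hM] at hte
    have h11 : M.toBlocks₁₁ = 0 := by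
      ext i j
      simp only [toBlocks₁₁, of_apply, hM, LinearMap.BilinForm.toMatrix_apply, hc, Basis.map_apply,
        Matrix.zero_apply]
      exact hiso _ (by simp) _ (by simp)
    have h21 : M.toBlocks₂₁ = M.toBlocks₁₂ᵀ := by
      ext i j
      simp only [toBlocks₂₁, toBlocks₁₂, of_apply, transpose_apply, hM,
        LinearMap.BilinForm.toMatrix_apply]
      exact hS.eq _ _
    rw [← fromBlocks_toBlocks M, h11, h21, det_fromBlocks_zero₁₁', det_transpose,
      Fintype.card_fin] at hte
    refine ⟨M.toBlocks₁₂.det / t, ?_⟩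
    field_simp
    have h1 : ((-1 : F) ^ k) ^ 2 = 1 := by rw [← pow_mul, mul_comm, pow_mul]; simp
    linear_combination -((-1 : F) ^ k) * hte + M.toBlocks₁₂.det ^ 2 * h1
  · intro hsq
    obtain ⟨B', hB'⟩ : ∃ B', B' = Matrix.toBilin' (fromBlocks 0 1 1 0 :
      Matrix (Fin k ⊕ Fin k) (Fin k ⊕ Fin k) F) := ⟨_, rfl⟩
    have hM : LinearMap.BilinForm.toMatrix (Pi.basisFun F (Fin k ⊕ Fin k)) B' =
        fromBlocks 0 1 1 0 := by
      rw [LinearMap.BilinForm.toMatrix_basisFun, hB', LinearMap.BilinForm.toMatrix'_toBilin']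
    have hdet : (LinearMap.BilinForm.toMatrix (Pi.basisFun F (Fin k ⊕ Fin k)) B').det =
        (-1) ^ k := by
      rw [hM, det_fromBlocks_zero₁₁', det_one, Fintype.card_fin]; ring
    have hS' : B'.IsSymm := ⟨fun x y => by
      rw [hB', Matrix.toBilin'_apply', Matrix.toBilin'_apply', dotProduct_mulVec, dotProduct_comm,
        ← mulVec_transpose, fromBlocks_transpose, transpose_zero, transpose_one]⟩
    obtain ⟨g, hg⟩ := exists_isometry_of_isSquare h2 B' B hS' hS (Pi.basisFun F (Fin k ⊕ Fin k)) b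
      (by simp [hk, two_mul]) (by rw [hdet]; exact pow_ne_zero _ (neg_ne_zero.2 one_ne_zero)) hd
      (by rwa [hdet])
    obtain ⟨L, hL⟩ : ∃ L : (Fin k → F) →ₗ[F] (Fin k ⊕ Fin k → F),
        ∀ v, L v = Sum.elim v (0 : Fin k → F) :=
      ⟨{ toFun := fun v => Sum.elim v (0 : Fin k → F)
         map_add' := fun u v => by ext (i | i) <;> simp
         map_smul' := fun c v => by ext (i | i) <;> simp }, fun v => rfl⟩
    refine ⟨LinearMap.range (g.toLinearMap.comp L), ?_, ?_⟩
    · rw [LinearMap.finrank_range_of_inj, Module.finrank_fin_fun]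
      intro u v h
      have h' := g.injective h
      rw [hL, hL] at h'
      exact funext fun i => congrFun h' (Sum.inl i)
    · rintro _ ⟨u, rfl⟩ _ ⟨v, rfl⟩
      rw [LinearMap.comp_apply, LinearMap.comp_apply, LinearEquiv.coe_coe, hg, hL, hL, hB',
        Matrix.toBilin'_apply']
      simp [fromBlocks_mulVec, dotProduct, Fintype.sum_sum_type]

theorem det_tmul {W : Type*} [AddCommGroup W] [Module F W] {κ : Type*} [Fintype κ] [DecidableEq κ]
    (B₁ : LinearMap.BilinForm F V) (B₂ : LinearMap.BilinForm F W) (b : Basis ι F V)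
    (c : Basis κ F W) :
    (LinearMap.BilinForm.toMatrix (b.tensorProduct c) (B₁.tmul B₂)).det =
      (LinearMap.BilinForm.toMatrix b B₁).det ^ Fintype.card κ *
        (LinearMap.BilinForm.toMatrix c B₂).det ^ Fintype.card ι := by
  rw [← det_kronecker]
  congr 1
  ext ⟨i, j⟩ ⟨i', j'⟩
  simp [LinearMap.BilinForm.toMatrix_apply, kroneckerMap_apply, LinearMap.BilinForm.tmul, mul_comm]

theorem isSymm_tmul {W : Type*} [AddCommGroup W] [Module F W]
    [FiniteDimensional F V] [FiniteDimensional F W]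
    (B₁ : LinearMap.BilinForm F V) (B₂ : LinearMap.BilinForm F W) (h₁ : B₁.IsSymm)
    (h₂ : B₂.IsSymm) : (B₁.tmul B₂).IsSymm := by
  have h : (B₁.tmul B₂).flip = B₁.tmul B₂ := by
    refine ((Module.finBasis F V).tensorProduct (Module.finBasis F W)).ext fun i =>
      ((Module.finBasis F V).tensorProduct (Module.finBasis F W)).ext fun j => ?_
    obtain ⟨i₁, i₂⟩ := i
    obtain ⟨j₁, j₂⟩ := j
    simp [LinearMap.BilinForm.tmul, h₁.eq (Module.finBasis F V i₁), h₂.eq (Module.finBasis F W i₂)]
  exact ⟨fun x y => LinearMap.congr_fun (LinearMap.congr_fun h y) x⟩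

end CfsgLib.Forms
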