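import Cfsg.Agent.Forms.OrthIndex
import Cfsg.Agent.Spinor.Pairs

/-!
# Determinants of isometries

Main results: `det_reflectionMatrix`, `det_mat_eq`, `mem_special_iff`, `det_isReflProd`,
`special_eq_closure_pairs`, `special_eq_top`, `existsUnique_index_two_special`.
-/

namespace CfsgLib.Forms

open Matrix Module CfsgLib.Spinor

variable {F : Type*} [Field F] {ι : Type} [Fintype ι] [DecidableEq ι] {Q : QuadraticForm F (ι → F)}

theorem reflectionMatrix_mulVec_self {v : ι → F} (hv : Q v ≠ 0) :
    Cfsg.reflectionMatrix (⇑Q) v *ᵥ v = -v := by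
  rw [reflectionMatrix_mulVec, refl_apply, polar_self',
    show (Q v)⁻¹ * (2 * Q v) = 2 by field_simp]
  module

theorem reflectionMatrix_mulVec_fix {v x : ι → F} (hx : QuadraticMap.polar (⇑Q) v x = 0) :
    Cfsg.reflectionMatrix (⇑Q) v *ᵥ x = x := by
  rw [reflectionMatrix_mulVec, refl_apply, hx, mul_zero, zero_smul, sub_zero]

theorem det_reflectionMatrix {v : ι → F} (hv : Q v ≠ 0) :
    (Cfsg.reflectionMatrix (⇑Q) v).det = -1 := by
  rw [Cfsg.reflectionMatrix, sub_eq_add_neg, ← neg_smul, ← smul_vecMulVec,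
    vecMulVec_eq Unit, det_one_add_replicateCol_mul_replicateRow, dotProduct_smul,
    polarVec_dot, polar_self', smul_eq_mul]
  field_simp
  ring

/-- An isometry of a nondegenerate form has determinant `±1`. -/
theorem det_mat_eq (hQ : (QuadraticMap.polarBilin Q).Nondegenerate)
    (g : ↥(Cfsg.isometryGroup F ⇑Q)) : (mat Q g).det = 1 ∨ (mat Q g).det = -1 := by
  obtain ⟨B, hB⟩ : ∃ B, B = LinearMap.toMatrix₂' F (QuadraticMap.polarBilin Q) := ⟨_, rfl⟩
  have hd : B.det ≠ 0 := by
    rw [hB]
    exact ((LinearMap.nondegenerate_iff_det_ne_zero (Pi.basisFun F ι)).1 hQ)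
  have h : (mat Q g)ᵀ * B * mat Q g = B := by
    conv_rhs => rw [hB, show QuadraticMap.polarBilin Q =
      (QuadraticMap.polarBilin Q).compl₁₂ (Matrix.toLin' (mat Q g)) (Matrix.toLin' (mat Q g)) from
      LinearMap.ext₂ fun x y => (polar_mulVec Q g x y).symm]
    rw [LinearMap.toMatrix₂'_compl₁₂, LinearMap.toMatrix'_toLin', ← hB]
  have h' := congrArg Matrix.det h
  rw [det_mul, det_mul, det_transpose] at h'
  exact mul_self_eq_one_iff.1 (mul_left_cancel₀ hd (by linear_combination h'))

theorem mem_special_iff (g : ↥(Cfsg.isometryGroup F ⇑Q)) :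
    g ∈ Cfsg.specialIsometryGroup F ⇑Q ↔ (mat Q g).det = 1 := by
  rw [Cfsg.specialIsometryGroup, MonoidHom.mem_ker, Units.ext_iff]
  rfl

theorem det_reflIso (v : ι → F) (hv : Q v ≠ 0) : (mat Q (reflIso Q v hv)).det = -1 :=
  det_reflectionMatrix hv

theorem det_isReflProd {g : ↥(Cfsg.isometryGroup F ⇑Q)} :
    ∀ {vs : List (ι → F)}, IsReflProd Q g vs → (mat Q g).det = (-1) ^ vs.length := by
  intro vs hvs
  rw [hvs.2]
  have := hvs.1
  clear hvs
  induction vs with
  | nil => simp
  | cons v vs ih =>
    rw [List.map_cons, List.prod_cons, det_mul, det_reflectionMatrix (this v List.mem_cons_self),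
      ih fun w hw => this w (List.mem_cons_of_mem _ hw), List.length_cons, pow_succ']

theorem omega_le_special : Cfsg.Omega F ⇑Q ≤ Cfsg.specialIsometryGroup F ⇑Q :=
  Abelianization.commutator_subset_ker
    (Matrix.GeneralLinearGroup.det.comp (Cfsg.isometryGroup F ⇑Q).subtype)

/-- In characteristic two every isometry is special. -/
theorem special_eq_top (h2 : (2 : F) = 0) (hQ : (QuadraticMap.polarBilin Q).Nondegenerate) :
    Cfsg.specialIsometryGroup F ⇑Q = ⊤ := by
  rw [eq_top_iff]
  intro g _
  rw [mem_special_iff]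
  rcases det_mat_eq hQ g with h | h
  · exact h
  · rw [h]; linear_combination -h2

/-- For `2 ≠ 0` the special isometry group is generated by pairs of reflections. -/
theorem special_eq_closure_pairs (h2 : (2 : F) ≠ 0)
    (hgen : ∀ g : ↥(Cfsg.isometryGroup F ⇑Q), ∃ vs, IsReflProd Q g vs) :
    Cfsg.specialIsometryGroup F ⇑Q = Subgroup.closure {g : ↥(Cfsg.isometryGroup F ⇑Q) |
      ∃ u v : ι → F, Q u ≠ 0 ∧ Q v ≠ 0 ∧
        mat Q g = Cfsg.reflectionMatrix ⇑Q u * Cfsg.reflectionMatrix ⇑Q v} := by
  refine le_antisymm (fun g hg => ?_) ((Subgroup.closure_le _).2 ?_)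
  · obtain ⟨vs, hvs⟩ := hgen g
    rw [mem_special_iff, det_isReflProd hvs,
      neg_one_pow_eq_one_iff_even (fun h => h2 (by linear_combination -h))] at hg
    obtain ⟨k, hk⟩ := hg
    induction k generalizing vs g with
    | zero =>
      rw [List.length_eq_zero_iff.1 hk] at hvs
      rw [show g = 1 from mat_ext Q hvs.2]
      exact one_mem _
    | succ k ih =>
      rcases vs with _ | ⟨u, _ | ⟨v, ws⟩⟩
      · simp at hk
      · simp at hk; omega
      · have hu := hvs.1 u List.mem_cons_self
        have hv := hvs.1 v (List.mem_cons_of_mem _ List.mem_cons_self)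
        obtain ⟨g', hg'⟩ := exists_isometry_of_prod (Q := Q) ws fun w hw =>
          hvs.1 w (List.mem_cons_of_mem _ (List.mem_cons_of_mem _ hw))
        have hgg : g = reflIso Q u hu * reflIso Q v hv * g' := mat_ext Q (by
          rw [mat_mul, mat_mul, hvs.2, hg'.2, mat_reflIso, mat_reflIso, List.map_cons,
            List.prod_cons, List.map_cons, List.prod_cons, mul_assoc])
        rw [hgg]
        exact mul_mem (Subgroup.subset_closure ⟨u, v, hu, hv, rfl⟩)
          (ih g' ws hg' (by simp only [List.length_cons] at hk; omega))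
  · rintro g ⟨u, v, hu, hv, hg⟩
    rw [SetLike.mem_coe, mem_special_iff, hg, det_mul, det_reflectionMatrix hu,
      det_reflectionMatrix hv]
    ring

/-- The special isometry group has a unique subgroup of index two. -/
theorem existsUnique_index_two_special [Finite F] (hn : 2 ≤ Fintype.card ι)
    (hQ : (QuadraticMap.polarBilin Q).Nondegenerate)
    (hexc : Nat.card F ≠ 2 ∨ Fintype.card ι ≠ 4) :
    ∃! H : Subgroup ↥(Cfsg.specialIsometryGroup F ⇑Q), H.index = 2 := by
  haveI := Fintype.ofFinite F
  have hgen := exists_isReflProd_finite hQ hexc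
  have hΩ := omega_le_special (Q := Q)
  have hmul := Subgroup.relIndex_mul_index hΩ
  have hidx : (Cfsg.Omega F ⇑Q).relIndex (Cfsg.specialIsometryGroup F ⇑Q) = 2 := by
    by_cases h2 : (2 : F) = 0
    · haveI : CharP F 2 := CharTwo.of_one_ne_zero_of_two_eq_zero one_ne_zero h2
      rw [special_eq_top h2 hQ, Subgroup.relIndex_top_right,
        index_omega_charTwo hQ (by omega) hexc]
    · obtain ⟨v, hv⟩ := exists_value h2 hQ hn 1
      have hv0 : Q v ≠ 0 := by rw [hv]; exact one_ne_zero
      have hS : (Cfsg.specialIsometryGroup F ⇑Q).index = 2 := by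
        rw [Subgroup.index_eq_two_iff]
        refine ⟨reflIso Q v hv0, fun g => ?_⟩
        rw [mem_special_iff, mem_special_iff, mat_mul, det_mul, det_reflIso]
        have hne : (-1 : F) ≠ 1 := fun h => h2 (by linear_combination -h)
        rcases det_mat_eq hQ g with h | h <;> rw [h] <;>
          simp [Xor', hne, xor_iff_not_iff]
      rw [index_omega_odd h2 hQ hn, hS] at hmul
      omega
  refine ⟨(Cfsg.Omega F ⇑Q).subgroupOf (Cfsg.specialIsometryGroup F ⇑Q), hidx, fun H hH => ?_⟩
  haveI := Subgroup.normal_of_index_eq_two hH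
  have hle : Cfsg.Omega F ⇑Q ≤ H.map (Cfsg.specialIsometryGroup F ⇑Q).subtype := by
    by_cases h2 : (2 : F) = 0
    · have htop := special_eq_top h2 hQ
      haveI : (H.map (Cfsg.specialIsometryGroup F ⇑Q).subtype).Normal :=
        Subgroup.normal_of_index_eq_two (by
          rw [Subgroup.index_map_subtype, hH, htop, Subgroup.index_top, mul_one])
      refine (Subgroup.Normal.quotient_commutative_iff_commutator_le
        (N := H.map (Cfsg.specialIsometryGroup F ⇑Q).subtype)).1 ?_
      haveI : Fact (Nat.Prime 2) := ⟨Nat.prime_two⟩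
      haveI : IsCyclic (↥(Cfsg.isometryGroup F ⇑Q) ⧸
          H.map (Cfsg.specialIsometryGroup F ⇑Q).subtype) := isCyclic_of_prime_card (p := 2) (by
        rw [← Subgroup.index_eq_card, Subgroup.index_map_subtype, hH, htop, Subgroup.index_top,
          mul_one])
      exact ⟨⟨fun a b => mul_comm' a b⟩⟩
    · obtain ⟨S, hSdef⟩ : ∃ S, S = Subgroup.closure
          ((fun g => g * g) '' (Cfsg.specialIsometryGroup F ⇑Q : Set ↥(Cfsg.isometryGroup F ⇑Q))) :=
        ⟨_, rfl⟩
      haveI hSn : S.Normal := by
        refine ⟨fun x hx a => ?_⟩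
        rw [hSdef] at hx ⊢
        induction hx using Subgroup.closure_induction with
        | mem y hy =>
          obtain ⟨g, hg, rfl⟩ := hy
          refine Subgroup.subset_closure ⟨a * g * a⁻¹, ?_, by group⟩
          exact (MonoidHom.normal_ker _).conj_mem g hg a
        | one => simp
        | mul y z _ _ hy hz => simpa [mul_assoc] using mul_mem hy hz
        | inv y _ hy => simpa [mul_assoc] using inv_mem hy
      have h1 : Cfsg.Omega F ⇑Q ≤ (QuotientGroup.mk' S).ker := by
        refine omega_le_of_reflections_commute hgen _ fun u w hu hw => ?_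
        have hinv : ∀ (z : ι → F) (hz : Q z ≠ 0), reflIso Q z hz * reflIso Q z hz = 1 :=
          fun z hz => mat_ext Q (reflectionMatrix_mul_self Q hz)
        have hp : reflIso Q u hu * reflIso Q w hw * (reflIso Q u hu * reflIso Q w hw) ∈ S := by
          rw [hSdef]
          refine Subgroup.subset_closure ⟨_, ?_, rfl⟩
          rw [SetLike.mem_coe, mem_special_iff, mat_mul, det_mul, det_reflIso, det_reflIso]
          ring
        have e1 := congrArg (QuotientGroup.mk' S) (hinv u hu)
        have e2 := congrArg (QuotientGroup.mk' S) (hinv w hw)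
        have e3 : QuotientGroup.mk' S
            (reflIso Q u hu * reflIso Q w hw * (reflIso Q u hu * reflIso Q w hw)) = 1 :=
          (QuotientGroup.eq_one_iff _).2 hp
        simp only [map_mul, map_one] at e1 e2 e3
        calc QuotientGroup.mk' S (reflIso Q u hu) * QuotientGroup.mk' S (reflIso Q w hw)
            = (QuotientGroup.mk' S (reflIso Q u hu) * QuotientGroup.mk' S (reflIso Q w hw))⁻¹ :=
              eq_inv_of_mul_eq_one_left e3
          _ = _ := by rw [_root_.mul_inv_rev, inv_eq_of_mul_eq_one_right e1,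
              inv_eq_of_mul_eq_one_right e2]
      refine h1.trans ?_
      rw [QuotientGroup.ker_mk', hSdef, Subgroup.closure_le]
      rintro _ ⟨g, hg, rfl⟩
      refine ⟨⟨g, hg⟩ * ⟨g, hg⟩, ?_, rfl⟩
      have := Subgroup.sq_mem_of_index_two hH ⟨g, hg⟩
      rwa [pow_two] at this
  have hle' : (Cfsg.Omega F ⇑Q).subgroupOf (Cfsg.specialIsometryGroup F ⇑Q) ≤ H := fun x hx => by
    obtain ⟨y, hy, hyx⟩ := hle hx
    rwa [← Subtype.ext hyx]
  have he := Subgroup.relIndex_mul_index hle'
  rw [show ((Cfsg.Omega F ⇑Q).subgroupOf (Cfsg.specialIsometryGroup F ⇑Q)).index = 2 from hidx,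
    hH] at he
  exact le_antisymm (Subgroup.relIndex_eq_one.1 (by omega)) hle'

end CfsgLib.Forms
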