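import Cfsg.Agent.Forms.Diagonal

/-!
# Orthogonal complements for quadratic forms

Main results: `perpSub`, `sep_perpSub`, `le_finrank_perpSub`, `exists_quad_value`,
`exists_quad_isotropic`, `exists_hyperbolic_partner`.
-/

namespace CfsgLib.Forms

open Module Matrix

variable {F V : Type*} [Field F] [AddCommGroup V] [Module F V]

/-- The orthogonal complement of a family of vectors. -/
def perpSub (Q : QuadraticForm F V) {k : ℕ} (s : Fin k → V) : Submodule F V :=
  LinearMap.ker (LinearMap.pi fun i => QuadraticMap.polarBilin Q (s i))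

theorem mem_perpSub {Q : QuadraticForm F V} {k : ℕ} {s : Fin k → V} {x : V} :
    x ∈ perpSub Q s ↔ ∀ i, QuadraticMap.polar (⇑Q) (s i) x = 0 :=
  ⟨fun h i => congrFun h i, fun h => funext h⟩

theorem le_finrank_perpSub [FiniteDimensional F V] (Q : QuadraticForm F V) {k : ℕ}
    (s : Fin k → V) : finrank F V ≤ finrank F (perpSub Q s) + k := by
  have h := LinearMap.finrank_range_add_finrank_ker
    (LinearMap.pi fun i => QuadraticMap.polarBilin Q (s i))
  have h' := Submodule.finrank_le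
    (LinearMap.range (LinearMap.pi fun i => QuadraticMap.polarBilin Q (s i)))
  rw [Module.finrank_fin_fun] at h'
  rw [perpSub]
  omega

/-- The complement of a family with invertible Gram matrix is nondegenerate. -/
theorem sep_perpSub (Q : QuadraticForm F V) (hsep : ∀ x, (∀ y, QuadraticMap.polar (⇑Q) x y = 0) → x = 0)
    {k : ℕ} (s : Fin k → V)
    (hG : (Matrix.of fun i j => QuadraticMap.polar (⇑Q) (s i) (s j)).det ≠ 0) :
    ∀ x : perpSub Q s, (∀ y : perpSub Q s,
      QuadraticMap.polar (⇑(Q.comp (perpSub Q s).subtype)) x y = 0) → x = 0 := by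
  intro x hx
  apply Subtype.ext
  apply hsep
  intro y
  obtain ⟨G, hGdef⟩ : ∃ G, G = Matrix.of fun i j => QuadraticMap.polar (⇑Q) (s i) (s j) :=
    ⟨_, rfl⟩
  rw [← hGdef] at hG
  obtain ⟨a, ha⟩ : ∃ a, a = G⁻¹ *ᵥ fun i => QuadraticMap.polar (⇑Q) (s i) y := ⟨_, rfl⟩
  have hGa : G *ᵥ a = fun i => QuadraticMap.polar (⇑Q) (s i) y := by
    rw [ha, mulVec_mulVec, Matrix.mul_nonsing_inv _ (isUnit_iff_ne_zero.2 hG), one_mulVec]
  have hmem : y - ∑ j, a j • s j ∈ perpSub Q s := by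
    rw [mem_perpSub]
    intro i
    have h := congrFun hGa i
    rw [hGdef] at h
    simp only [mulVec, dotProduct, Matrix.of_apply] at h
    rw [QuadraticMap.polar_sub_right, ← h, ← QuadraticMap.polarBilin_apply_apply, map_sum]
    simp [mul_comm]
  have h1 := hx ⟨_, hmem⟩
  have hxs : ∀ j, QuadraticMap.polar (⇑Q) (x : V) (s j) = 0 := fun j => by
    rw [QuadraticMap.polar_comm]; exact mem_perpSub.1 x.2 j
  have h2 : QuadraticMap.polar (⇑Q) (x : V) (y - ∑ j, a j • s j) = 0 := by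
    simpa [QuadraticMap.polar] using h1
  rw [QuadraticMap.polar_sub_right, sub_eq_zero] at h2
  rw [h2, ← QuadraticMap.polarBilin_apply_apply, map_sum]
  simp [hxs]

/-- A nondegenerate form of dimension at least two in odd characteristic takes every value. -/
theorem exists_quad_value [Finite F] [FiniteDimensional F V] (h2 : (2 : F) ≠ 0)
    (Q : QuadraticForm F V) (hsep : ∀ x, (∀ y, QuadraticMap.polar (⇑Q) x y = 0) → x = 0)
    (hd : 2 ≤ finrank F V) (c : F) : ∃ z, Q z = c := by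
  obtain ⟨α, hα⟩ := FiniteField.exists_nonsquare (F := F) (fun h => h2 (by
    haveI := ringChar.eq_iff.1 h; exact CharTwo.two_eq_zero))
  obtain ⟨n, hn⟩ : ∃ n, finrank F V = n + 1 + 1 := ⟨finrank F V - 2, by omega⟩
  obtain ⟨b, hb, hb1, hb2⟩ := exists_diagonal_basis_symm h2 (QuadraticMap.polarBilin Q)
    ⟨fun x y => by simp [QuadraticMap.polar_comm]⟩ hsep hα hn
  have hα0 : α ≠ 0 := fun h => hα (h ▸ ⟨0, by simp⟩)
  obtain ⟨d, hd0, hdQ⟩ : ∃ d, d ≠ 0 ∧
      QuadraticMap.polarBilin Q (b (Fin.last _)) (b (Fin.last _)) = d := by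
    rcases hb2 with h | h
    · exact ⟨1, one_ne_zero, h⟩
    · exact ⟨α, hα0, h⟩
  have hne : (0 : Fin (n + 1 + 1)) ≠ Fin.last _ := by simp [Fin.ext_iff]
  obtain ⟨x, y, h⟩ := exists_diag_binary h2 one_ne_zero hd0 (2 * c)
  refine ⟨x • b 0 + y • b (Fin.last _), mul_left_cancel₀ h2 ?_⟩
  have hb0 := hb1 0 hne
  simp only [QuadraticMap.polarBilin_apply_apply, QuadraticMap.polar_self, nsmul_eq_mul,
    Nat.cast_ofNat] at hb0 hdQ
  have ho : QuadraticMap.polar (⇑Q) (b 0) (b (Fin.last _)) = 0 := hb _ _ hne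
  rw [QuadraticMap.map_add (⇑Q), QuadraticMap.map_smul, QuadraticMap.map_smul,
    QuadraticMap.polar_smul_left, QuadraticMap.polar_smul_right, ho]
  simp only [smul_eq_mul]
  linear_combination h + x * x * hb0 + y * y * hdQ

/-- A nondegenerate form of dimension at least three in odd characteristic is isotropic. -/
theorem exists_quad_isotropic [Finite F] [FiniteDimensional F V] (h2 : (2 : F) ≠ 0)
    (Q : QuadraticForm F V) (hsep : ∀ x, (∀ y, QuadraticMap.polar (⇑Q) x y = 0) → x = 0)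
    (hd : 3 ≤ finrank F V) : ∃ z, z ≠ 0 ∧ Q z = 0 := by
  obtain ⟨v, hv⟩ := exists_quad_value h2 Q hsep (by omega) 1
  have hvv : QuadraticMap.polar (⇑Q) v v = 2 := by
    rw [QuadraticMap.polar_self, hv]; simp
  have hG : (Matrix.of fun i j : Fin 1 => QuadraticMap.polar (⇑Q) (![v] i) (![v] j)).det ≠ 0 := by
    simp [hvv, h2]
  obtain ⟨w, hw⟩ := exists_quad_value h2 (Q.comp (perpSub Q ![v]).subtype)
    (sep_perpSub Q hsep _ hG) (by have := le_finrank_perpSub Q ![v]; omega) (-1)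
  have hw0 : QuadraticMap.polar (⇑Q) v (w : V) = 0 := mem_perpSub.1 w.2 0
  refine ⟨v + (w : V), fun h => ?_, ?_⟩
  · have h' := congrArg (QuadraticMap.polar (⇑Q) v) h
    rw [QuadraticMap.polar_add_right, hvv, hw0, QuadraticMap.polar_zero_right, add_zero] at h'
    exact h2 h'
  · rw [QuadraticMap.map_add (⇑Q), hv, hw0, show Q (w : V) = -1 from hw]
    ring

/-- A singular vector extends to a hyperbolic pair. -/
theorem exists_hyperbolic_partner (Q : QuadraticForm F V)
    (hsep : ∀ x, (∀ y, QuadraticMap.polar (⇑Q) x y = 0) → x = 0) {a : V} (ha0 : a ≠ 0)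
    (ha : Q a = 0) : ∃ b, Q b = 0 ∧ QuadraticMap.polar (⇑Q) a b = 1 := by
  obtain ⟨z, hz⟩ : ∃ z, QuadraticMap.polar (⇑Q) a z ≠ 0 := by
    by_contra h
    exact ha0 (hsep a fun y => not_not.1 fun hy => h ⟨y, hy⟩)
  obtain ⟨p, hp⟩ : ∃ p, QuadraticMap.polar (⇑Q) a p = 1 :=
    ⟨(QuadraticMap.polar (⇑Q) a z)⁻¹ • z, by
      rw [QuadraticMap.polar_smul_right, smul_eq_mul, inv_mul_cancel₀ hz]⟩
  refine ⟨p + (-Q p) • a, ?_, ?_⟩
  · rw [QuadraticMap.map_add (⇑Q), QuadraticMap.map_smul, ha, QuadraticMap.polar_smul_right,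
      QuadraticMap.polar_comm (⇑Q) p a, hp, smul_eq_mul, smul_eq_mul]
    ring
  · rw [QuadraticMap.polar_add_right, hp, QuadraticMap.polar_smul_right, QuadraticMap.polar_self,
      ha]
    simp

end CfsgLib.Forms
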