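import Mathlib

/-!
# Witt's extension theorem

One proof for alternating forms, quadratic forms with nondegenerate polar form (any characteristic)
and Hermitian forms.  The data is a reflexive sesquilinear form `B` together with a function `q`
satisfying `q (u + v) = q u + q v + T (B u v)` for an additive map `T`.

Main results: `witt_extension` (general), `witt_alt`, `witt_quadratic`, `witt_hermitian`.
-/

namespace CfsgLib.Forms

open Module Submodule

variable {F V : Type*} [Field F] [AddCommGroup V] [Module F V]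

/-- In a subspace `W`, two subspaces of equal finite dimension have a common complement. -/
theorem exists_common_complement [FiniteDimensional F V] (W : Submodule F V) :
    ∀ (d : ℕ) (X Y : Submodule F V), X ≤ W → Y ≤ W → finrank F X = finrank F Y →
      finrank F W ≤ finrank F X + d →
      ∃ U : Submodule F V, U ≤ W ∧ X ⊓ U = ⊥ ∧ Y ⊓ U = ⊥ ∧ X ⊔ U = W ∧ Y ⊔ U = W := by
  intro d
  induction d with
  | zero =>
    intro X Y hX hY hXY hd
    have h1 : X = W := Submodule.eq_of_le_of_finrank_le hX (by omega)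
    have h2 : Y = W := Submodule.eq_of_le_of_finrank_le hY (by omega)
    exact ⟨⊥, bot_le, inf_bot_eq _, inf_bot_eq _, by simp [h1], by simp [h2]⟩
  | succ d ih =>
    intro X Y hX hY hXY hd
    by_cases hXW : X = W
    · have h2 : Y = W := Submodule.eq_of_le_of_finrank_le hY (by rw [← hXY, hXW])
      exact ⟨⊥, bot_le, inf_bot_eq _, inf_bot_eq _, by simp [hXW], by simp [h2]⟩
    have hYW : Y ≠ W := by
      intro h
      exact hXW (Submodule.eq_of_le_of_finrank_le hX (by rw [hXY, h]))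
    obtain ⟨a, haW, haX⟩ := SetLike.exists_of_lt (lt_of_le_of_ne hX hXW)
    obtain ⟨b, hbW, hbY⟩ := SetLike.exists_of_lt (lt_of_le_of_ne hY hYW)
    obtain ⟨u, huW, huX, huY⟩ : ∃ u ∈ W, u ∉ X ∧ u ∉ Y := by
      by_cases ha : a ∈ Y
      · by_cases hb : b ∈ X
        · refine ⟨a + b, W.add_mem haW hbW, ?_, ?_⟩
          · intro h; exact haX (by simpa using X.sub_mem h hb)
          · intro h; exact hbY (by simpa using Y.sub_mem h ha)
        · exact ⟨b, hbW, hb, hbY⟩
      · exact ⟨a, haW, haX, ha⟩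
    have hu0 : u ≠ 0 := fun h => huX (h ▸ X.zero_mem)
    have hsX : X ⊓ span F {u} = ⊥ := by
      rw [← disjoint_iff]; exact Submodule.disjoint_span_singleton_of_notMem huX
    have hsY : Y ⊓ span F {u} = ⊥ := by
      rw [← disjoint_iff]; exact Submodule.disjoint_span_singleton_of_notMem huY
    have hXd : finrank F ↥(X ⊔ span F {u}) = finrank F X + 1 := by
      have h := Submodule.finrank_sup_add_finrank_inf_eq X (span F {u})
      rw [hsX, finrank_bot, finrank_span_singleton hu0] at h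
      omega
    have hYd : finrank F ↥(Y ⊔ span F {u}) = finrank F Y + 1 := by
      have h := Submodule.finrank_sup_add_finrank_inf_eq Y (span F {u})
      rw [hsY, finrank_bot, finrank_span_singleton hu0] at h
      omega
    have hsW : span F {u} ≤ W := (span_singleton_le_iff_mem u W).2 huW
    obtain ⟨U, hUW, hU1, hU2, hU3, hU4⟩ :=
      ih (X ⊔ span F {u}) (Y ⊔ span F {u}) (sup_le hX hsW) (sup_le hY hsW) (by omega) (by omega)
    refine ⟨span F {u} ⊔ U, sup_le hsW hUW, ?_, ?_, by rw [← sup_assoc, hU3],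
      by rw [← sup_assoc, hU4]⟩
    · rw [← disjoint_iff] at hsX hU1 ⊢
      exact Disjoint.disjoint_sup_right_of_disjoint_sup_left hsX hU1
    · rw [← disjoint_iff] at hsY hU2 ⊢
      exact Disjoint.disjoint_sup_right_of_disjoint_sup_left hsY hU2

variable {σ : F →+* F} {S : Type*}

/-- `f` is an isometric embedding of the subspace `X` for the pair `(B, q)`. -/
structure IsIsoOn (B : V →ₛₗ[σ] V →ₗ[F] F) (q : V → S) (f : V →ₗ[F] V) (X : Submodule F V) :
    Prop where
  inj : ∀ x ∈ X, f x = 0 → x = 0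
  bil : ∀ x ∈ X, ∀ y ∈ X, B (f x) (f y) = B x y
  quad : ∀ x ∈ X, q (f x) = q x

/-- A linear functional is `B w` for some `w`, when `B` is separating on the left. -/
theorem exists_rep [FiniteDimensional F V] (B : V →ₛₗ[σ] V →ₗ[F] F)
    (hσ2 : ∀ a, σ (σ a) = a) (hB : ∀ x : V, (∀ y, B x y = 0) → x = 0) (φ : V →ₗ[F] F) :
    ∃ w : V, B w = φ := by
  let b := Module.finBasis F V
  let L : V →ₗ[F] (Fin (finrank F V) → F) :=
    { toFun := fun w i => σ (B w (b i))
      map_add' := fun x y => by funext i; simp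
      map_smul' := fun c x => by
        funext i
        simp [map_mul, hσ2] }
  have hinj : Function.Injective L := by
    rw [injective_iff_map_eq_zero]
    intro w hw
    have hz : B w = 0 := by
      apply b.ext
      intro i
      have h1 : σ (B w (b i)) = 0 := congrFun hw i
      simpa using σ.injective (a₁ := B w (b i)) (a₂ := 0) (by simpa using h1)
    exact hB w fun y => by rw [hz]; rfl
  have hsurj : Function.Surjective L :=
    (LinearMap.injective_iff_surjective_of_finrank_eq_finrank (by simp)).1 hinj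
  obtain ⟨w, hw⟩ := hsurj fun i => σ (φ (b i))
  refine ⟨w, b.ext fun i => ?_⟩
  exact σ.injective (congrFun hw i)

variable [AddCommGroup S]
variable {B : V →ₛₗ[σ] V →ₗ[F] F} {q : V → S} {T : F →+ S}

/-- Extending an isometric embedding by the identity on a subspace orthogonal to the motion. -/
theorem IsIsoOn.extend_id {ε : F} (hsym : ∀ u v, B v u = ε * σ (B u v))
    (hq : ∀ u v, q (u + v) = q u + q v + T (B u v)) {f : V →ₗ[F] V} {X U : Submodule F V} {p : V}
    (hf : IsIsoOn B q f X) (hp : ∀ x ∈ X, f x - x ∈ span F {p}) (hU : ∀ u ∈ U, B p u = 0)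
    (hXU : X ⊓ U = ⊥) (hfU : X.map f ⊓ U = ⊥) :
    ∃ f' : V →ₗ[F] V, IsIsoOn B q f' (X ⊔ U) ∧ (∀ x ∈ X, f' x = f x) ∧
      ∀ x ∈ X ⊔ U, f' x - x ∈ span F {p} := by
  obtain ⟨C₀, hC₀⟩ := Submodule.exists_isCompl (X ⊔ U)
  have hc : IsCompl X (U ⊔ C₀) := by
    refine IsCompl.of_eq ?_ ?_
    · exact disjoint_iff.1 (Disjoint.disjoint_sup_right_of_disjoint_sup_left
        (disjoint_iff.2 hXU) hC₀.disjoint)
    · rw [← sup_assoc]; exact hC₀.sup_eq_top
  let f' : V →ₗ[F] V := LinearMap.ofIsCompl hc (f.domRestrict X) (U ⊔ C₀).subtype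
  have hfX : ∀ x ∈ X, f' x = f x := fun x hx => LinearMap.ofIsCompl_apply_left hc ⟨x, hx⟩
  have hfu : ∀ u ∈ U, f' u = u := fun u hu =>
    LinearMap.ofIsCompl_apply_right hc ⟨u, mem_sup_left hu⟩
  have hBxu : ∀ x ∈ X, ∀ u ∈ U, B (f x) u = B x u := by
    intro x hx u hu
    obtain ⟨a, ha⟩ := mem_span_singleton.1 (hp x hx)
    have hfx : f x = x + a • p := by rw [ha]; abel
    simp [hfx, hU u hu]
  refine ⟨f', ⟨?_, ?_, ?_⟩, hfX, ?_⟩
  · intro z hz h0
    obtain ⟨x, hx, u, hu, rfl⟩ := mem_sup.1 hz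
    rw [map_add, hfX x hx, hfu u hu] at h0
    have hu' : u ∈ X.map f ⊓ U := by
      refine ⟨⟨-x, X.neg_mem hx, ?_⟩, hu⟩
      rw [map_neg]
      exact neg_eq_of_add_eq_zero_right h0
    rw [hfU, mem_bot] at hu'
    subst hu'
    rw [add_zero] at h0 ⊢
    exact hf.inj x hx h0
  · intro z hz z' hz'
    obtain ⟨x, hx, u, hu, rfl⟩ := mem_sup.1 hz
    obtain ⟨y, hy, v, hv, rfl⟩ := mem_sup.1 hz'
    have h1 : B u (f y) = B u y := by rw [hsym (f y) u, hBxu y hy u hu, ← hsym]
    simp only [map_add, hfX x hx, hfu u hu, hfX y hy, hfu v hv, LinearMap.add_apply,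
      hf.bil x hx y hy, hBxu x hx v hv, h1]
  · intro z hz
    obtain ⟨x, hx, u, hu, rfl⟩ := mem_sup.1 hz
    rw [map_add, hfX x hx, hfu u hu, hq, hq x u, hf.quad x hx, hBxu x hx u hu]
  · intro z hz
    obtain ⟨x, hx, u, hu, rfl⟩ := mem_sup.1 hz
    rw [map_add, hfX x hx, hfu u hu, add_sub_add_right_eq_sub]
    exact hp x hx

/-- Witt's extension theorem in general form. -/
theorem witt_extension [FiniteDimensional F V] (B : V →ₛₗ[σ] V →ₗ[F] F) (q : V → S) (T : F →+ S)
    (hσ2 : ∀ a, σ (σ a) = a) (ε : F) (hsym : ∀ u v, B v u = ε * σ (B u v))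
    (hB : ∀ x : V, (∀ y, B x y = 0) → x = 0)
    (hq : ∀ u v, q (u + v) = q u + q v + T (B u v))
    (hsmul : ∀ (t : F) (v w : V), q v = q w → q (t • v) = q (t • w))
    (hdiag : ∀ v w, q v = q w → B v v = B w w)
    (hT : ∀ v w : V, ∃ c : F, T c = q v - q w)
    (X : Submodule F V) (f : V →ₗ[F] V) (hf : IsIsoOn B q f X) :
    ∃ g : V ≃ₗ[F] V, (∀ u v, B (g u) (g v) = B u v) ∧ (∀ v, q (g v) = q v) ∧
      ∀ x ∈ X, g x = f x := by
  have hq0 : q 0 = 0 := by
    have h := hq 0 0
    rw [add_zero, map_zero, map_zero, add_zero] at h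
    simpa using h
  have hrefl : ∀ u v, B u v = 0 → B v u = 0 := fun u v h => by simp [hsym u v, h]
  generalize hd : finrank F X = d
  induction d generalizing X f with
  | zero =>
    refine ⟨LinearEquiv.refl F V, fun _ _ => rfl, fun _ => rfl, fun x hx => ?_⟩
    rw [Submodule.finrank_eq_zero.1 hd, mem_bot] at hx
    simp [hx]
  | succ d ih =>
    have hXne : X ≠ ⊥ := by intro h; rw [h, finrank_bot] at hd; omega
    obtain ⟨x₀, hx₀, hx₀0⟩ := Submodule.exists_mem_ne_zero_of_ne_bot hXne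
    obtain ⟨C, hC⟩ := Submodule.exists_isCompl (span F {x₀})
    obtain ⟨H, hHdef⟩ : ∃ H : Submodule F V, H = C ⊓ X := ⟨_, rfl⟩
    have hHX : H ≤ X := hHdef ▸ inf_le_right
    have hxX : span F {x₀} ≤ X := (span_singleton_le_iff_mem _ _).2 hx₀
    have hXH : span F {x₀} ⊔ H = X := by
      rw [hHdef, ← sup_inf_assoc_of_le C hxX, hC.sup_eq_top, top_inf_eq]
    have hHd : finrank F H = d := by
      have h := Submodule.finrank_sup_add_finrank_inf_eq (span F {x₀}) H
      have h0 : span F {x₀} ⊓ H = ⊥ :=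
        le_bot_iff.1 (le_trans (inf_le_inf_left _ (hHdef ▸ inf_le_left)) hC.inf_eq_bot.le)
      rw [hXH, h0, finrank_bot, finrank_span_singleton hx₀0, hd] at h
      omega
    obtain ⟨g, hgB, hgq, hgH⟩ := ih H f
      ⟨fun x hx => hf.inj x (hHX hx), fun x hx y hy => hf.bil x (hHX hx) y (hHX hy),
        fun x hx => hf.quad x (hHX hx)⟩ hHd
    obtain ⟨f₁, hf₁def⟩ : ∃ f₁ : V →ₗ[F] V, f₁ = g.symm.toLinearMap ∘ₗ f := ⟨_, rfl⟩
    have hf₁g : ∀ x, g (f₁ x) = f x := fun x => by simp [hf₁def]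
    have hf₁ : IsIsoOn B q f₁ X :=
      ⟨fun x hx h => hf.inj x hx (by rw [← hf₁g, h, map_zero]),
        fun x hx y hy => by rw [← hgB, hf₁g, hf₁g, hf.bil x hx y hy],
        fun x hx => by rw [← hgq, hf₁g, hf.quad x hx]⟩
    have hfix : ∀ h ∈ H, f₁ h = h := fun h hh => g.injective (by rw [hf₁g, hgH h hh])
    obtain ⟨p, hpdef⟩ : ∃ p, p = f₁ x₀ - x₀ := ⟨_, rfl⟩
    have hdec : ∀ x ∈ X, ∃ a : F, ∃ h ∈ H, x = a • x₀ + h := by
      intro x hx
      rw [← hXH] at hx
      obtain ⟨y, hy, h, hh, rfl⟩ := mem_sup.1 hx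
      obtain ⟨a, rfl⟩ := mem_span_singleton.1 hy
      exact ⟨a, h, hh, rfl⟩
    have hsub : ∀ x ∈ X, f₁ x - x ∈ span F {p} := by
      intro x hx
      obtain ⟨a, h, hh, rfl⟩ := hdec x hx
      rw [map_add, map_smul, hfix h hh, hpdef, mem_span_singleton]
      exact ⟨a, by rw [smul_sub]; abel⟩
    -- it suffices to extend `f₁`
    suffices hmain : ∃ g₁ : V ≃ₗ[F] V, (∀ u v, B (g₁ u) (g₁ v) = B u v) ∧
        (∀ v, q (g₁ v) = q v) ∧ ∀ x ∈ X, g₁ x = f₁ x by
      obtain ⟨g₁, h1, h2, h3⟩ := hmain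
      exact ⟨g₁.trans g, fun u v => by simp [hgB, h1], fun v => by simp [hgq, h2],
        fun x hx => by simp [h3 x hx, hf₁g]⟩
    by_cases hp0 : p = 0
    · refine ⟨LinearEquiv.refl F V, fun _ _ => rfl, fun _ => rfl, fun x hx => ?_⟩
      have h := hsub x hx
      rw [hp0, span_zero_singleton, mem_bot, sub_eq_zero] at h
      exact h.symm
    -- conversion of a total embedding into an equivalence
    have finish : ∀ f' : V →ₗ[F] V, IsIsoOn B q f' ⊤ → (∀ x ∈ X, f' x = f₁ x) →
        ∃ g₁ : V ≃ₗ[F] V, (∀ u v, B (g₁ u) (g₁ v) = B u v) ∧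
          (∀ v, q (g₁ v) = q v) ∧ ∀ x ∈ X, g₁ x = f₁ x := by
      intro f' hf' hext
      have hinj : Function.Injective f' :=
        (injective_iff_map_eq_zero f').2 fun x hx => hf'.inj x mem_top hx
      exact ⟨LinearEquiv.ofInjectiveEndo f' hinj, fun u v => hf'.bil u mem_top v mem_top,
        fun v => hf'.quad v mem_top, hext⟩
    -- the hyperplane orthogonal to `p`
    obtain ⟨P, hPdef⟩ : ∃ P : Submodule F V, P = LinearMap.ker (B p) := ⟨_, rfl⟩
    have hmemP : ∀ v, v ∈ P ↔ B p v = 0 := fun v => by rw [hPdef]; rfl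
    have hBp : B p ≠ 0 := fun h => hp0 (hB p fun y => by rw [h]; rfl)
    have hPcard : finrank F P + 1 = finrank F V := by
      rw [hPdef]
      have h := Module.Dual.finrank_ker_add_one_of_ne_zero hBp
      exact h
    have hHP : H ≤ P := by
      intro h hh
      rw [hmemP, hpdef]
      have := hf₁.bil x₀ hx₀ h (hHX hh)
      rw [hfix h hh] at this
      simp [this]
    -- key identity
    have hkey : ∀ x ∈ X, ∀ y ∈ X, B (f₁ x) (f₁ y - y) = - B (f₁ x - x) y := by
      intro x hx y hy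
      simp [map_sub, hf₁.bil x hx y hy]
    have hYd : finrank F (X.map f₁) = d + 1 := by
      rw [← hd]
      refine ((LinearEquiv.ofBijective (f₁.submoduleMap X) ⟨?_, ?_⟩)).finrank_eq.symm
      · rw [injective_iff_map_eq_zero]
        intro x hx
        exact Subtype.ext (hf₁.inj x.1 x.2 (congrArg Subtype.val hx))
      · exact LinearMap.submoduleMap_surjective f₁ X
    have hHY : H ≤ X.map f₁ := fun h hh => ⟨h, hHX hh, hfix h hh⟩
    by_cases hXP : X ≤ P
    · -- the isotropic case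
      have hYP : X.map f₁ ≤ P := by
        rintro _ ⟨x, hx, rfl⟩
        rw [hmemP]
        apply hrefl
        have h := hkey x hx x₀ hx₀
        obtain ⟨a, ha⟩ := mem_span_singleton.1 (hsub x hx)
        rw [← hpdef, ← ha] at h
        simpa [(hmemP x₀).1 (hXP hx₀)] using h
      obtain ⟨U, hUP, hU1, hU2, hU3, hU4⟩ := exists_common_complement P (finrank F P) X
        (X.map f₁) hXP hYP (by rw [hd, hYd]) (Nat.le_add_left _ _)
      obtain ⟨f₂, hf₂, hf₂X, hf₂sub⟩ := hf₁.extend_id hsym hq hsub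
        (fun u hu => (hmemP u).1 (hUP hu)) hU1 hU2
      rw [hU3] at hf₂ hf₂sub
      have hpP : p ∈ P := by
        rw [hpdef]
        exact P.sub_mem (hYP ⟨x₀, hx₀, rfl⟩) (hXP hx₀)
      have hf₂P : ∀ x ∈ P, f₂ x ∈ P := fun x hx => by
        obtain ⟨a, ha⟩ := mem_span_singleton.1 (hf₂sub x hx)
        rw [show f₂ x = x + a • p by rw [ha]; abel]
        exact P.add_mem hx (P.smul_mem a hpP)
      have hqp : q p = 0 := by
        have hb : B x₀ p = 0 := hrefl _ _ ((hmemP x₀).1 (hXP hx₀))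
        have h := hf₁.quad x₀ hx₀
        rw [show f₁ x₀ = x₀ + p by rw [hpdef]; abel, hq, hb, map_zero, add_zero] at h
        simpa using h
      obtain ⟨e₁, he₁⟩ : ∃ e₁ : P →ₗ[F] P, e₁ = f₂.restrict hf₂P := ⟨_, rfl⟩
      have he₁inj : Function.Injective e₁ := by
        rw [injective_iff_map_eq_zero]
        intro x hx
        apply Subtype.ext
        apply hf₂.inj x.1 x.2
        rw [he₁] at hx
        exact congrArg Subtype.val hx
      let e := LinearEquiv.ofInjectiveEndo e₁ he₁inj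
      have he : ∀ x : P, f₂ x = e x := fun x => by
        show f₂ x = ((e₁ x : P) : V)
        rw [he₁]; rfl
      obtain ⟨v₁, hv₁⟩ : ∃ v, B p v ≠ 0 := by
        by_contra h
        exact hp0 (hB p fun y => not_not.1 fun hy => h ⟨y, hy⟩)
      obtain ⟨w, hw⟩ : ∃ w, B p w = 1 := ⟨(B p v₁)⁻¹ • v₁, by simp [hv₁]⟩
      have hdecV : ∀ v : V, v - (B p v) • w ∈ P := fun v => by simp [hmemP, hw]
      obtain ⟨ψ, hψ⟩ := LinearMap.exists_extend ((B w).comp (P.subtype.comp e.symm.toLinearMap))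
      obtain ⟨w₀, hw₀⟩ := exists_rep B hσ2 hB ψ
      have hw₀P : ∀ x ∈ P, B w₀ (f₂ x) = B w x := by
        intro x hx
        rw [hw₀, show f₂ x = (e ⟨x, hx⟩ : V) from he ⟨x, hx⟩]
        have h := LinearMap.congr_fun hψ (e ⟨x, hx⟩)
        simpa using h
      have hw₀p : B w₀ p ≠ 0 := by
        obtain ⟨x₁, hx₁⟩ := e.surjective ⟨p, hpP⟩
        have hfp : f₂ x₁ = p := by rw [he, hx₁]
        intro h0
        rw [← hfp, hw₀P x₁ x₁.2] at h0
        have hz : ∀ y, B (x₁ : V) y = 0 := by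
          intro y
          have hy : y = (y - B p y • w) + B p y • w := by abel
          rw [hy, map_add, map_smul, hrefl _ _ h0, smul_zero, add_zero,
            ← hf₂.bil x₁ x₁.2 _ (hdecV y), hfp]
          exact (hmemP _).1 (hf₂P _ (hdecV y))
        exact hp0 (by rw [← hfp, hB _ hz, map_zero])
      obtain ⟨c, hc⟩ := hT w w₀
      obtain ⟨w', hw'def⟩ : ∃ w', w' = w₀ + (c / B w₀ p) • p := ⟨_, rfl⟩
      have hqw' : q w' = q w := by
        rw [hw'def, hq, hsmul (c / B w₀ p) p 0 (by rw [hqp, hq0]), smul_zero, hq0, map_smul,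
          smul_eq_mul, div_mul_cancel₀ _ hw₀p, hc]
        abel
      have hw'x : ∀ x ∈ P, B w' (f₂ x) = B w x := by
        intro x hx
        simp [hw'def, hw₀P x hx, (hmemP _).1 (hf₂P x hx)]
      have hpw' : B p w' ≠ 0 := by
        intro h
        have h' := hrefl _ _ h
        rw [hw'def] at h'
        simp [(hmemP p).1 hpP] at h'
        exact hw₀p h'
      obtain ⟨f₃, hf₃⟩ : ∃ f₃ : V →ₗ[F] V,
          f₃ = f₂ + (LinearMap.toSpanSingleton F V (w' - f₂ w)).comp (B p) := ⟨_, rfl⟩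
      have hf₃e : ∀ x ∈ P, ∀ t : F, f₃ (x + t • w) = f₂ x + t • w' := by
        intro x hx t
        simp [hf₃, (hmemP x).1 hx, hw, smul_sub]
      have hdec' : ∀ v : V, ∃ x ∈ P, ∃ t : F, v = x + t • w := fun v =>
        ⟨_, hdecV v, B p v, by abel⟩
      refine finish f₃ ⟨?_, ?_, ?_⟩ ?_
      · intro v _ h
        obtain ⟨x, hx, t, rfl⟩ := hdec' v
        rw [hf₃e x hx t] at h
        have ht : t = 0 := by
          have h' := congrArg (B p) h
          simpa [(hmemP _).1 (hf₂P x hx), hpw'] using h'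
        subst ht
        simp only [zero_smul, add_zero] at h ⊢
        exact hf₂.inj x hx h
      · intro u _ v _
        obtain ⟨x, hx, t, rfl⟩ := hdec' u
        obtain ⟨y, hy, s, rfl⟩ := hdec' v
        have h1 : ∀ z ∈ P, B (f₂ z) w' = B z w := fun z hz => by
          rw [hsym w' (f₂ z), hw'x z hz, ← hsym]
        rw [hf₃e x hx t, hf₃e y hy s]
        simp [hf₂.bil x hx y hy, h1 x hx, hw'x y hy, hdiag w' w hqw']
      · intro v _
        obtain ⟨x, hx, t, rfl⟩ := hdec' v
        rw [hf₃e x hx t, hq, hq x, hf₂.quad x hx, hsmul t w' w hqw']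
        congr 2
        rw [map_smul, map_smul, hsym w' (f₂ x), hw'x x hx, ← hsym]
      · intro x hx
        rw [← hf₂X x hx]
        simp [hf₃, (hmemP x).1 (hXP hx)]
    · -- the generic case
      have hYP : ¬ X.map f₁ ≤ P := by
        intro hYP
        apply hXP
        intro y hy
        rw [hmemP]
        have h := hkey x₀ hx₀ y hy
        obtain ⟨a, ha⟩ := mem_span_singleton.1 (hsub y hy)
        rw [← ha, ← hpdef, map_smul, hrefl _ _ ((hmemP _).1 (hYP ⟨x₀, hx₀, rfl⟩)),
          smul_zero] at h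
        exact neg_eq_zero.1 h.symm
      have hcap : ∀ Z : Submodule F V, H ≤ Z → finrank F Z = d + 1 → ¬ Z ≤ P → Z ⊓ P = H := by
        intro Z hHZ hZd hZP
        refine (Submodule.eq_of_le_of_finrank_le (le_inf hHZ hHP) ?_).symm
        have hlt : Z ⊓ P < Z := lt_of_le_of_ne inf_le_left fun h => hZP (h ▸ inf_le_right)
        have := Submodule.finrank_lt_finrank_of_lt hlt
        omega
      obtain ⟨U, hUP, hU1, -, hU3, -⟩ := exists_common_complement P (finrank F P) H H hHP hHP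
        rfl (Nat.le_add_left _ _)
      have hi : ∀ Z : Submodule F V, Z ⊓ P = H → Z ⊓ U = ⊥ := fun Z hZ => by
        rw [← hU1, ← hZ, inf_assoc, inf_eq_right.2 hUP]
      obtain ⟨f₂, hf₂, hf₂X, -⟩ := hf₁.extend_id hsym hq hsub
        (fun u hu => (hmemP u).1 (hUP hu)) (hi X (hcap X hHX hd hXP))
        (hi _ (hcap _ hHY hYd hYP))
      have htop : X ⊔ U = ⊤ := by
        apply Submodule.eq_top_of_finrank_eq
        have hlt : P < X ⊔ U := by
          refine lt_of_le_of_ne (hU3 ▸ sup_le_sup_right hHX U) fun h => hXP ?_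
          rw [h]; exact le_sup_left
        have := Submodule.finrank_lt_finrank_of_lt hlt
        have := Submodule.finrank_le (X ⊔ U)
        omega
      rw [htop] at hf₂
      exact finish f₂ hf₂ hf₂X

omit [AddCommGroup S] in
/-- Packaging an isometry between two subspaces as an isometric embedding. -/
theorem exists_isIsoOn (B : V →ₛₗ[σ] V →ₗ[F] F) (q : V → S) (X Y : Submodule F V)
    (φ : X ≃ₗ[F] Y) (hb : ∀ x x' : X, B (φ x : V) (φ x' : V) = B (x : V) (x' : V))
    (hq : ∀ x : X, q (φ x : V) = q (x : V)) :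
    ∃ f : V →ₗ[F] V, IsIsoOn B q f X ∧ ∀ x : X, f (x : V) = (φ x : V) := by
  obtain ⟨f, hf⟩ := LinearMap.exists_extend (Y.subtype.comp φ.toLinearMap)
  have h : ∀ x : X, f (x : V) = (φ x : V) := fun x => LinearMap.congr_fun hf x
  refine ⟨f, ⟨fun x hx h0 => ?_, fun x hx y hy => ?_, fun x hx => ?_⟩, h⟩
  · rw [h ⟨x, hx⟩, ZeroMemClass.coe_eq_zero, LinearEquiv.map_eq_zero_iff] at h0
    exact congrArg Subtype.val h0
  · rw [h ⟨x, hx⟩, h ⟨y, hy⟩]; exact hb _ _
  · rw [h ⟨x, hx⟩]; exact hq _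

/-- Witt's extension theorem for nondegenerate alternating forms over any field. -/
theorem witt_alt [FiniteDimensional F V] (B : LinearMap.BilinForm F V) (hB : B.Nondegenerate)
    (hA : B.IsAlt) (X Y : Submodule F V) (φ : X ≃ₗ[F] Y)
    (hφ : ∀ x x' : X, B (φ x : V) (φ x' : V) = B (x : V) (x' : V)) :
    ∃ g : V ≃ₗ[F] V, (∀ u v : V, B (g u) (g v) = B u v) ∧ ∀ x : X, g (x : V) = (φ x : V) := by
  obtain ⟨f, hf, hfφ⟩ := exists_isIsoOn B (fun _ => (0 : F)) X Y φ hφ (fun _ => rfl)
  obtain ⟨g, h1, -, h3⟩ := witt_extension B (fun _ => (0 : F)) 0 (fun _ => rfl) (-1)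
    (fun u v => by simpa using (LinearMap.IsAlt.neg hA u v).symm) hB.1
    (fun _ _ => by simp) (fun _ _ _ _ => rfl) (fun v w _ => by rw [hA v, hA w])
    (fun _ _ => ⟨0, by simp⟩) X f hf
  exact ⟨g, h1, fun x => by rw [h3 x x.2, hfφ]⟩

/-- Witt's extension theorem for quadratic forms with nondegenerate polar form, in any
characteristic. -/
theorem witt_quadratic [FiniteDimensional F V] (Q : QuadraticForm F V)
    (hQ : (QuadraticMap.polarBilin Q).Nondegenerate) (X Y : Submodule F V) (φ : X ≃ₗ[F] Y)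
    (hφ : ∀ x : X, Q (φ x : V) = Q (x : V)) :
    ∃ g : V ≃ₗ[F] V, (∀ v : V, Q (g v) = Q v) ∧ ∀ x : X, g (x : V) = (φ x : V) := by
  have hb : ∀ x x' : X, QuadraticMap.polarBilin Q (φ x : V) (φ x' : V) =
      QuadraticMap.polarBilin Q (x : V) (x' : V) := by
    intro x x'
    simp only [QuadraticMap.polarBilin_apply_apply, QuadraticMap.polar]
    have h := hφ (x + x')
    rw [map_add, Submodule.coe_add, Submodule.coe_add] at h
    rw [h, hφ, hφ]
  obtain ⟨f, hf, hfφ⟩ := exists_isIsoOn (QuadraticMap.polarBilin Q) Q X Y φ hb hφ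
  obtain ⟨g, -, h2, h3⟩ := witt_extension (QuadraticMap.polarBilin Q) Q (AddMonoidHom.id F)
    (fun _ => rfl) 1 (fun u v => by simp [QuadraticMap.polar_comm]) hQ.1
    (fun u v => by simp [QuadraticMap.polar]) (fun t v w h => by simp [QuadraticMap.map_smul, h])
    (fun v w h => by simp [QuadraticMap.polar_self, h]) (fun v w => ⟨Q v - Q w, rfl⟩) X f hf
  exact ⟨g, h2, fun x => by rw [h3 x x.2, hfφ]⟩

/-- An involution other than the identity has surjective trace onto its fixed field. -/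
theorem exists_add_involution_eq (hσ : σ ≠ RingHom.id F) (hσ2 : ∀ a, σ (σ a) = a) {d : F}
    (hd : σ d = d) : ∃ c, c + σ c = d := by
  obtain ⟨a, ha⟩ : ∃ a, a + σ a ≠ 0 := by
    by_contra h
    apply hσ
    ext x
    have hall : ∀ y, y + σ y = 0 := fun y => not_not.1 fun hy => h ⟨y, hy⟩
    have h1 := hall 1
    rw [map_one] at h1
    have h2 := hall x
    show σ x = x
    linear_combination h2 - x * h1
  refine ⟨d / (a + σ a) * a, ?_⟩
  rw [map_mul, map_div₀, map_add, hd, hσ2, add_comm (σ a) a]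
  field_simp

/-- Witt's extension theorem for nondegenerate Hermitian forms over any field. -/
theorem witt_hermitian [FiniteDimensional F V] (hσ : σ ≠ RingHom.id F)
    (hσ2 : ∀ a, σ (σ a) = a) (B : V →ₛₗ[σ] V →ₗ[F] F) (hS : B.IsSymm) (hB : B.Nondegenerate)
    (X Y : Submodule F V) (φ : X ≃ₗ[F] Y)
    (hφ : ∀ x x' : X, B (φ x : V) (φ x' : V) = B (x : V) (x' : V)) :
    ∃ g : V ≃ₗ[F] V, (∀ u v : V, B (g u) (g v) = B u v) ∧ ∀ x : X, g (x : V) = (φ x : V) := by
  obtain ⟨f, hf, hfφ⟩ := exists_isIsoOn B (fun v => B v v) X Y φ hφ (fun x => hφ x x)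
  obtain ⟨g, h1, -, h3⟩ := witt_extension B (fun v => B v v)
    (AddMonoidHom.id F + σ.toAddMonoidHom) hσ2 1 (fun u v => by rw [one_mul, hS.eq]) hB.1
    (fun u v => by simp [← hS.eq u v]; ring) (fun t v w h => by simp [h]) (fun v w h => h)
    (fun v w => exists_add_involution_eq hσ hσ2 (by rw [map_sub, hS.eq, hS.eq])) X f hf
  exact ⟨g, h1, fun x => by rw [h3 x x.2, hfφ]⟩

end CfsgLib.Forms
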