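import Mathlib
import Cfsg.Agent.SL2Trace.Basic
import Cfsg.Agent.SL2Tori.Basic
import Cfsg.Agent.SL2Tori.SylowTwo
import Cfsg.Agent.Inv53.SL2Involutions
import Cfsg.Agent.Linear.Basic
import Cfsg.Agent.TwoGroups.Automizer
import Cfsg.Agent.Small.KleinSylow

/-!
# Elements of order four of `SL₂(q)` and four-groups of `PSL₂(q)`, `q` odd
-/

set_option autoImplicit false
set_option linter.unusedSectionVars false

namespace CfsgLib.Forms.KleinPSL

open Matrix CfsgLib.SL2Trace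
open scoped MatrixGroups

variable {F : Type*} [Field F]

/-- The quotient map to `PSL(2,F)`, as a homomorphism. -/
abbrev projHom : SL(2, F) →* Matrix.ProjectiveSpecialLinearGroup (Fin 2) F :=
  QuotientGroup.mk' _

theorem neg_one_ne_one (h2 : (2 : F) ≠ 0) : (-1 : SL(2, F)) ≠ 1 := by
  intro h
  have := congrFun (congrFun (congrArg Subtype.val h) 0) 0
  simp at this
  exact h2 (by linear_combination -this)

theorem four_ne_zero' (h2 : (2 : F) ≠ 0) : (4 : F) ≠ 0 := by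
  intro h
  exact mul_ne_zero h2 h2 (by linear_combination h)

theorem tr_eq_zero (h2 : (2 : F) ≠ 0) {x : SL(2, F)} (hx : x * x = -1) : SL2Tori.tr x = 0 :=
  SL2Tori.trace_eq_zero_of_sq h2 (Inv53.sl2_coe_sq.1 hx)

theorem tr_sq_ne_four (h2 : (2 : F) ≠ 0) {x : SL(2, F)} (hx : x * x = -1) :
    SL2Tori.tr x ^ 2 ≠ 4 := by
  rw [tr_eq_zero h2 hx]
  intro h
  exact four_ne_zero' h2 (by linear_combination -h)

theorem inv_eq_neg {x : SL(2, F)} (hx : x * x = -1) : x⁻¹ = -x :=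
  inv_eq_of_mul_eq_one_right (by rw [mul_neg, hx, neg_neg])

theorem ne_one_and_neg_one (h2 : (2 : F) ≠ 0) {x : SL(2, F)} (hx : x * x = -1) :
    x ≠ 1 ∧ x ≠ -1 := by
  constructor <;> rintro rfl <;> simp at hx <;> exact neg_one_ne_one h2 hx.symm

theorem orderOf_eq_four (h2 : (2 : F) ≠ 0) {x : SL(2, F)} (hx : x * x = -1) : orderOf x = 4 := by
  haveI : Fact (Nat.Prime 2) := ⟨Nat.prime_two⟩
  refine orderOf_eq_prime_pow (p := 2) (n := 1) ?_ ?_
  · rw [pow_one, pow_two, hx]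
    exact neg_one_ne_one h2
  · rw [show 2 ^ (1 + 1) = 2 + 2 from rfl, pow_add, pow_two, hx]
    simp

theorem proj_eq_proj_iff {x y : SL(2, F)} : projHom x = projHom y ↔ y = x ∨ y = -x := by
  rw [QuotientGroup.mk'_apply, QuotientGroup.mk'_apply, QuotientGroup.eq, mem_center_iff_eq,
    inv_mul_eq_one, inv_mul_eq_iff_eq_mul, mul_neg, mul_one]
  exact or_congr eq_comm Iff.rfl

theorem proj_eq_one_iff' {x : SL(2, F)} : projHom x = 1 ↔ x = 1 ∨ x = -1 := SL2Trace.proj_eq_one_iff x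

theorem projHom_neg (x : SL(2, F)) : projHom (-x) = projHom x := SL2Trace.proj_neg x

theorem sq_of_proj (h2 : (2 : F) ≠ 0) {x : SL(2, F)} (h1 : projHom x ≠ 1)
    (hs : projHom x * projHom x = 1) : x * x = -1 := by
  rw [← map_mul, proj_eq_one_iff'] at hs
  refine hs.resolve_left fun h => h1 (proj_eq_one_iff'.2 ?_)
  exact SL2Tori.eq_one_or_neg_one_of_sq h2 h

theorem proj_of_sq (h2 : (2 : F) ≠ 0) {x : SL(2, F)} (hx : x * x = -1) :
    projHom x ≠ 1 ∧ projHom x * projHom x = 1 := by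
  refine ⟨fun h => ?_, ?_⟩
  · obtain ⟨h1, h1'⟩ := ne_one_and_neg_one h2 hx
    exact (proj_eq_one_iff'.1 h).elim h1 h1'
  · rw [← map_mul, proj_eq_one_iff']; exact Or.inr hx

theorem exists_lift_of_orderOf_two (h2 : (2 : F) ≠ 0)
    {a : Matrix.ProjectiveSpecialLinearGroup (Fin 2) F} (h : a ≠ 1) (hs : a * a = 1) :
    ∃ x : SL(2, F), projHom x = a ∧ x * x = -1 := by
  obtain ⟨x, rfl⟩ := QuotientGroup.mk'_surjective _ a
  exact ⟨x, rfl, sq_of_proj h2 h hs⟩

/-- Lifts of commuting distinct involutions anticommute. -/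
theorem anticomm_of_proj_comm [Fintype F] (h2 : (2 : F) ≠ 0) {x y : SL(2, F)} (hx : x * x = -1) (hy : y * y = -1)
    (hne : projHom x ≠ projHom y) (hc : projHom x * projHom y = projHom y * projHom x) :
    y * x = -(x * y) := by
  rw [← map_mul, ← map_mul, proj_eq_proj_iff] at hc
  refine hc.resolve_left fun h => hne (proj_eq_proj_iff.2 ?_)
  rcases Inv53.sl2_commute_eq h2 hx hy h.symm with e | e
  · exact Or.inl e
  · right; rw [e, mul_neg, mul_one]

theorem proj_ne_of_anticomm (h2 : (2 : F) ≠ 0) {x y : SL(2, F)} (hx : x * x = -1)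
    (h : y * x = -(x * y)) : projHom x ≠ projHom y := by
  intro e
  have h1 : (1 : SL(2, F)) ≠ -1 := fun e => neg_one_ne_one h2 e.symm
  rcases proj_eq_proj_iff.1 e with rfl | rfl <;> simp [hx] at h
  · exact h1 h.symm
  · exact h1 h

theorem invert_of_anticomm {x y : SL(2, F)} (hx : x * x = -1) (h : y * x = -(x * y)) :
    y * x * y⁻¹ = x⁻¹ := by
  rw [h, inv_eq_neg hx, neg_mul, mul_assoc, mul_inv_cancel, mul_one]

variable [Fintype F]

theorem anticomm_of_invert (h2 : (2 : F) ≠ 0) {x y : SL(2, F)} (hx : x * x = -1)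
    (h : y * x * y⁻¹ = x⁻¹) : y * y = -1 ∧ y * x = -(x * y) := by
  have ht := tr_sq_ne_four h2 hx
  constructor
  · refine Inv53.sl2_coe_sq.2 (SL2Tori.sq_eq_neg_one ht h2 ((SL2Tori.mem_normalizer_iff ht).2 (Or.inr h)) ?_)
    intro hm
    rw [Subgroup.mem_centralizer_singleton_iff.1 hm, mul_inv_cancel_right] at h
    exact SL2Tori.inv_ne_self ht h.symm
  · rw [mul_inv_eq_iff_eq_mul.1 h, inv_eq_neg hx, neg_mul]

theorem card_centralizer_one (h2 : (2 : F) ≠ 0) {x : SL(2, F)} (hx : x * x = -1)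
    (hq : Fintype.card F % 4 = 1) :
    Nat.card (Subgroup.centralizer ({x} : Set SL(2, F))) = Fintype.card F - 1 := by
  obtain ⟨l, hl⟩ := FiniteField.isSquare_neg_one_iff.2 (show Fintype.card F % 4 ≠ 3 by omega)
  refine SL2Tori.card_centralizer_split (tr_sq_ne_four h2 hx) (l := l) ?_
  rw [tr_eq_zero h2 hx]
  linear_combination -hl

theorem card_centralizer_three (h2 : (2 : F) ≠ 0) {x : SL(2, F)} (hx : x * x = -1)
    (hq : Fintype.card F % 4 = 3) :
    Nat.card (Subgroup.centralizer ({x} : Set SL(2, F))) = Fintype.card F + 1 := by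
  refine SL2Tori.card_centralizer_nonsplit (tr_sq_ne_four h2 hx) fun m hm => ?_
  rw [tr_eq_zero h2 hx] at hm
  have : IsSquare (-1 : F) := ⟨m, by linear_combination -hm⟩
  exact FiniteField.isSquare_neg_one_iff.1 this hq

/-- A subgroup of order four is generated by an element squaring to `-1`. -/
theorem exists_zpowers_of_card_four (h2 : (2 : F) ≠ 0) {A : Subgroup SL(2, F)} (hA : Nat.card A = 4) :
    ∃ x : SL(2, F), x * x = -1 ∧ A = Subgroup.zpowers x := by
  obtain ⟨x, hxA, hx⟩ : ∃ x ∈ A, x * x ≠ 1 := by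
    by_contra hcon
    push Not at hcon
    have hle : (A : Set SL(2, F)) ⊆ {1, -1} := fun x hx => SL2Tori.eq_one_or_neg_one_of_sq h2 (hcon x hx)
    have h1 := Set.ncard_le_ncard hle (Set.toFinite _)
    have h1' := Set.ncard_pair (neg_one_ne_one h2).symm
    rw [← Nat.card_coe_set_eq] at h1
    change Nat.card A ≤ _ at h1
    omega
  have hx4 : (x * x) * (x * x) = 1 := by
    have h := congrArg Subtype.val (pow_card_eq_one' (x := (⟨x, hxA⟩ : A)))
    rw [hA] at h
    simpa [pow_succ, mul_assoc] using h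
  have hxx : x * x = -1 := (SL2Tori.eq_one_or_neg_one_of_sq h2 hx4).resolve_left hx
  refine ⟨x, hxx, (Subgroup.eq_of_le_of_card_ge (Subgroup.zpowers_le.2 hxA) ?_).symm⟩
  rw [hA, Nat.card_zpowers, orderOf_eq_four h2 hxx]

theorem mem_zpowers_iff' (h2 : (2 : F) ≠ 0) {x : SL(2, F)} (hx : x * x = -1) (z : SL(2, F)) :
    z ∈ Subgroup.zpowers x ↔ z = 1 ∨ z = x ∨ z = -1 ∨ z = x⁻¹ := by
  classical
  rw [mem_zpowers_iff_mem_range_orderOf, orderOf_eq_four h2 hx]
  have e2 : x ^ 2 = -1 := by rw [pow_two, hx]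
  have e3 : x ^ 3 = x⁻¹ := by rw [pow_succ, e2, inv_eq_neg hx, neg_mul, one_mul]
  rw [show Finset.range 4 = {0, 1, 2, 3} by decide]
  simp [e2, e3, eq_comm]

theorem normalizer_zpowers (h2 : (2 : F) ≠ 0) {x : SL(2, F)} (hx : x * x = -1) :
    Subgroup.normalizer (Subgroup.zpowers x : Set SL(2, F)) =
      Subgroup.normalizer ((Subgroup.centralizer ({x} : Set SL(2, F))) : Set SL(2, F)) := by
  ext n
  rw [SL2Tori.mem_normalizer_iff (tr_sq_ne_four h2 hx)]
  constructor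
  · intro hn
    have := (Subgroup.mem_normalizer_iff.1 hn x).1 (Subgroup.mem_zpowers x)
    rcases (mem_zpowers_iff' h2 hx _).1 this with e | e | e | e
    · exact absurd (conj_eq_one_iff.1 e) (ne_one_and_neg_one h2 hx).1
    · exact Or.inl e
    · refine absurd ?_ (ne_one_and_neg_one h2 hx).2
      rw [show x = n⁻¹ * (n * x * n⁻¹) * n by group, e]
      simp
    · exact Or.inr e
  · intro h
    have hmap : (Subgroup.zpowers x).map (MulAut.conj n).toMonoidHom = Subgroup.zpowers x := by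
      rw [MonoidHom.map_zpowers]
      show Subgroup.zpowers (n * x * n⁻¹) = _
      rcases h with h | h <;> rw [h]
      exact Subgroup.zpowers_inv
    rw [Subgroup.mem_normalizer_iff]
    intro z
    constructor
    · intro hz
      rw [← hmap]
      exact Subgroup.mem_map.2 ⟨z, hz, rfl⟩
    · intro hz
      rw [← hmap] at hz
      obtain ⟨w, hw, e⟩ := Subgroup.mem_map.1 hz
      have := (MulAut.conj n).injective e
      exact this ▸ hw

/-! ### Counting -/

theorem card_eq_mul_of_fibers {α β : Type*} [Finite α] [Finite β] (f : α → β) (k : ℕ)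
    (h : ∀ b, Nat.card {a // f a = b} = k) : Nat.card α = Nat.card β * k := by
  classical
  haveI := Fintype.ofFinite β
  rw [← Nat.card_congr (Equiv.sigmaFiberEquiv f), Nat.card_sigma]
  simp [h, Nat.card_eq_fintype_card]

/-- Ordered pairs of anticommuting elements squaring to `-1`. -/
abbrev Quat (F : Type*) [Field F] :=
  {p : SL(2, F) × SL(2, F) // p.1 * p.1 = -1 ∧ p.2 * p.2 = -1 ∧ p.2 * p.1 = -(p.1 * p.2)}

theorem card_quat (h2 : (2 : F) ≠ 0) : Nat.card (Quat F) = Nat.card SL(2, F) := by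
  classical
  obtain ⟨x₀, hx₀⟩ := Inv53.sl2_exists_sq (F := F) h2
  obtain ⟨w, hw, hwx⟩ := Inv53.sl2_exists_invert h2 hx₀
  have hconj : ∀ x : {x : SL(2, F) // x * x = -1}, ∃ g, g * x₀ * g⁻¹ = (x : SL(2, F)) :=
    fun x => isConj_iff.1 (Inv53.sl2_isConj h2 hx₀ x.2)
  choose t ht using hconj
  have hxg : ∀ g : SL(2, F), g * x₀ * g⁻¹ * (g * x₀ * g⁻¹) = -1 := fun g => by
    rw [show g * x₀ * g⁻¹ * (g * x₀ * g⁻¹) = g * (x₀ * x₀) * g⁻¹ by group, hx₀]
    simp
  -- g gives x = g x₀ g⁻¹ and y = tₓ w (tₓ⁻¹ g) tₓ⁻¹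
  have hy : ∀ g : SL(2, F),
      let s := t ⟨_, hxg g⟩
      let y := s * (w * (s⁻¹ * g)) * s⁻¹
      y * y = -1 ∧ y * (g * x₀ * g⁻¹) = -(g * x₀ * g⁻¹ * y) := by
    intro g s y
    have hs : s * x₀ * s⁻¹ = g * x₀ * g⁻¹ := ht ⟨_, hxg g⟩
    refine anticomm_of_invert h2 (hxg g) ?_
    rw [← hs]
    have hc : (s⁻¹ * g) * x₀ * (s⁻¹ * g)⁻¹ = x₀ := by
      calc _ = s⁻¹ * (g * x₀ * g⁻¹) * s := by group
        _ = x₀ := by rw [← hs]; group
    calc y * (s * x₀ * s⁻¹) * y⁻¹ = s * (w * ((s⁻¹ * g) * x₀ * (s⁻¹ * g)⁻¹) * w⁻¹) * s⁻¹ := by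
          simp only [y]; group
      _ = (s * x₀ * s⁻¹)⁻¹ := by rw [hc, hwx]; group
  refine (Nat.card_congr (Equiv.ofBijective
    (fun g : SL(2, F) => (⟨(g * x₀ * g⁻¹, t ⟨_, hxg g⟩ * (w * ((t ⟨_, hxg g⟩)⁻¹ * g)) * (t ⟨_, hxg g⟩)⁻¹),
      hxg g, (hy g).1, (hy g).2⟩ : Quat F)) ⟨?_, ?_⟩)).symm
  · intro g g' h
    simp only [Subtype.mk.injEq, Prod.mk.injEq] at h
    obtain ⟨h1, h3⟩ := h
    have e : (⟨_, hxg g⟩ : {x : SL(2, F) // x * x = -1}) = ⟨_, hxg g'⟩ := Subtype.ext h1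
    rw [e] at h3
    exact mul_left_cancel (mul_left_cancel (mul_left_cancel (mul_right_cancel h3)))
  · rintro ⟨⟨x, y⟩, hx, hyy, hxy⟩
    set s := t ⟨x, hx⟩ with hsdef
    have hs : s * x₀ * s⁻¹ = x := ht ⟨x, hx⟩
    have hyi : y * x * y⁻¹ = x⁻¹ := invert_of_anticomm hx hxy
    refine ⟨s * (w⁻¹ * (s⁻¹ * y * s)), ?_⟩
    have hgx : s * (w⁻¹ * (s⁻¹ * y * s)) * x₀ * (s * (w⁻¹ * (s⁻¹ * y * s)))⁻¹ = x := by
      calc _ = s * (w⁻¹ * (s⁻¹ * (y * (s * x₀ * s⁻¹) * y⁻¹) * s) * w) * s⁻¹ := by group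
        _ = s * (w⁻¹ * (x₀⁻¹) * w) * s⁻¹ := by rw [hs, hyi, ← hs]; group
        _ = s * x₀ * s⁻¹ := by rw [← hwx]; group
        _ = x := hs
    have e : (⟨_, hxg (s * (w⁻¹ * (s⁻¹ * y * s)))⟩ : {x : SL(2, F) // x * x = -1}) = ⟨x, hx⟩ :=
      Subtype.ext hgx
    simp only [Subtype.mk.injEq, Prod.mk.injEq]
    refine ⟨hgx, ?_⟩
    rw [e, ← hsdef]
    group

/-- The four-group spanned by an anticommuting pair. -/
theorem isKleinFour_span (h2 : (2 : F) ≠ 0) {x y : SL(2, F)} (hx : x * x = -1) (hy : y * y = -1)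
    (hxy : y * x = -(x * y)) :
    ∃ V : Subgroup (Matrix.ProjectiveSpecialLinearGroup (Fin 2) F),
      IsKleinFour V ∧ projHom x ∈ V ∧ projHom y ∈ V := by
  classical
  obtain ⟨ha1, ha2⟩ := proj_of_sq h2 hx
  obtain ⟨hb1, hb2⟩ := proj_of_sq h2 hy
  have hab := proj_ne_of_anticomm h2 hx hxy
  have hc : projHom y * projHom x = projHom x * projHom y := by
    rw [← map_mul, ← map_mul, hxy, projHom_neg]
  generalize projHom x = a at *
  generalize projHom y = b at *
  have hA : ∀ z, a * (a * z) = z := fun z => by rw [← mul_assoc, ha2, one_mul]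
  have hB : ∀ z, b * (b * z) = z := fun z => by rw [← mul_assoc, hb2, one_mul]
  have hC : ∀ z, b * (a * z) = a * (b * z) := fun z => by rw [← mul_assoc, hc, mul_assoc]
  let V : Subgroup (Matrix.ProjectiveSpecialLinearGroup (Fin 2) F) :=
    { carrier := {1, a, b, a * b}
      mul_mem' := by
        intro u v hu hv
        simp only [Set.mem_insert_iff, Set.mem_singleton_iff] at hu hv ⊢
        rcases hu with rfl | rfl | rfl | rfl <;> rcases hv with rfl | rfl | rfl | rfl <;>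
          simp [ha2, hb2, hc, hA, hB, hC, mul_assoc]
      one_mem' := Or.inl rfl
      inv_mem' := by
        intro u hu
        simp only [Set.mem_insert_iff, Set.mem_singleton_iff] at hu ⊢
        have h : u * u = 1 := by
          rcases hu with rfl | rfl | rfl | rfl <;> simp [ha2, hb2, hA, hB, hC, mul_assoc]
        rwa [inv_eq_of_mul_eq_one_right h] }
  have hsq : ∀ u ∈ V, u * u = 1 := by
    intro u hu
    rcases hu with rfl | rfl | rfl | rfl <;> simp [ha2, hb2, hA, hB, hC, mul_assoc]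
  have hcard : Nat.card V = 4 := by
    have h1 : a * b ≠ 1 := fun e => hab (by
      have := congrArg (fun z => a * z) e
      simpa [hA] using this.symm)
    have h2' : a * b ≠ a := fun e => hb1 (mul_eq_left.1 e)
    have h3 : a * b ≠ b := fun e => ha1 (mul_eq_right.1 e)
    show Nat.card ({1, a, b, a * b} : Set _) = 4
    rw [Nat.card_coe_set_eq, Set.ncard_insert_of_notMem (by simp [ha1.symm, hb1.symm, h1.symm]),
      Set.ncard_insert_of_notMem (by simp [hab, h2'.symm]), Set.ncard_pair h3.symm]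
  refine ⟨V, ⟨hcard, ?_⟩, Or.inr (Or.inl rfl), Or.inr (Or.inr (Or.inl rfl))⟩
  refine Nat.dvd_antisymm (Monoid.exponent_dvd_of_forall_pow_eq_one fun v => Subtype.ext ?_) ?_
  · rw [pow_two]; exact hsq v v.2
  · have h := Monoid.order_dvd_exponent (⟨a, Or.inr (Or.inl rfl)⟩ : V)
    rwa [← Subgroup.orderOf_coe, orderOf_eq_prime (by rw [pow_two, ha2]) ha1] at h

theorem card_ordered_pairs {V : Type*} [Group V] (hV : Nat.card V = 4) :
    Nat.card {p : V × V // p.1 ≠ 1 ∧ p.2 ≠ 1 ∧ p.1 ≠ p.2} = 6 := by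
  classical
  haveI : Finite V := Nat.finite_of_card_ne_zero (by omega)
  haveI := Fintype.ofFinite V
  rw [Nat.card_eq_fintype_card, Fintype.card_subtype]
  have : (Finset.univ.filter fun p : V × V => p.1 ≠ 1 ∧ p.2 ≠ 1 ∧ p.1 ≠ p.2) =
      (Finset.univ.erase (1 : V)).offDiag := by
    ext p
    simp [Finset.mem_offDiag]
  rw [this, Finset.offDiag_card, Finset.card_erase_of_mem (Finset.mem_univ _), Finset.card_univ,
    ← Nat.card_eq_fintype_card, hV]

theorem card_proj_fiber (h2 : (2 : F) ≠ 0) (a : Matrix.ProjectiveSpecialLinearGroup (Fin 2) F) :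
    Nat.card {x : SL(2, F) // projHom x = a} = 2 := by
  obtain ⟨x, rfl⟩ := QuotientGroup.mk'_surjective _ a
  rw [Nat.card_eq_two_iff]
  refine ⟨⟨x, rfl⟩, ⟨-x, projHom_neg x⟩, ?_, ?_⟩
  · intro e
    apply neg_one_ne_one h2
    have e' : x = -x := congrArg Subtype.val e
    have := congrArg (x⁻¹ * ·) e'
    simp at this
    exact this.symm
  · rw [Set.eq_univ_iff_forall]
    rintro ⟨y, hy⟩
    rcases proj_eq_proj_iff.1 hy.symm with rfl | rfl
    · exact Or.inl rfl
    · exact Or.inr rfl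

/-- Twenty-four anticommuting pairs over each four-group. -/
theorem card_quat_eq (h2 : (2 : F) ≠ 0) :
    Nat.card (Quat F) =
      Nat.card {V : Subgroup (Matrix.ProjectiveSpecialLinearGroup (Fin 2) F) // IsKleinFour V} * 24 := by
  classical
  choose φ hφ hφx hφy using fun q : Quat F => isKleinFour_span h2 q.2.1 q.2.2.1 q.2.2.2
  refine card_eq_mul_of_fibers (fun q => ⟨φ q, hφ q⟩) 24 fun ⟨V, hV⟩ => ?_
  let T := {p : V × V // p.1 ≠ 1 ∧ p.2 ≠ 1 ∧ p.1 ≠ p.2}
  have e : {q : Quat F // (⟨φ q, hφ q⟩ : {W : Subgroup (Matrix.ProjectiveSpecialLinearGroup (Fin 2) F) // IsKleinFour W}) = ⟨V, hV⟩} ≃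
      Σ p : T, {x : SL(2, F) // projHom x = (p.1.1 : Matrix.ProjectiveSpecialLinearGroup (Fin 2) F)} ×
        {y : SL(2, F) // projHom y = (p.1.2 : Matrix.ProjectiveSpecialLinearGroup (Fin 2) F)} :=
    { toFun := fun q =>
        have hV' : φ q.1 = V := congrArg Subtype.val q.2
        ⟨⟨(⟨projHom q.1.1.1, hV'.le (hφx q.1)⟩, ⟨projHom q.1.1.2, hV'.le (hφy q.1)⟩),
          fun e => (proj_of_sq h2 q.1.2.1).1 (congrArg Subtype.val e),
          fun e => (proj_of_sq h2 q.1.2.2.1).1 (congrArg Subtype.val e),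
          fun e => proj_ne_of_anticomm h2 q.1.2.1 q.1.2.2.2 (congrArg Subtype.val e)⟩,
          ⟨q.1.1.1, rfl⟩, ⟨q.1.1.2, rfl⟩⟩
      invFun := fun s =>
        have hq : s.2.1.1 * s.2.1.1 = -1 ∧ s.2.2.1 * s.2.2.1 = -1 ∧
            s.2.2.1 * s.2.1.1 = -(s.2.1.1 * s.2.2.1) := by
          obtain ⟨⟨⟨⟨a, ha⟩, ⟨b, hb⟩⟩, h1, h1', h1''⟩, ⟨x, hx⟩, ⟨y, hy⟩⟩ := s
          dsimp only at hx hy ⊢
          subst hx hy
          have hsx : x * x = -1 := sq_of_proj h2 (fun e => h1 (Subtype.ext e))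
            (congrArg Subtype.val (IsKleinFour.mul_self (⟨_, ha⟩ : V)))
          have hsy : y * y = -1 := sq_of_proj h2 (fun e => h1' (Subtype.ext e))
            (congrArg Subtype.val (IsKleinFour.mul_self (⟨_, hb⟩ : V)))
          exact ⟨hsx, hsy, anticomm_of_proj_comm h2 hsx hsy (fun e => h1'' (Subtype.ext e))
            (congrArg Subtype.val ((IsKleinFour.isMulCommutative (G := V)).is_comm.comm ⟨_, ha⟩ ⟨_, hb⟩))⟩
        ⟨⟨(s.2.1.1, s.2.2.1), hq⟩, by
          apply Subtype.ext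
          show φ ⟨_, hq⟩ = V
          have hne := proj_ne_of_anticomm h2 hq.1 hq.2.2
          obtain ⟨⟨⟨⟨a, ha⟩, ⟨b, hb⟩⟩, h1, h1', h1''⟩, ⟨x, hx⟩, ⟨y, hy⟩⟩ := s
          dsimp only at hx hy hq hne ⊢
          subst hx hy
          refine (Subgroup.eq_of_le_of_card_ge ?_ (by
            rw [(hφ ⟨_, hq⟩).card_four, hV.card_four])).symm
          intro c hc
          rcases Small.kleinFour_cases hV ha hb hc (proj_of_sq h2 hq.1).1 (proj_of_sq h2 hq.2.1).1 hne
            with rfl | rfl | rfl | rfl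
          · exact one_mem _
          · exact hφx ⟨_, hq⟩
          · exact hφy ⟨_, hq⟩
          · exact mul_mem (hφx ⟨_, hq⟩) (hφy ⟨_, hq⟩)⟩
      left_inv := fun q => rfl
      right_inv := fun s => by
        obtain ⟨⟨⟨⟨a, ha⟩, ⟨b, hb⟩⟩, h1⟩, ⟨x, hx⟩, ⟨y, hy⟩⟩ := s
        dsimp only at hx hy
        subst hx hy
        rfl }
  haveI : Finite V := inferInstance
  haveI := Fintype.ofFinite T
  rw [Nat.card_congr e, Nat.card_sigma]
  simp only [Nat.card_prod, card_proj_fiber h2, Finset.sum_const, Finset.card_univ,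
    ← Nat.card_eq_fintype_card, smul_eq_mul]
  rw [show Nat.card T = 6 from card_ordered_pairs hV.card_four]

/-- `12` times the number of four-groups is the order of `PSL(2,q)`. -/
theorem card_kleinFour (hodd : Odd (Fintype.card F)) :
    12 * Nat.card {V : Subgroup (Matrix.ProjectiveSpecialLinearGroup (Fin 2) F) // IsKleinFour V} =
      Nat.card (Matrix.ProjectiveSpecialLinearGroup (Fin 2) F) := by
  have h2 := SL2Tori.two_ne_zero_of_odd hodd
  have h : Nat.card SL(2, F) = Nat.card (Matrix.ProjectiveSpecialLinearGroup (Fin 2) F) * 2 :=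
    card_eq_mul_of_fibers projHom 2 (card_proj_fiber h2)
  have h' := (card_quat h2).symm.trans (card_quat_eq h2)
  omega

end CfsgLib.Forms.KleinPSL
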