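import Cfsg.Agent.Forms.AutPOmegaCount
import Mathlib.FieldTheory.Finite.Basic

/-!
# Field automorphisms and multipliers of the standard forms
-/

set_option autoImplicit false
set_option linter.unusedSectionVars false

namespace CfsgLib.AutPOmega

open Matrix Module Polynomial CfsgLib.Spinor CfsgLib.Forms CfsgLib.Forms4 CfsgLib.StdForms

variable {F : Type*} [Field F] [Fintype F]

theorem exists_semi_oddQ (m : ℕ) (σ : F ≃+* F) : ∃ S : Semi (oddQ m F), S.σ = σ :=
  ⟨Rat.semi (σ := σ) fun v => by simp [oddQ_apply, Cfsg.quadFormOdd], rfl⟩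

theorem exists_semi_plusQ (m : ℕ) (σ : F ≃+* F) : ∃ S : Semi (plusQ m F), S.σ = σ :=
  ⟨Rat.semi (σ := σ) fun v => by simp [plusQ_apply, Cfsg.quadFormPlus], rfl⟩

theorem exists_hasMult_plusQ (m : ℕ) (c : Fˣ) :
    ∃ g : GL (Fin m ⊕ Fin m) F, HasMult (plusQ m F) g c := by
  obtain ⟨S, hσ, hc, -⟩ := exists_semi_of_fn (Q := plusQ m F) (σ := RingEquiv.refl F) c
    (fun v => Sum.elim (fun i => (c : F) * v (.inl i)) fun i => v (.inr i))
    (fun u v => by funext j; rcases j with i | i <;> simp [mul_add])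
    (fun t v => by funext j; rcases j with i | i <;> simp [mul_left_comm])
    (fun v hv => by
      funext j
      rcases j with i | i
      · simpa [c.ne_zero] using congrFun hv (.inl i)
      · simpa using congrFun hv (.inr i))
    (fun v => by simp [plusQ_apply, Cfsg.quadFormPlus, Finset.mul_sum, mul_assoc])
  refine ⟨S.g, fun v => ?_⟩
  have := S.quad v
  rw [hσ, hc] at this
  exact this

variable {k : ℕ} {a b : F}

/-- The anisotropic binary part represents everything. -/
theorem exists_norm_eq (hab : ∀ z₁ z₂ : F, z₁ ^ 2 + a * z₁ * z₂ + b * z₂ ^ 2 = 0 → z₁ = 0 ∧ z₂ = 0)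
    (c : F) : ∃ x y : F, x ^ 2 + a * x * y + b * y ^ 2 = c := by
  by_cases h2 : (2 : F) = 0
  · have h2' : ringChar F = 2 := by
      by_contra hne
      exact Ring.two_ne_zero hne h2
    obtain ⟨x, hx⟩ := FiniteField.isSquare_of_char_two h2' c
    exact ⟨x, 0, by rw [hx]; ring⟩
  · have hD := disc_ne_zero hab
    have hq : Fintype.card F % 2 = 1 := FiniteField.odd_card_of_char_ne_two fun hc => h2 (by
      have := ringChar.eq_iff.1 hc
      exact CharTwo.two_eq_zero)
    have hd : 4 * b - a ^ 2 ≠ 0 := fun h => hD (by linear_combination -h)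
    obtain ⟨x, y, hxy⟩ := FiniteField.exists_root_sum_quadratic
      (f := (X : F[X]) ^ 2 - Polynomial.C (4 * c)) (g := Polynomial.C (4 * b - a ^ 2) * X ^ 2)
      (degree_X_pow_sub_C two_pos _) (degree_C_mul_X_pow 2 hd) hq
    simp only [eval_sub, eval_mul, eval_pow, eval_X, eval_C] at hxy
    refine ⟨(x - a * y) / 2, y, ?_⟩
    field_simp
    linear_combination hxy

theorem exists_hasMult_minusQ
    (hab : ∀ z₁ z₂ : F, z₁ ^ 2 + a * z₁ * z₂ + b * z₂ ^ 2 = 0 → z₁ = 0 ∧ z₂ = 0) (c : Fˣ) :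
    ∃ g : GL ((Fin k ⊕ Fin k) ⊕ Fin 2) F, HasMult (minusQ k F a b) g c := by
  obtain ⟨x, y, hw⟩ := exists_norm_eq hab (c : F)
  obtain ⟨S, hσ, hc, -⟩ := exists_semi_of_fn (Q := minusQ k F a b) (σ := RingEquiv.refl F) c
    (fun v => Sum.elim (Sum.elim (fun i => (c : F) * v (.inl (.inl i))) fun i => v (.inl (.inr i)))
      ![x * v (.inr 0) - b * y * v (.inr 1), x * v (.inr 1) + y * v (.inr 0) + a * y * v (.inr 1)])
    (fun u v => by funext j; rcases j with (i | i) | i <;> (try fin_cases i) <;> simp <;> ring)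
    (fun t v => by funext j; rcases j with (i | i) | i <;> (try fin_cases i) <;> simp <;> ring)
    (fun v hv => by
      have e0 := congrFun hv (.inr 0)
      have e1 := congrFun hv (.inr 1)
      simp at e0 e1
      have hz : (c : F) * (v (.inr 0) ^ 2 + a * v (.inr 0) * v (.inr 1) + b * v (.inr 1) ^ 2) = 0 := by
        rw [← hw]
        linear_combination (x * v (.inr 0) - b * y * v (.inr 1) +
          a * (x * v (.inr 1) + y * v (.inr 0) + a * y * v (.inr 1))) * e0 +
          b * (x * v (.inr 1) + y * v (.inr 0) + a * y * v (.inr 1)) * e1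
      obtain ⟨z0, z1⟩ := hab _ _ ((mul_eq_zero.1 hz).resolve_left c.ne_zero)
      funext j
      rcases j with (i | i) | i
      · simpa [c.ne_zero] using congrFun hv (.inl (.inl i))
      · simpa using congrFun hv (.inl (.inr i))
      · fin_cases i
        · exact z0
        · exact z1)
    (fun v => by
      simp only [minusQ_apply, Cfsg.quadFormMinus, Sum.elim_inl, Sum.elim_inr, Matrix.cons_val_zero,
        Matrix.cons_val_one, Matrix.cons_val_fin_one, RingEquiv.refl_apply, mul_add, Finset.mul_sum,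
        mul_assoc]
      rw [← hw]
      ring)
  refine ⟨S.g, fun v => ?_⟩
  have := S.quad v
  rw [hσ, hc] at this
  exact this

/-- The Frobenius map is a semisimilarity of the minus form. -/
theorem exists_semi_frobenius (p : ℕ) [Fact p.Prime] [CharP F p]
    (hab : ∀ z₁ z₂ : F, z₁ ^ 2 + a * z₁ * z₂ + b * z₂ ^ 2 = 0 → z₁ = 0 ∧ z₂ = 0) :
    ∃ S : Semi (minusQ k F a b), ∀ x, S.σ x = x ^ p := by
  obtain ⟨σ, hσ⟩ : ∃ σ : F ≃+* F, ∀ x, σ x = x ^ p :=
    ⟨frobeniusEquiv F p, fun x => frobeniusEquiv_apply F p x⟩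
  obtain ⟨w₁, w₂, hb, hn, hw⟩ : ∃ w₁ w₂ : F, 2 * w₁ + a * w₂ = σ a ∧
      w₁ ^ 2 + a * w₁ * w₂ + b * w₂ ^ 2 = σ b ∧ w₂ ≠ 0 := by
    rcases (Fact.out : p.Prime).eq_two_or_odd' with hp | hp
    · have h2 : (2 : F) = 0 := by
        subst hp
        exact CharTwo.two_eq_zero
      refine ⟨b, a, ?_, ?_, fun ha => disc_ne_zero hab ?_⟩
      · rw [hσ, hp]; linear_combination b * h2
      · rw [hσ, hp]; linear_combination (a ^ 2 * b) * h2
      · rw [ha]; linear_combination (-2 * b) * h2
    · obtain ⟨r, hr⟩ := hp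
      have h2 : (2 : F) ≠ 0 := by
        intro h
        have := (CharP.cast_eq_zero_iff F p 2).1 (by exact_mod_cast h)
        rw [Nat.prime_dvd_prime_iff_eq Fact.out Nat.prime_two] at this
        omega
      set D := a ^ 2 - 4 * b with hD
      refine ⟨(σ a - a * D ^ r) / 2, D ^ r, ?_, ?_, pow_ne_zero _ (disc_ne_zero hab)⟩
      · field_simp
        ring
      · have e : σ D = D ^ r * D ^ r * D := by rw [hσ, hr]; ring
        have e' : σ D = σ a ^ 2 - 4 * σ b := by
          rw [hD, map_sub, map_mul, map_pow, map_ofNat]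
        field_simp
        linear_combination e - e'
  obtain ⟨S, hS, -⟩ := exists_semi_of_fn (Q := minusQ k F a b) (σ := σ) 1
    (fun v => Sum.elim (Sum.elim (fun i => σ (v (.inl (.inl i)))) fun i => σ (v (.inl (.inr i))))
      ![σ (v (.inr 0)) + w₁ * σ (v (.inr 1)), w₂ * σ (v (.inr 1))])
    (fun u v => by funext j; rcases j with (i | i) | i <;> (try fin_cases i) <;> simp <;> ring)
    (fun t v => by funext j; rcases j with (i | i) | i <;> (try fin_cases i) <;> simp <;> ring)
    (fun v hv => by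
      have e1 := congrFun hv (.inr 1)
      simp [hw] at e1
      have e0 := congrFun hv (.inr 0)
      simp [e1] at e0
      funext j
      rcases j with (i | i) | i
      · simpa using congrFun hv (.inl (.inl i))
      · simpa using congrFun hv (.inl (.inr i))
      · fin_cases i
        · exact e0
        · exact e1)
    (fun v => by
      simp only [minusQ_apply, Cfsg.quadFormMinus, Sum.elim_inl, Sum.elim_inr, Matrix.cons_val_zero,
        Matrix.cons_val_one, Matrix.cons_val_fin_one, Units.val_one, one_mul, map_add, map_mul,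
        map_pow, map_sum]
      linear_combination (σ (v (.inr 0)) * σ (v (.inr 1))) * hb + σ (v (.inr 1)) ^ 2 * hn)
  exact ⟨S, fun x => by rw [hS, hσ]⟩

theorem exists_semi_minusQ
    (hab : ∀ z₁ z₂ : F, z₁ ^ 2 + a * z₁ * z₂ + b * z₂ ^ 2 = 0 → z₁ = 0 ∧ z₂ = 0) (σ : F ≃+* F) :
    ∃ S : Semi (minusQ k F a b), S.σ = σ := by
  obtain ⟨p, hp⟩ := CharP.exists F
  haveI : Fact p.Prime := ⟨CharP.char_is_prime F p⟩
  letI := ZMod.algebra F p
  obtain ⟨S₀, hS₀⟩ := exists_semi_frobenius (k := k) p hab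
  have key : ∀ n : ℕ, ∃ S : Semi (minusQ k F a b), ∀ x, S.σ x = x ^ p ^ n := by
    intro n
    induction n with
    | zero => exact ⟨Semi.one _, fun x => by simp [Semi.one]⟩
    | succ n ih =>
      obtain ⟨S, hS⟩ := ih
      exact ⟨S₀.mul S, fun x => by
        rw [Semi.mul_σ, RingAut.mul_apply, hS₀, hS, ← pow_mul, pow_succ]⟩
  let σ' : F ≃ₐ[ZMod p] F := AlgEquiv.ofRingEquiv (f := σ) (fun x => RingHom.congr_fun
    (Subsingleton.elim ((σ : F →+* F).comp (algebraMap (ZMod p) F)) (algebraMap (ZMod p) F)) x)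
  obtain ⟨n, hn⟩ := (FiniteField.bijective_frobeniusAlgEquivOfAlgebraic_pow (ZMod p) F).2 σ'
  obtain ⟨S, hS⟩ := key n
  refine ⟨S, RingEquiv.ext fun x => ?_⟩
  rw [hS]
  have := congrArg (fun e : F ≃ₐ[ZMod p] F => e x) hn
  simp only [AlgEquiv.coe_pow, FiniteField.coe_frobeniusAlgEquivOfAlgebraic_iterate, ZMod.card] at this
  exact this

theorem even_half_iff {q m : ℕ} (hq : Odd q) : Even (m * (q - 1) / 2) ↔ q ^ m % 4 = 1 := by
  obtain ⟨r, rfl⟩ := hq
  rw [Nat.add_sub_cancel, Nat.mul_left_comm, Nat.mul_div_cancel_left _ two_pos, Nat.even_mul,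
    Nat.pow_mod]
  rcases Nat.even_or_odd r with hr | hr
  · obtain ⟨s, rfl⟩ := hr
    rw [show (2 * (s + s) + 1) % 4 = 1 by omega, one_pow]
    simp
  · obtain ⟨s, rfl⟩ := hr
    rw [show (2 * (2 * s + 1) + 1) % 4 = 3 by omega]
    have hne : ¬ Even (2 * s + 1) := by simp [parity_simps]
    rcases Nat.even_or_odd m with ⟨t, rfl⟩ | ⟨t, rfl⟩
    · rw [← two_mul, pow_mul, Nat.pow_mod]
      simp [parity_simps]
    · rw [pow_succ, pow_mul, Nat.mul_mod, Nat.pow_mod]
      simp [parity_simps, hne]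

end CfsgLib.AutPOmega
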