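import Cfsg.Agent.Forms.OrthDet
import Cfsg.Agent.Spinor.Pairs
import Cfsg.Agent.Spinor.StdForms

/-!
# Membership of `-1` in `Ω`

Main results: `neg_one_mem_omega_plus`, `neg_one_mem_omega_minus`,
`card_index_two_subgroups`.
-/

namespace CfsgLib.Forms

open Matrix CfsgLib.Spinor CfsgLib.StdForms

variable {F : Type*} [Field F] [Fintype F] {q : ℕ}

theorem two_ne_zero_of_odd (hF : Fintype.card F = q) (hodd : Odd q) : (2 : F) ≠ 0 := by
  intro h
  haveI : CharP F 2 := CharTwo.of_one_ne_zero_of_two_eq_zero one_ne_zero h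
  have h2 := FiniteField.even_card_of_char_two (F := F) (ringChar.eq F 2)
  rw [hF] at h2
  obtain ⟨k, rfl⟩ := hodd
  omega

theorem neg_one_mem_omega_plus (hF : Fintype.card F = q) (hodd : Odd q) (m : ℕ) :
    (∃ g : ↥(Cfsg.isometryGroup F ⇑(plusQ m F)), g ∈ Cfsg.Omega F ⇑(plusQ m F) ∧
      mat (plusQ m F) g = -1) ↔ q ^ m % 4 = 1 := by
  have h2 := two_ne_zero_of_odd hF hodd
  have h : IsPairFamily (plusQ m F) (fun i => Pi.single (Sum.inl i) (1 : F))
      (fun i => Pi.single (Sum.inr i) (1 : F)) :=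
    { qe := fun i => by simp [plusQ_apply, Cfsg.quadFormPlus, Pi.single_apply]
      qf := fun i => by simp [plusQ_apply, Cfsg.quadFormPlus, Pi.single_apply]
      ef := fun i j => by simp [polar_plus, Pi.single_apply, eq_comm]
      ee := fun i j => by simp [polar_plus, Pi.single_apply]
      ff := fun i j => by simp [polar_plus, Pi.single_apply] }
  rw [h.exists_mem_omega_iff h2 (plusQ_nondegenerate m) (-1) ?_, Fintype.card_fin,
    isSquare_neg_one_pow_iff h2 hF]
  intro x
  funext j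
  rcases j with j | j <;>
    simp [Matrix.neg_mulVec, polar_plus, Finset.sum_apply, Pi.single_apply] <;> ring

theorem neg_one_mem_omega_minus (hF : Fintype.card F = q) (hodd : Odd q) (k : ℕ) {a b : F}
    (hab : ∀ z₁ z₂ : F, z₁ ^ 2 + a * z₁ * z₂ + b * z₂ ^ 2 = 0 → z₁ = 0 ∧ z₂ = 0) :
    (∃ g : ↥(Cfsg.isometryGroup F ⇑(minusQ k F a b)), g ∈ Cfsg.Omega F ⇑(minusQ k F a b) ∧
      mat (minusQ k F a b) g = -1) ↔ q ^ (k + 1) % 4 = 3 := by
  have h2 := two_ne_zero_of_odd hF hodd
  have hd := disc_ne_zero_of_anisotropic h2 hab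
  obtain ⟨e, he⟩ : ∃ e : Fin k → (Fin k ⊕ Fin k) ⊕ Fin 2 → F,
      e = fun i => Pi.single (Sum.inl (Sum.inl i)) 1 := ⟨_, rfl⟩
  obtain ⟨f, hf⟩ : ∃ f : Fin k → (Fin k ⊕ Fin k) ⊕ Fin 2 → F,
      f = fun i => Pi.single (Sum.inl (Sum.inr i)) 1 := ⟨_, rfl⟩
  have h : IsPairFamily (minusQ k F a b) e f := by
    subst he hf
    exact
    { qe := fun i => by simp [minusQ_apply, Cfsg.quadFormMinus, Pi.single_apply]
      qf := fun i => by simp [minusQ_apply, Cfsg.quadFormMinus, Pi.single_apply]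
      ef := fun i j => by simp [polar_minus, Pi.single_apply, eq_comm]
      ee := fun i j => by simp [polar_minus, Pi.single_apply]
      ff := fun i j => by simp [polar_minus, Pi.single_apply] }
  obtain ⟨v₁, hv₁⟩ : ∃ v : (Fin k ⊕ Fin k) ⊕ Fin 2 → F, v = Pi.single (Sum.inr 0) 1 := ⟨_, rfl⟩
  obtain ⟨v₂, hv₂⟩ : ∃ v : (Fin k ⊕ Fin k) ⊕ Fin 2 → F,
      v = Pi.single (Sum.inr 0) (-a) + Pi.single (Sum.inr 1) 2 := ⟨_, rfl⟩
  have hQ₁ : minusQ k F a b v₁ = 1 := by
    simp [hv₁, minusQ_apply, Cfsg.quadFormMinus, Pi.single_apply]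
  have hQ₂ : minusQ k F a b v₂ = 4 * b - a ^ 2 := by
    simp [hv₂, minusQ_apply, Cfsg.quadFormMinus, Pi.single_apply]; ring
  have hd' : (4 : F) * b - a ^ 2 ≠ 0 := fun h0 => hd (by linear_combination -h0)
  obtain ⟨hp1, hp2, hp3⟩ := h.prod_quad (Finset.univ : Finset (Fin k)).toList
  rw [exists_mem_omega_iff_of_prod h2 (minusQ_nondegenerate k hd)
    (v₁ :: v₂ :: pairsList e f (Finset.univ : Finset (Fin k)).toList) ?_ (-1) ?_]
  · simp only [List.length_cons, List.map_cons, List.prod_cons, hp1, hp2, hQ₁, hQ₂, one_mul,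
      Finset.length_toList, Finset.card_univ, Fintype.card_fin]
    have hns : ¬ IsSquare (a ^ 2 - 4 * b) := by
      rintro ⟨r, hr⟩
      refine one_ne_zero (α := F) (hab ((-a + r) / 2) 1 ?_).2
      field_simp
      linear_combination -hr
    have hiff : IsSquare ((4 * b - a ^ 2) * (-1) ^ k) ↔ ¬ IsSquare ((-1 : F) ^ (k + 1)) := by
      rw [show (4 * b - a ^ 2) * (-1 : F) ^ k = (a ^ 2 - 4 * b) * (-1) ^ (k + 1) by ring]
      constructor
      · intro h1 h2'
        obtain ⟨r, hr⟩ := h1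
        obtain ⟨s, hs⟩ := h2'
        have hs0 : s ≠ 0 := fun h0 => pow_ne_zero (k + 1) (neg_ne_zero.2 (one_ne_zero (α := F)))
          (by rw [hs, h0, zero_mul])
        refine hns ⟨r / s, ?_⟩
        rw [hs] at hr
        field_simp
        linear_combination hr
      · exact fun h2' => isSquare_mul_of_not_isSquare hns h2'
    rw [hiff, isSquare_neg_one_pow_iff h2 hF]
    have hm : q ^ (k + 1) % 2 = 1 := Nat.odd_iff.1 hodd.pow
    constructor
    · intro h1; omega
    · intro h1; exact ⟨by simp [parity_simps], by omega⟩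
  · intro v hv
    rcases List.mem_cons.1 hv with rfl | hv
    · rw [hQ₁]; exact one_ne_zero
    rcases List.mem_cons.1 hv with rfl | hv
    · rw [hQ₂]; exact hd'
    exact hp3 v hv
  · refine Matrix.ext_iff_mulVec.2 fun x => ?_
    rw [List.map_cons, List.map_cons, List.prod_cons, List.prod_cons, ← mulVec_mulVec,
      ← mulVec_mulVec, h.prod_mulVec _ (Finset.nodup_toList _), pairsTerm, Finset.sum_map_toList]
    have key : ∀ y : (Fin k ⊕ Fin k) ⊕ Fin 2 → F,
        Cfsg.reflectionMatrix (⇑(minusQ k F a b)) v₁ *ᵥ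
          Cfsg.reflectionMatrix (⇑(minusQ k F a b)) v₂ *ᵥ y =
        Sum.elim (fun j => y (Sum.inl j)) (fun j => -y (Sum.inr j)) := by
      intro y
      rw [reflectionMatrix_mulVec, reflectionMatrix_mulVec, refl_apply (minusQ k F a b) v₁,
        refl_apply, hQ₁, hQ₂]
      funext j
      rcases j with j | j
      · simp [hv₁, hv₂]
      · fin_cases j <;>
          simp [hv₁, hv₂, polar_minus, Pi.single_apply] <;> field_simp <;> ring
    rw [key]
    subst he hf
    funext j
    rcases j with (j | j) | j <;>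
      simp [Matrix.neg_mulVec, polar_minus, Finset.sum_apply, Pi.single_apply] <;> ring

/-- A group mapping onto `±1 × ±1` with commutator kernel has three subgroups of index two. -/
theorem card_index_two_subgroups {G : Type*} [Group G] (Φ : G →* ℤˣ × ℤˣ)
    (hs : Function.Surjective Φ) (hk : Φ.ker = commutator G) :
    Nat.card {H : Subgroup G // H.index = 2} = 3 := by
  have hc : ∀ H : Subgroup G, H.index = 2 → commutator G ≤ H := fun H hH => by
    haveI := Subgroup.normal_of_index_eq_two hH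
    refine (Subgroup.Normal.quotient_commutative_iff_commutator_le (N := H)).1 ?_
    haveI : Fact (Nat.Prime 2) := ⟨Nat.prime_two⟩
    haveI : IsCyclic (G ⧸ H) := isCyclic_of_prime_card (p := 2) (by rw [← Subgroup.index_eq_card, hH])
    exact ⟨⟨fun a b => mul_comm' a b⟩⟩
  have hcomap : ∀ H : Subgroup G, H.index = 2 → (H.map Φ).comap Φ = H := fun H hH => by
    rw [Subgroup.comap_map_eq, sup_eq_left, hk]; exact hc H hH
  have e : {H : Subgroup G // H.index = 2} ≃ {K : Subgroup (ℤˣ × ℤˣ) // K.index = 2} :=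
    { toFun := fun H => ⟨H.1.map Φ, by
        rw [← Subgroup.index_comap_of_surjective _ hs, hcomap H.1 H.2, H.2]⟩
      invFun := fun K => ⟨K.1.comap Φ, by rw [Subgroup.index_comap_of_surjective _ hs, K.2]⟩
      left_inv := fun H => Subtype.ext (hcomap H.1 H.2)
      right_inv := fun K => Subtype.ext (Subgroup.map_comap_eq_self_of_surjective hs _) }
  rw [Nat.card_congr e]
  have hsq : ∀ x : ℤˣ × ℤˣ, x ^ 2 = 1 := by decide
  have hord : ∀ x : {x : ℤˣ × ℤˣ // x ≠ 1}, orderOf x.1 = 2 := fun x =>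
    orderOf_eq_prime (hsq _) x.2
  have hidx : ∀ x : {x : ℤˣ × ℤˣ // x ≠ 1}, (Subgroup.zpowers x.1).index = 2 := fun x => by
    have h := Subgroup.card_mul_index (Subgroup.zpowers x.1)
    rw [Nat.card_zpowers, hord, Nat.card_prod, Nat.card_eq_fintype_card, Fintype.card_units_int]
      at h
    omega
  have hbij : Function.Bijective (fun x : {x : ℤˣ × ℤˣ // x ≠ 1} =>
      (⟨Subgroup.zpowers x.1, hidx x⟩ : {K : Subgroup (ℤˣ × ℤˣ) // K.index = 2})) := by
    constructor
    · intro x y hxy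
      have hm : x.1 ∈ Subgroup.zpowers y.1 := by
        have hxy' : Subgroup.zpowers x.1 = Subgroup.zpowers y.1 := congrArg Subtype.val hxy
        rw [← hxy']
        exact Subgroup.mem_zpowers x.1
      obtain ⟨n, hn⟩ := Subgroup.mem_zpowers_iff.1 hm
      rcases Int.even_or_odd n with ⟨l, rfl⟩ | ⟨l, rfl⟩
      · exact absurd (by rw [← hn, ← two_mul, _root_.zpow_mul, zpow_ofNat, hsq, _root_.one_zpow]) x.2
      · exact Subtype.ext (by
          rw [← hn, _root_.zpow_add, _root_.zpow_mul, zpow_ofNat, hsq, _root_.one_zpow, one_mul, zpow_one])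
    · rintro ⟨K, hK⟩
      have h := Subgroup.card_mul_index K
      rw [hK, Nat.card_prod, Nat.card_eq_fintype_card (α := ℤˣ), Fintype.card_units_int] at h
      obtain ⟨x, hx, hx1⟩ : ∃ x ∈ K, x ≠ (1 : ℤˣ × ℤˣ) := by
        refine (Subgroup.ne_bot_iff_exists_ne_one.1 fun hb => ?_).elim fun x hx =>
          ⟨x.1, x.2, fun h' => hx (Subtype.ext h')⟩
        rw [hb, Subgroup.card_bot] at h
        omega
      refine ⟨⟨x, hx1⟩, Subtype.ext (Subgroup.eq_of_le_of_card_ge
        (Subgroup.zpowers_le.2 hx) ?_)⟩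
      rw [Nat.card_zpowers, hord ⟨x, hx1⟩]
      change Nat.card K ≤ 2
      omega
  rw [← Nat.card_eq_of_bijective _ hbij, Nat.card_eq_fintype_card]
  decide

end CfsgLib.Forms
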