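import Cfsg.Agent.Linear.SmallFields
import Cfsg.Agent.Linear.SmallIsoTools
import Cfsg.Agent.Forms4.UnitaryCenter
import Cfsg.Agent.GLBlocks.Three
import Cfsg.Prelude.Def_Classical

/-!
# The structure of `PSU₃(2)`
-/

set_option autoImplicit false
set_option maxRecDepth 100000

namespace CfsgLib.Forms.UThreeTwo

open CfsgLib.Linear Matrix
open scoped MatrixGroups

/-- The generator of the field of order four. -/
abbrev tg : GF4 := ⟨0, 1⟩

/-- Decoding of digits. -/
def kOf (d : ℕ) : GF4 := ⟨(d : ZMod 2), ((d / 2 : ℕ) : ZMod 2)⟩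

/-- A key. -/
def kIx (x : GF4) : ℕ := x.re.val + 2 * x.im.val

/-- Decoding of quaternions. -/
def qOf (d : ℕ) : QuaternionGroup 2 :=
  if d < 4 then .a (d : ZMod 4) else .xa ((d - 4 : ℕ) : ZMod 4)

/-- A key on quaternions. -/
def qIx : QuaternionGroup 2 → ℕ
  | .a i => i.val
  | .xa i => 4 + i.val

/-- First generator. -/
def g₁ : SL(3, GF4) := ⟨!![1, 1, 1; 1, tg, (1 + tg); 1, (1 + tg), tg], by decide +kernel⟩

/-- Second generator. -/
def g₂ : SL(3, GF4) := ⟨!![1, 1, tg; 1, tg, 1; (1 + tg), tg, tg], by decide +kernel⟩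

/-- Membership in `SU₃(2)` from the matrix equation. -/
theorem mem_SU_of_eq (g : SL(3, GF4))
    (h : g.1ᵀ * g.1.map (fun x => x ^ 2) = 1) : g ∈ Cfsg.SU 3 GF4 2 := by
  have hsq : ∀ a b : GF4, (a + b) ^ 2 = a ^ 2 + b ^ 2 := by decide +kernel
  have hform : ∀ u v : Fin 3 → GF4, Cfsg.hermForm 3 GF4 2 u v = u ⬝ᵥ fun i => v i ^ 2 := fun u v => rfl
  intro u v
  show Cfsg.hermForm 3 GF4 2 (g.1 *ᵥ u) (g.1 *ᵥ v) = _
  rw [hform, hform]
  have e : (fun i => (g.1 *ᵥ v) i ^ 2) = g.1.map (fun x => x ^ 2) *ᵥ fun i => v i ^ 2 := by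
    funext i
    simp only [Matrix.mulVec, dotProduct, Fin.sum_univ_three, hsq, mul_pow, Matrix.map_apply]
  rw [e, Matrix.dotProduct_mulVec, Matrix.vecMul_mulVec, h, Matrix.vecMul_one]

/-- The certificate. -/
def cert : IsoCert (Matrix (Fin 3) (Fin 3) GF4) (QuaternionGroup 2) ℕ where
  L := [
    65793, 450133, 1226341, 541697, 2029399, 1407386, 575489, 1022805, 1678053, 1239019,
    876141, 1751385, 448447, 949653, 1802085, 1432535, 1992154, 131841, 1555799, 721100,
    5124, 1406831, 1930918, 49248, 542723, 2030014, 197121, 1956442, 1702827, 497005,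
    1202905, 912255, 485845, 1301989, 1813995, 424621, 901095, 1665015, 351097, 1751022,
    974814, 423286, 1276285, 1023423, 1679199, 1239382, 874395, 374677, 1141669, 1179481,
    2055895, 15372, 589892, 1955311, 1418726, 529184, 131331, 1469438, 560129, 1480538,
    9228, 721028, 2079343, 49392, 1421243, 2092381, 32976, 528656, 1932253, 1932667,
    16608, 1507238, 720968, 2078197, 1431209, 66051, 1432958, 1993333, 1554110, 6156,
    1943959, 1568474, 1530470, 536864, 1277611, 961005, 521959, 1177015, 972153, 1178350,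
    523102, 874998, 1727997, 487039, 1300063, 1727382, 386395, 911061, 1762725, 1824729,
    437095, 1288951, 899769, 1666713, 1290094, 425947, 1275862, 1676730, 1142239, 389101,
    1726059, 1227679, 1228282, 973479, 499702, 1153021, 349918, 898398, 1665390, 949098,
    1701501, 1703382, 498331, 1204087, 912810, 1812054, 351655, 1153387, 1046445, 375295,
    437662, 1048182, 589964, 11268, 1482479, 537392, 2090683, 1531805, 537104, 16464,
    1504733, 1529339, 2092006, 7176, 1408757, 1943401, 558083, 2054014, 1481141, 1945342,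
    655436, 1468055, 2080666, 2006374, 532784, 2006011, 533264, 49296, 1419869, 32928,
    1505915, 590024, 1994671, 131586, 1566581, 655556, 576515, 574466, 16560, 1957813,
    1469801, 32880, 196866, 1555433, 2054569, 14340, 13320, 10248, 528944, 1567151,
    533024, 1752759, 435961, 1287577, 1826478, 1047003, 1140346, 1799583, 1764063, 1800954,
    1201582, 449002, 962139, 1825143, 485290, 1154710, 1008999, 947967, 1010334, 1301434,
    523705, 387766, 1240765, 1765242, 376426, 1011705, 1021674, 1813437, 960438, 2004637,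
    559106, 197379, 66306, 543746, 2031337, 655496]
  dflt := 0
  dec t := (decMat 3 4 kOf (t % 262144), qOf (t / 262144))
  nxt := [[
    1, 3, 5, 7, 9, 11, 13, 0, 16, 18, 20, 22, 24, 26,
    27, 28, 30, 32, 34, 36, 38, 39, 2, 41, 43, 45, 47, 49,
    50, 52, 54, 56, 58, 59, 4, 61, 63, 65, 67, 69, 70, 72,
    74, 75, 77, 78, 79, 6, 81, 82, 84, 86, 88, 89, 8, 91,
    93, 95, 97, 99, 100, 102, 104, 105, 107, 108, 109, 10, 111, 112,
    114, 98, 117, 101, 120, 12, 121, 123, 125, 126, 127, 103, 14, 131,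
    15, 133, 135, 137, 139, 141, 83, 143, 145, 146, 148, 149, 150, 17,
    152, 153, 154, 140, 157, 142, 160, 19, 76, 162, 164, 165, 80, 144,
    21, 168, 161, 170, 55, 23, 136, 172, 174, 147, 132, 158, 163, 25,
    178, 151, 175, 166, 180, 176, 113, 182, 184, 185, 186, 187, 128, 29,
    188, 189, 48, 116, 181, 115, 31, 106, 193, 195, 196, 110, 183, 33,
    192, 199, 85, 35, 44, 201, 203, 40, 190, 194, 37, 205, 197, 119,
    122, 87, 92, 96, 204, 207, 42, 200, 90, 130, 46, 118, 208, 68,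
    156, 71, 155, 51, 179, 169, 73, 53, 64, 213, 60, 209, 210, 57,
    171, 211, 159, 134, 138, 215, 173, 62, 167, 66, 212, 214, 177, 94,
    124, 129, 191, 206, 202, 198], [
    2, 4, 6, 8, 10, 12, 14, 15, 17, 19, 21, 23, 25, 18,
    0, 29, 31, 33, 35, 37, 30, 1, 40, 42, 44, 46, 48, 43,
    51, 53, 55, 57, 50, 3, 60, 62, 64, 66, 68, 63, 71, 73,
    52, 76, 56, 72, 5, 80, 58, 83, 85, 87, 11, 7, 90, 92,
    94, 96, 98, 93, 101, 103, 13, 106, 86, 102, 9, 110, 88, 113,
    115, 116, 118, 119, 114, 111, 122, 124, 105, 123, 128, 129, 130, 120,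
    132, 134, 136, 138, 140, 135, 142, 144, 20, 147, 24, 143, 16, 151,
    26, 70, 155, 156, 158, 159, 154, 152, 161, 163, 146, 162, 79, 166,
    167, 160, 169, 165, 22, 54, 171, 173, 175, 176, 27, 67, 170, 177,
    69, 150, 179, 149, 153, 164, 181, 183, 32, 121, 36, 182, 28, 127,
    38, 100, 117, 190, 191, 131, 188, 192, 194, 185, 193, 109, 197, 198,
    125, 196, 34, 84, 200, 202, 126, 39, 97, 199, 204, 99, 187, 189,
    195, 206, 201, 45, 186, 41, 208, 49, 89, 104, 95, 47, 207, 157,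
    209, 180, 168, 81, 210, 75, 211, 212, 178, 214, 59, 139, 174, 215,
    141, 78, 82, 213, 65, 77, 61, 172, 145, 137, 74, 133, 148, 205,
    203, 108, 112, 107, 91, 184]]
  par := [
    (0, 0), (0, 1), (1, 0), (1, 1), (2, 0), (2, 1), (3, 0), (3, 1), (4, 0), (4, 1),
    (5, 0), (5, 1), (6, 0), (6, 1), (7, 1), (8, 0), (8, 1), (9, 0), (9, 1), (10, 0),
    (10, 1), (11, 0), (11, 1), (12, 0), (12, 1), (13, 0), (14, 0), (15, 0), (15, 1), (16, 0),
    (16, 1), (17, 0), (17, 1), (18, 0), (18, 1), (19, 0), (19, 1), (20, 0), (21, 0), (22, 1),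
    (23, 0), (23, 1), (24, 0), (24, 1), (25, 0), (25, 1), (26, 0), (26, 1), (27, 0), (28, 0),
    (28, 1), (29, 0), (29, 1), (30, 0), (30, 1), (31, 0), (31, 1), (32, 0), (33, 0), (34, 1),
    (35, 0), (35, 1), (36, 0), (36, 1), (37, 0), (37, 1), (38, 0), (38, 1), (39, 0), (40, 0),
    (40, 1), (41, 0), (41, 1), (42, 0), (43, 0), (43, 1), (44, 0), (45, 0), (46, 0), (47, 1),
    (48, 0), (49, 0), (49, 1), (50, 0), (50, 1), (51, 0), (51, 1), (52, 0), (53, 0), (54, 1),
    (55, 0), (55, 1), (56, 0), (56, 1), (57, 0), (57, 1), (58, 0), (58, 1), (59, 0), (60, 0),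
    (60, 1), (61, 0), (61, 1), (62, 0), (63, 0), (63, 1), (64, 0), (65, 0), (66, 0), (67, 1),
    (68, 0), (69, 0), (69, 1), (70, 0), (70, 1), (71, 1), (72, 0), (72, 1), (73, 1), (74, 0),
    (76, 0), (76, 1), (77, 0), (77, 1), (78, 0), (79, 0), (80, 0), (80, 1), (81, 1), (82, 1),
    (83, 0), (84, 1), (85, 0), (85, 1), (86, 0), (86, 1), (87, 0), (87, 1), (88, 0), (88, 1),
    (89, 0), (90, 1), (91, 0), (91, 1), (92, 0), (93, 0), (93, 1), (94, 0), (95, 0), (96, 0),
    (97, 1), (98, 0), (99, 0), (100, 0), (100, 1), (101, 1), (102, 0), (102, 1), (103, 1), (104, 0),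
    (106, 1), (107, 0), (107, 1), (108, 0), (109, 0), (111, 1), (112, 1), (113, 0), (114, 1), (115, 0),
    (118, 1), (119, 0), (119, 1), (120, 0), (120, 1), (121, 1), (125, 1), (126, 0), (128, 1), (130, 0),
    (132, 1), (133, 0), (133, 1), (134, 0), (135, 0), (136, 0), (137, 0), (140, 0), (141, 0), (143, 1),
    (144, 1), (147, 1), (148, 0), (148, 1), (149, 0), (150, 0), (152, 1), (153, 1), (155, 0), (158, 1),
    (159, 0), (159, 1), (160, 0), (164, 1), (165, 0), (169, 1), (173, 0), (174, 1), (182, 1), (186, 1),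
    (188, 1), (189, 1), (191, 0), (191, 1), (195, 1)]
  keyM := keyMat 3 4 kIx
  keyN := qIx
  sG := [
    67, 178, 55, 20, 79, 143, 154, 180, 156, 60, 177, 133, 83, 138,
    135, 176, 175, 51, 139, 168, 70, 3, 24, 213, 171, 159, 66, 146,
    210, 58, 23, 157, 63, 167, 6, 166, 52, 132, 161, 0, 75, 212,
    116, 46, 91, 38, 126, 10, 186, 37, 118, 48, 108, 103, 22, 21,
    5, 68, 69, 144, 107, 115, 127, 8, 195, 44, 54, 145, 80, 158,
    149, 64, 117, 47, 129, 102, 204, 36, 53, 74, 27, 15, 76, 169,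
    96, 97, 201, 31, 124, 109, 87, 120, 89, 28, 121, 49, 150, 215,
    165, 56, 163, 17, 190, 110, 30, 95, 92, 123, 16, 151, 77, 57,
    170, 162, 41, 197, 35, 119, 13, 105, 209, 59, 148, 155, 153, 134,
    182, 208, 85, 100, 130, 192, 2, 39, 11, 111, 112, 181, 88, 12,
    191, 113, 1, 40, 98, 9, 45, 188, 202, 203, 140, 4, 25, 160,
    214, 71, 72, 61, 19, 172, 26, 211, 141, 147, 174, 82, 50, 137,
    196, 194, 32, 198, 93, 205, 187, 106, 42, 189, 84, 14, 29, 206,
    122, 7, 43, 114, 183, 125, 101, 207, 34, 104, 73, 78, 62, 173,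
    18, 152, 94, 99, 193, 199, 33, 184, 136, 164, 179, 142, 65, 81,
    86, 128, 185, 90, 200, 131]
  sH := [
    0, 1, 3, 7, 2, 5, 8, 4]

theorem card_SU : Nat.card (Cfsg.SU 3 GF4 2) = 216 := by
  have h := CfsgLib.Forms4.card_SU_mul_GU (F := GF4) (q := 2) (n := 3) (by rw [card_gf4]; norm_num) (by norm_num)
  rw [CfsgLib.Forms.card_GU (F := GF4) (q := 2) (by rw [card_gf4]; norm_num)] at h
  simp [Finset.sum_range_succ, Finset.prod_range_succ, CfsgLib.Forms.u] at h
  norm_num at h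
  omega

theorem exists_hom : ∃ θ : Cfsg.SU 3 GF4 2 →* QuaternionGroup 2, Function.Surjective θ := by
  refine exists_surjective_of_check ((slRep 3 GF4).comp (Cfsg.SU 3 GF4 2).subtype)
    (Matrix.SpecialLinearGroup.coeMonoidHom_injective.comp Subtype.val_injective)
    (MonoidHom.id _) Function.injective_id
    [(⟨g₁, mem_SU_of_eq _ (by decide +kernel)⟩, .a 1), (⟨g₂, mem_SU_of_eq _ (by decide +kernel)⟩, .xa 0)]
    cert card_SU (by rw [Nat.card_eq_fintype_card, QuaternionGroup.card]) ?_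
  decide +kernel

/-- Central elements are scalar. -/
theorem center_scalar (z : Cfsg.SU 3 GF4 2) (hz : z ∈ Subgroup.center (Cfsg.SU 3 GF4 2)) :
    ∃ c : GF4, z.1.1 = c • 1 := by
  let D : SL(3, GF4) := ⟨!![tg, 0, 0; 0, 1 + tg, 0; 0, 0, 1], by decide +kernel⟩
  let P : SL(3, GF4) := ⟨!![0, 1, 0; 0, 0, 1; 1, 0, 0], by decide +kernel⟩
  have hD := congrArg (fun w : Cfsg.SU 3 GF4 2 => w.1.1)
    (Subgroup.mem_center_iff.1 hz ⟨D, mem_SU_of_eq _ (by decide +kernel)⟩)
  have hP := congrArg (fun w : Cfsg.SU 3 GF4 2 => w.1.1)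
    (Subgroup.mem_center_iff.1 hz ⟨P, mem_SU_of_eq _ (by decide +kernel)⟩)
  simp only [Subgroup.coe_mul, Matrix.SpecialLinearGroup.coe_mul] at hD hP
  have key : ∀ a b c : GF4, (tg * a = a * (1 + tg) → a = 0) ∧ (tg * a = a → a = 0) ∧
      ((1 + tg) * a = a → a = 0) ∧ ((1 + tg) * b = b * tg → b = 0) ∧ (c = c * tg → c = 0) ∧
      (c = c * (1 + tg) → c = 0) := by decide +kernel
  have h01 := (key _ 0 0).1 (by simpa [D, Matrix.mul_apply, Fin.sum_univ_three] using congrFun (congrFun hD 0) 1)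
  have h02 := (key _ 0 0).2.1 (by simpa [D, Matrix.mul_apply, Fin.sum_univ_three] using congrFun (congrFun hD 0) 2)
  have h12 := (key _ 0 0).2.2.1 (by simpa [D, Matrix.mul_apply, Fin.sum_univ_three] using congrFun (congrFun hD 1) 2)
  have h10 := (key 0 _ 0).2.2.2.1 (by simpa [D, Matrix.mul_apply, Fin.sum_univ_three] using congrFun (congrFun hD 1) 0)
  have h20 := (key 0 0 _).2.2.2.2.1 (by simpa [D, Matrix.mul_apply, Fin.sum_univ_three] using congrFun (congrFun hD 2) 0)
  have h21 := (key 0 0 _).2.2.2.2.2 (by simpa [D, Matrix.mul_apply, Fin.sum_univ_three] using congrFun (congrFun hD 2) 1)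
  have e01 : z.1.1 0 0 = z.1.1 1 1 := by
    have := congrFun (congrFun hP 0) 1
    simpa [P, Matrix.mul_apply, Fin.sum_univ_three, eq_comm] using this
  have e12 : z.1.1 1 1 = z.1.1 2 2 := by
    have := congrFun (congrFun hP 1) 2
    simpa [P, Matrix.mul_apply, Fin.sum_univ_three, eq_comm] using this
  refine ⟨z.1.1 0 0, ?_⟩
  refine Matrix.ext fun i j => ?_
  fin_cases i <;> fin_cases j <;> simp [h01, h02, h12, h10, h20, h21, e01, e12]

theorem card_center : Nat.card (Subgroup.center (Cfsg.SU 3 GF4 2)) = 3 := by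
  classical
  have hd : ∀ c : GF4, (c • (1 : Matrix (Fin 3) (Fin 3) GF4)).det = 1 ↔ c ^ 3 = 1 := fun c => by
    rw [Matrix.det_smul, Matrix.det_one, mul_one, Fintype.card_fin]
  have hscal : ∀ c : GF4, c ^ 3 = 1 → c * c ^ 2 = 1 := fun c h => by rw [← h]; ring
  rw [Nat.card_congr (Equiv.ofBijective
    (fun z : Subgroup.center (Cfsg.SU 3 GF4 2) => (⟨z.1.1.1 0 0, by
      obtain ⟨c, hc⟩ := center_scalar z.1 z.2
      have h1 : c ^ 3 = 1 := (hd c).1 (hc ▸ z.1.1.2)
      rw [hc]; simpa using h1⟩ : {c : GF4 // c ^ 3 = 1})) ⟨?_, ?_⟩), Nat.card_eq_fintype_card]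
  · decide +kernel
  · intro z w h
    obtain ⟨c, hc⟩ := center_scalar z.1 z.2
    obtain ⟨c', hc'⟩ := center_scalar w.1 w.2
    have h0 : c = c' := by
      have := congrArg Subtype.val h
      simpa [hc, hc'] using this
    apply Subtype.ext
    apply Subtype.ext
    apply Subtype.ext
    rw [hc, hc', h0]
  · rintro ⟨c, hc⟩
    have hfix : ∀ x : GF4, x ^ 2 ^ 2 = x := by decide +kernel
    let s : Cfsg.SU 3 GF4 2 := ⟨⟨c • 1, (hd c).2 hc⟩, mem_SU_of_eq _ (by
      show (c • (1 : Matrix (Fin 3) (Fin 3) GF4))ᵀ * (c • (1 : Matrix (Fin 3) (Fin 3) GF4)).map (fun x => x ^ 2) = 1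
      refine Matrix.ext fun i j => ?_
      fin_cases i <;> fin_cases j <;> simp [Matrix.mul_apply, Fin.sum_univ_three, hscal c hc])⟩
    refine ⟨⟨s, Subgroup.mem_center_iff.2 fun g => Subtype.ext (Subtype.ext ?_)⟩, Subtype.ext (by simp [s])⟩
    show g.1.1 * (c • (1 : Matrix (Fin 3) (Fin 3) GF4)) = c • (1 : Matrix (Fin 3) (Fin 3) GF4) * g.1.1
    simp

theorem structure_gf4 :
    ∃ (N : Subgroup (Cfsg.PSU 3 GF4 2)) (_ : N.Normal), Nat.card N = 9 ∧ (∀ x ∈ N, x ^ 3 = 1) ∧
      Nonempty (Cfsg.PSU 3 GF4 2 ⧸ N ≃* QuaternionGroup 2) := by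
  obtain ⟨θ, hθ⟩ := exists_hom
  haveI : Fact (Nat.Prime 2) := ⟨Nat.prime_two⟩
  haveI : CharP GF4 2 := ringChar.of_eq (FiniteField.even_card_iff_char_two.2 (by rw [card_gf4]))
  have hQ : Nat.card (QuaternionGroup 2) = 8 := by rw [Nat.card_eq_fintype_card, QuaternionGroup.card]
  have hZ : Subgroup.center (Cfsg.SU 3 GF4 2) ≤ θ.ker := by
    intro z hz
    have h3 : z ^ 3 = 1 := by
      have := congrArg Subtype.val (pow_card_eq_one' (x := (⟨z, hz⟩ : Subgroup.center (Cfsg.SU 3 GF4 2))))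
      rw [card_center] at this
      simpa using this
    rw [MonoidHom.mem_ker]
    have h8 : θ z ^ Nat.card (QuaternionGroup 2) = 1 := pow_card_eq_one'
    rw [hQ] at h8
    have h := pow_gcd_eq_one.2 ⟨show θ z ^ 3 = 1 by rw [← map_pow, h3, map_one], h8⟩
    simpa using h
  let ψ : Cfsg.PSU 3 GF4 2 →* QuaternionGroup 2 := QuotientGroup.lift _ θ hZ
  have hψ : Function.Surjective ψ := fun y => by
    obtain ⟨x, rfl⟩ := hθ y
    exact ⟨QuotientGroup.mk x, rfl⟩
  have hker : Nat.card θ.ker = 27 := by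
    have h := Subgroup.card_mul_index θ.ker
    rw [Subgroup.index_ker, MonoidHom.range_eq_top.2 hθ, Subgroup.card_top, hQ, card_SU] at h
    omega
  refine ⟨ψ.ker, inferInstance, ?_, ?_, ⟨QuotientGroup.quotientKerEquivOfSurjective ψ hψ⟩⟩
  · have h := Subgroup.card_mul_index ψ.ker
    have h' := (Subgroup.center (Cfsg.SU 3 GF4 2)).card_eq_card_quotient_mul_card_subgroup
    rw [Subgroup.index_ker, MonoidHom.range_eq_top.2 hψ, Subgroup.card_top, hQ] at h
    rw [card_SU, card_center] at h'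
    change _ = Nat.card (Cfsg.PSU 3 GF4 2) * 3 at h'
    omega
  · intro x hx
    obtain ⟨k, rfl⟩ := QuotientGroup.mk'_surjective _ x
    have hk : k ∈ θ.ker := hx
    have hk27 : k ^ 27 = 1 := by
      have := congrArg Subtype.val (pow_card_eq_one' (x := (⟨k, hk⟩ : θ.ker)))
      rw [hker] at this
      simpa using this
    let g : GL (Fin 3) GF4 := Matrix.SpecialLinearGroup.toGL k.1
    have hg : Matrix.GeneralLinearGroup.det g = 1 := Units.ext k.1.2
    obtain ⟨N, c, hNc, hN⟩ := CfsgLib.GLBlocks.bound_three 2 g hg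
    rw [card_gf4] at hN
    norm_num at hN
    have h27 : (g : Matrix (Fin 3) (Fin 3) GF4) ^ 27 = 1 := by
      show k.1.1 ^ 27 = 1
      rw [← Matrix.SpecialLinearGroup.coe_pow, ← SubmonoidClass.coe_pow, hk27]
      rfl
    have hx27 : CfsgLib.GLBlocks.toPSL g hg ^ 27 = 1 :=
      (CfsgLib.GLBlocks.toPSL_pow_eq_one_iff g hg 27).2 ⟨1, by rw [one_smul, h27]⟩
    have hxN : CfsgLib.GLBlocks.toPSL g hg ^ N = 1 :=
      (CfsgLib.GLBlocks.toPSL_pow_eq_one_iff g hg N).2 ⟨c, hNc⟩
    have hx3 : CfsgLib.GLBlocks.toPSL g hg ^ 3 = 1 := by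
      have hgcd := pow_gcd_eq_one.2 ⟨hx27, hxN⟩
      rcases hN with rfl | rfl | rfl | rfl | rfl <;> norm_num at hgcd <;> first | exact hgcd | rw [hgcd, one_pow]
    obtain ⟨c', hc'⟩ := (CfsgLib.GLBlocks.toPSL_pow_eq_one_iff g hg 3).1 hx3
    rw [← map_pow, QuotientGroup.mk'_apply, QuotientGroup.eq_one_iff, Subgroup.mem_center_iff]
    intro m
    apply Subtype.ext
    apply Subtype.ext
    have hc'' : ((k ^ 3 : Cfsg.SU 3 GF4 2) : SL(3, GF4)).1 = c' • 1 := by
      rw [SubmonoidClass.coe_pow, Matrix.SpecialLinearGroup.coe_pow]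
      exact hc'
    simp only [Subgroup.coe_mul, Matrix.SpecialLinearGroup.coe_mul, hc'']
    simp

/-- Transport of `SU` along a field isomorphism. -/
theorem nonempty_psu_equiv {F K : Type*} [Field F] [Field K] (e : F ≃+* K) (n q : ℕ) :
    Nonempty (Cfsg.PSU n F q ≃* Cfsg.PSU n K q) := by
  let f := slMapEquiv (n := Fin n) e
  have hmap : (Cfsg.SU n F q).map f.toMonoidHom = Cfsg.SU n K q := by
    ext g
    simp only [Subgroup.mem_map]
    have hform : ∀ u v : Fin n → F,
        e (Cfsg.hermForm n F q u v) = Cfsg.hermForm n K q (e ∘ u) (e ∘ v) := fun u v => by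
      simp [Cfsg.hermForm, map_sum]
    have hmv : ∀ (h : SL(n, F)) (u : Fin n → F), (f h).1 *ᵥ (e ∘ u) = e ∘ (h.1 *ᵥ u) := fun h u => by
      funext i
      exact (RingHom.map_mulVec e.toRingHom h.1 u i).symm
    have key : ∀ h : SL(n, F), h ∈ Cfsg.SU n F q ↔ f h ∈ Cfsg.SU n K q := by
      intro h
      constructor
      · intro hh u v
        obtain ⟨u', rfl⟩ : ∃ u', e ∘ u' = u := ⟨e.symm ∘ u, funext fun i => e.apply_symm_apply _⟩
        obtain ⟨v', rfl⟩ : ∃ v', e ∘ v' = v := ⟨e.symm ∘ v, funext fun i => e.apply_symm_apply _⟩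
        show Cfsg.hermForm n K q ((f h).1 *ᵥ (e ∘ u')) ((f h).1 *ᵥ (e ∘ v')) = _
        rw [hmv, hmv, ← hform, ← hform]
        exact congrArg e (hh u' v')
      · intro hh u v
        apply e.injective
        show e (Cfsg.hermForm n F q (h.1 *ᵥ u) (h.1 *ᵥ v)) = _
        rw [hform, hform, ← hmv, ← hmv]
        exact hh _ _
    constructor
    · rintro ⟨h, hh, rfl⟩
      exact (key h).1 hh
    · intro hg
      exact ⟨f.symm g, (key _).2 (by rwa [MulEquiv.apply_symm_apply]), f.apply_symm_apply g⟩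
  let e' := ((Cfsg.SU n F q).equivMapOfInjective f.toMonoidHom f.injective).trans (MulEquiv.subgroupCongr hmap)
  refine ⟨QuotientGroup.congr _ _ e' ?_⟩
  ext x
  constructor
  · rintro ⟨y, hy, rfl⟩
    rw [Subgroup.mem_center_iff]
    intro w
    obtain ⟨v, rfl⟩ := e'.surjective w
    show e' v * e' y = e' y * e' v
    rw [← map_mul, ← map_mul, Subgroup.mem_center_iff.1 hy v]
  · intro hx
    refine ⟨e'.symm x, ?_, e'.apply_symm_apply x⟩
    show e'.symm x ∈ Subgroup.center _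
    rw [Subgroup.mem_center_iff]
    intro w
    apply e'.injective
    rw [map_mul, map_mul, e'.apply_symm_apply, Subgroup.mem_center_iff.1 hx (e' w)]

end CfsgLib.Forms.UThreeTwo
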