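import Mathlib

/-!
# Involutions of `SL₃` in characteristic two
-/

set_option autoImplicit false

namespace CfsgLib.Forms.SLThreeInvolutions

open Matrix
open scoped MatrixGroups

variable {F : Type*} [Field F]

/-- The standard root involution. -/
def std (F : Type*) [Field F] : SL(3, F) :=
  ⟨!![1, 0, 1; 0, 1, 0; 0, 0, 1], by simp [Matrix.det_fin_three]⟩

theorem isConj_std [CharP F 2] {t : SL(3, F)} (h1 : t ≠ 1) (h2 : t * t = 1) : IsConj (std F) t := by
  set M : Matrix (Fin 3) (Fin 3) F := t.1 - 1 with hM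
  have hM2 : M * M = 0 := by
    have h : t.1 * t.1 = 1 := congrArg Subtype.val h2
    rw [hM, mul_sub, sub_mul, h, mul_one, one_mul]
    ext i j
    simp only [Matrix.sub_apply, Matrix.zero_apply, CharTwo.sub_eq_add, Matrix.add_apply]
    linear_combination ((1 : Matrix (Fin 3) (Fin 3) F) i j + t.1 i j) * CharTwo.two_eq_zero (R := F)
  obtain ⟨w, hw⟩ : ∃ w, M.mulVec w ≠ 0 := by
    by_contra hcon
    push Not at hcon
    apply h1
    apply Subtype.ext
    rw [Matrix.SpecialLinearGroup.coe_one, ← _root_.sub_eq_zero, ← hM]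
    ext i j
    have := congrFun (hcon (Pi.single j 1)) i
    simpa using this
  set v := M.mulVec w with hv
  have hMv : M.mulVec v = 0 := by rw [hv, Matrix.mulVec_mulVec, hM2, Matrix.zero_mulVec]
  obtain ⟨u, hu, hus⟩ : ∃ u, M.mulVec u = 0 ∧ ∀ c : F, u ≠ c • v := by
    by_contra hcon
    push Not at hcon
    have hker : LinearMap.ker (Matrix.toLin' M) ≤ Submodule.span F {v} := by
      intro u hu
      obtain ⟨c, hc⟩ := hcon u (by simpa using hu)
      exact Submodule.mem_span_singleton.2 ⟨c, hc.symm⟩
    have hrange : LinearMap.range (Matrix.toLin' M) ≤ LinearMap.ker (Matrix.toLin' M) := by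
      rintro _ ⟨y, rfl⟩
      simp [Matrix.mulVec_mulVec, hM2]
    have h1' := Submodule.finrank_mono hker
    have h2' := Submodule.finrank_mono hrange
    have h3' := LinearMap.finrank_range_add_finrank_ker (Matrix.toLin' M)
    have h4' := finrank_span_singleton (K := F) hw
    rw [Module.finrank_fin_fun] at h3'
    omega
  let P : Matrix (Fin 3) (Fin 3) F := Matrix.of fun i j => ![v, u, w] j i
  have hP : P.det ≠ 0 := by
    rw [← Matrix.det_transpose]
    intro h0
    obtain ⟨r, hr, hrP⟩ := Matrix.exists_vecMul_eq_zero_iff.2 h0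
    have hsum : r 0 • v + r 1 • u + r 2 • w = 0 := by
      funext i
      have := congrFun hrP i
      simpa [Matrix.vecMul, dotProduct, Fin.sum_univ_three, P] using this
    have hc : r 2 = 0 := by
      have := congrArg M.mulVec hsum
      rw [Matrix.mulVec_add, Matrix.mulVec_add, Matrix.mulVec_smul, Matrix.mulVec_smul, Matrix.mulVec_smul,
        hMv, hu, smul_zero, smul_zero, zero_add, zero_add, Matrix.mulVec_zero] at this
      exact (smul_eq_zero.1 this).resolve_right hw
    rw [hc, zero_smul, add_zero] at hsum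
    have hb : r 1 = 0 := by
      by_contra hb
      apply hus (-(r 1)⁻¹ * r 0)
      have := congrArg (fun z => (r 1)⁻¹ • z) hsum
      simp only [smul_add, smul_smul, inv_mul_cancel₀ hb, one_smul, smul_zero] at this
      rw [neg_mul, neg_smul]
      exact eq_neg_of_add_eq_zero_right this
    rw [hb, zero_smul, add_zero] at hsum
    have ha : r 0 = 0 := (smul_eq_zero.1 hsum).resolve_right hw
    apply hr
    funext i
    fin_cases i
    · exact ha
    · exact hb
    · exact hc
  let g : SL(3, F) := ⟨Matrix.of fun i j => ![v, (P.det)⁻¹ • u, w] j i, by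
    rw [show (Matrix.of fun i j => ![v, (P.det)⁻¹ • u, w] j i) = P.updateCol 1 ((P.det)⁻¹ • fun i => P i 1) by
      ext i j; fin_cases j <;> simp [P, Matrix.updateCol_apply]]
    rw [Matrix.det_updateCol_smul, Matrix.updateCol_eq_self, inv_mul_cancel₀ hP]⟩
  refine isConj_iff.2 ⟨g, ?_⟩
  rw [mul_inv_eq_iff_eq_mul]
  apply Subtype.ext
  rw [Matrix.SpecialLinearGroup.coe_mul, Matrix.SpecialLinearGroup.coe_mul]
  have htM : t.1 = M + 1 := by rw [hM, sub_add_cancel]
  rw [htM, add_mul, one_mul]
  ext i j
  fin_cases j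
  · have := congrFun hMv i
    simp [Matrix.mulVec, dotProduct, Fin.sum_univ_three] at this
    simp [g, std, Matrix.mul_apply, Fin.sum_univ_three]
    linear_combination this
  · have := congrFun hu i
    simp [Matrix.mulVec, dotProduct, Fin.sum_univ_three] at this
    simp [g, std, Matrix.mul_apply, Fin.sum_univ_three]
    linear_combination (P.det)⁻¹ * this
  · have := congrFun hv i
    simp [Matrix.mulVec, dotProduct, Fin.sum_univ_three] at this
    simp [g, std, Matrix.mul_apply, Fin.sum_univ_three]
    linear_combination this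

/-- Every involution of `PSL₃` lifts to an involution of `SL₃`. -/
theorem exists_lift {x : Matrix.ProjectiveSpecialLinearGroup (Fin 3) F} (hx : x ≠ 1) (hxx : x * x = 1) :
    ∃ t : SL(3, F), t ≠ 1 ∧ t * t = 1 ∧
      QuotientGroup.mk' (Subgroup.center SL(3, F)) t = x := by
  obtain ⟨s, rfl⟩ := QuotientGroup.mk'_surjective _ x
  rw [← map_mul, QuotientGroup.mk'_apply, QuotientGroup.eq_one_iff] at hxx
  have hz3 : (s * s) ^ 3 = 1 := by
    obtain ⟨r, hr, hrz⟩ := Matrix.SpecialLinearGroup.mem_center_iff.1 hxx
    apply Subtype.ext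
    rw [Matrix.SpecialLinearGroup.coe_pow, ← hrz, ← map_pow, show r ^ 3 = 1 by simpa using hr, map_one,
      Matrix.SpecialLinearGroup.coe_one]
  have hmk : QuotientGroup.mk' (Subgroup.center SL(3, F)) (s * (s * s)) =
      QuotientGroup.mk' (Subgroup.center SL(3, F)) s := by
    rw [map_mul, show QuotientGroup.mk' (Subgroup.center SL(3, F)) (s * s) = 1 from
      (QuotientGroup.eq_one_iff _).2 hxx, mul_one]
  refine ⟨s * (s * s), fun h => hx (by rw [← hmk, h, map_one]), ?_, hmk⟩
  calc s * (s * s) * (s * (s * s)) = (s * s) ^ 3 := by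
        simp only [pow_succ, pow_zero, one_mul, mul_assoc]
    _ = 1 := hz3

end CfsgLib.Forms.SLThreeInvolutions
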