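import Cfsg.Agent.Forms.OrthCharTwo
import Cfsg.Agent.Forms.Diagonal

/-!
# Reflections generate; the index of `Ω` in the orthogonal group

Main results: `exists_isReflProd_finite`, `closure_reflections_eq_top`, `parityHom`, `spinHom`,
`omega_eq_ker`, `index_omega_odd`, `index_omega_charTwo`, `omega_le_of_reflections_commute`.
-/

namespace CfsgLib.Forms

open Matrix Module CfsgLib.Spinor

set_option linter.style.haveILetI false

variable {F : Type*} [Field F] {ι : Type} [Fintype ι] [DecidableEq ι] {Q : QuadraticForm F (ι → F)}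

/-- Reflections generate `O(Q)` over a finite field, except for dimension four over two elements. -/
theorem exists_isReflProd_finite [Finite F] (hQ : (QuadraticMap.polarBilin Q).Nondegenerate)
    (hexc : Nat.card F ≠ 2 ∨ Fintype.card ι ≠ 4) (g : ↥(Cfsg.isometryGroup F ⇑Q)) :
    ∃ vs, IsReflProd Q g vs := by
  by_cases h2 : (2 : F) = 0
  · haveI : CharP F 2 := CharTwo.of_one_ne_zero_of_two_eq_zero one_ne_zero h2
    exact exists_isReflProd_charTwo hQ hexc g
  · exact exists_isReflProd h2 hQ g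

/-- A subgroup containing the reflections of a factorisation contains the product. -/
theorem mem_of_isReflProd {H : Subgroup ↥(Cfsg.isometryGroup F ⇑Q)} :
    ∀ (vs : List (ι → F)) (g : ↥(Cfsg.isometryGroup F ⇑Q)), IsReflProd Q g vs →
      (∀ v ∈ vs, ∀ hv : Q v ≠ 0, reflIso Q v hv ∈ H) → g ∈ H := by
  intro vs
  induction vs with
  | nil =>
    intro g hg _
    rw [show g = 1 from mat_ext Q hg.2]
    exact one_mem H
  | cons v vs ih =>
    intro g hg hH
    have hv := hg.1 v List.mem_cons_self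
    obtain ⟨g', hg'⟩ : ∃ g', IsReflProd Q g' vs := by
      refine ⟨reflIso Q v hv * g, fun w hw => hg.1 w (List.mem_cons_of_mem _ hw), ?_⟩
      rw [mat_mul, hg.2, List.map_cons, List.prod_cons, ← mul_assoc, mat_reflIso,
        reflectionMatrix_mul_self Q hv, one_mul]
    have hgg : g = reflIso Q v hv * g' := by
      refine mat_ext Q ?_
      rw [mat_mul, hg.2, hg'.2, List.map_cons, List.prod_cons, mat_reflIso]
    rw [hgg]
    exact mul_mem (hH v List.mem_cons_self hv)
      (ih g' hg' fun w hw => hH w (List.mem_cons_of_mem _ hw))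

theorem closure_reflections_eq_top
    (hgen : ∀ g : ↥(Cfsg.isometryGroup F ⇑Q), ∃ vs, IsReflProd Q g vs) :
    Subgroup.closure {g : ↥(Cfsg.isometryGroup F ⇑Q) | ∃ v : ι → F, Q v ≠ 0 ∧
      ((g : Matrix.GeneralLinearGroup ι F) : Matrix ι ι F) = Cfsg.reflectionMatrix ⇑Q v} = ⊤ := by
  rw [eq_top_iff]
  intro g _
  obtain ⟨vs, hvs⟩ := hgen g
  exact mem_of_isReflProd vs g hvs fun v _ hv => Subgroup.subset_closure ⟨v, hv, rfl⟩

/-- If the images of all reflections in a quotient commute, `Ω` lies in the kernel. -/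
theorem omega_le_of_reflections_commute
    (hgen : ∀ g : ↥(Cfsg.isometryGroup F ⇑Q), ∃ vs, IsReflProd Q g vs) {M : Type*} [Group M]
    (φ : ↥(Cfsg.isometryGroup F ⇑Q) →* M)
    (hc : ∀ (v w : ι → F) (hv : Q v ≠ 0) (hw : Q w ≠ 0),
      Commute (φ (reflIso Q v hv)) (φ (reflIso Q w hw))) :
    Cfsg.Omega F ⇑Q ≤ φ.ker := by
  have hall : ∀ (v : ι → F) (hv : Q v ≠ 0) g, Commute (φ (reflIso Q v hv)) (φ g) := by
    intro v hv g
    obtain ⟨vs, hvs⟩ := hgen g
    have h := mem_of_isReflProd (H := (Subgroup.centralizer {φ (reflIso Q v hv)}).comap φ) vs g hvs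
      fun w _ hw => Subgroup.mem_centralizer_singleton_iff.2 (hc w v hw hv).eq
    exact (Subgroup.mem_centralizer_singleton_iff.1 h).symm
  rw [Cfsg.Omega, commutator_eq_closure, Subgroup.closure_le]
  rintro _ ⟨a, b, rfl⟩
  obtain ⟨as, has⟩ := hgen a
  have h := mem_of_isReflProd (H := (Subgroup.centralizer {φ b}).comap φ) as a has
    fun w _ hw => Subgroup.mem_centralizer_singleton_iff.2 (hall w hw b).eq
  show φ (a * b * a⁻¹ * b⁻¹) = 1
  rw [map_mul, map_mul, map_mul, map_inv, map_inv, Subgroup.mem_centralizer_singleton_iff.1 h]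
  group

variable (hQ : (QuadraticMap.polarBilin Q).Nondegenerate)
  (hgen : ∀ g : ↥(Cfsg.isometryGroup F ⇑Q), ∃ vs, IsReflProd Q g vs)

/-- The parity of the number of reflections. -/
noncomputable def parityHom : ↥(Cfsg.isometryGroup F ⇑Q) →* ℤˣ :=
  MonoidHom.mk' (fun g => (-1) ^ (hgen g).choose.length) fun a b => by
    obtain ⟨h, -⟩ := IsReflProd.invariant hQ (hgen (a * b)).choose_spec
      ((hgen a).choose_spec.mul (hgen b).choose_spec)
    rw [← pow_add, ← List.length_append]
    simp only [neg_one_pow_eq_ite, h]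

theorem parityHom_eq {g : ↥(Cfsg.isometryGroup F ⇑Q)} {vs : List (ι → F)}
    (h : IsReflProd Q g vs) : parityHom hQ hgen g = (-1) ^ vs.length := by
  show ((-1 : ℤˣ)) ^ (hgen g).choose.length = _
  obtain ⟨h1, -⟩ := IsReflProd.invariant hQ (hgen g).choose_spec h
  simp only [neg_one_pow_eq_ite, h1]

/-- The spinor norm with values in `±1`. -/
noncomputable def spinHom [Fintype F] [DecidableEq F] : ↥(Cfsg.isometryGroup F ⇑Q) →* ℤˣ :=
  MonoidHom.mk' (fun g => (quadraticChar F).toUnitHom
      (Units.mk0 _ (prod_quad_ne_zero (hgen g).choose_spec.1))) fun a b => by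
    obtain ⟨-, r, hr⟩ := IsReflProd.invariant hQ (hgen (a * b)).choose_spec
      ((hgen a).choose_spec.mul (hgen b).choose_spec)
    have n0 := prod_quad_ne_zero (hgen (a * b)).choose_spec.1
    have na := prod_quad_ne_zero (hgen a).choose_spec.1
    have nb := prod_quad_ne_zero (hgen b).choose_spec.1
    ext
    simp only [Units.val_mul, MulChar.coe_toUnitHom, Units.val_mk0]
    rw [List.map_append, List.prod_append] at hr
    have h1 : quadraticChar F (r * r) = 1 := by
      rw [← pow_two, quadraticChar_sq_one']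
      intro h0
      rw [h0, mul_zero] at hr
      exact mul_ne_zero n0 (mul_ne_zero na nb) hr
    rw [← hr, map_mul, map_mul] at h1
    have ha := quadraticChar_sq_one (F := F) na
    have hb := quadraticChar_sq_one (F := F) nb
    rw [pow_two] at ha hb
    rcases mul_self_eq_one_iff.1 ha with ha | ha <;>
      rcases mul_self_eq_one_iff.1 hb with hb | hb <;> simp only [ha, hb] at h1 ⊢ <;> omega

theorem spinHom_eq [Fintype F] [DecidableEq F] {g : ↥(Cfsg.isometryGroup F ⇑Q)}
    {vs : List (ι → F)} (h : IsReflProd Q g vs) :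
    (spinHom hQ hgen g : ℤ) = quadraticChar F (vs.map (fun v => Q v)).prod := by
  show quadraticChar F ((hgen g).choose.map (fun v => Q v)).prod = _
  obtain ⟨-, r, hr⟩ := IsReflProd.invariant hQ (hgen g).choose_spec h
  have n1 := prod_quad_ne_zero (hgen g).choose_spec.1
  have n2 := prod_quad_ne_zero h.1
  have h1 : quadraticChar F (r * r) = 1 := by
    rw [← pow_two, quadraticChar_sq_one']
    intro h0
    rw [h0, mul_zero] at hr
    exact mul_ne_zero n1 n2 hr
  rw [← hr, map_mul] at h1
  have ha := quadraticChar_sq_one (F := F) n1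
  have hb := quadraticChar_sq_one (F := F) n2
  rw [pow_two] at ha hb
  rcases mul_self_eq_one_iff.1 ha with ha | ha <;>
    rcases mul_self_eq_one_iff.1 hb with hb | hb <;> simp only [ha, hb] at h1 ⊢ <;> omega

theorem parityHom_reflIso (v : ι → F) (hv : Q v ≠ 0) :
    parityHom hQ hgen (reflIso Q v hv) = -1 := by
  rw [parityHom_eq hQ hgen (IsReflProd.reflIso v hv), List.length_singleton, pow_one]

theorem spinHom_reflIso [Fintype F] [DecidableEq F] (v : ι → F) (hv : Q v ≠ 0) :
    (spinHom hQ hgen (reflIso Q v hv) : ℤ) = quadraticChar F (Q v) := by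
  rw [spinHom_eq hQ hgen (IsReflProd.reflIso v hv), List.map_singleton, List.prod_singleton]

/-- In odd characteristic `Ω` is the joint kernel of parity and spinor norm. -/
theorem omega_eq_ker [Fintype F] [DecidableEq F] (h2 : (2 : F) ≠ 0) :
    Cfsg.Omega F ⇑Q = ((parityHom hQ hgen).prod (spinHom hQ hgen)).ker := by
  ext g
  obtain ⟨vs, hvs⟩ := hgen g
  have hs : spinHom hQ hgen g = 1 ↔ IsSquare (vs.map (fun v => Q v)).prod := by
    rw [← Units.val_eq_one, spinHom_eq hQ hgen hvs,
      quadraticChar_one_iff_isSquare (prod_quad_ne_zero hvs.1)]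
  have hp : (-1 : ℤˣ) ^ vs.length = 1 ↔ Even vs.length :=
    neg_one_pow_eq_one_iff_even (by decide)
  rw [MonoidHom.mem_ker, MonoidHom.prod_apply, Prod.mk_eq_one, parityHom_eq hQ hgen hvs,
    mem_omega_iff h2 hQ hvs, hs, hp]

/-- In dimension at least two in odd characteristic every value is taken. -/
theorem exists_value [Finite F] (h2 : (2 : F) ≠ 0) (hQ : (QuadraticMap.polarBilin Q).Nondegenerate)
    (hn : 2 ≤ Fintype.card ι) (c : F) : ∃ v, Q v = c := by
  obtain ⟨b, hb, hb0⟩ := exists_orthogonal_anisotropic_basis h2 hQ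
  have hd : 1 < Module.finrank F (ι → F) := by rw [Module.finrank_pi]; omega
  obtain ⟨x, y, h⟩ := exists_diag_binary h2 (hb0 ⟨0, by omega⟩) (hb0 ⟨1, hd⟩) c
  refine ⟨x • b ⟨0, by omega⟩ + y • b ⟨1, hd⟩, ?_⟩
  rw [QuadraticMap.map_add (⇑Q), QuadraticMap.map_smul, QuadraticMap.map_smul,
    QuadraticMap.polar_smul_left, QuadraticMap.polar_smul_right,
    hb _ _ (fun h => by simp [Fin.ext_iff] at h)]
  simp only [smul_eq_mul]
  linear_combination h

theorem parity_spin_surjective [Fintype F] [DecidableEq F] (h2 : (2 : F) ≠ 0)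
    (hn : 2 ≤ Fintype.card ι) :
    Function.Surjective ((parityHom hQ hgen).prod (spinHom hQ hgen)) := by
  have hchar : ringChar F ≠ 2 := fun h => h2 (by
    haveI := ringChar.eq_iff.1 h
    exact CharTwo.two_eq_zero)
  obtain ⟨α, hα⟩ := FiniteField.exists_nonsquare hchar
  have hα0 : α ≠ 0 := fun h => hα (h ▸ ⟨0, by simp⟩)
  obtain ⟨v, hv⟩ := exists_value h2 hQ hn (1 : F)
  obtain ⟨w, hw⟩ := exists_value h2 hQ hn α
  have hv0 : Q v ≠ 0 := by rw [hv]; exact one_ne_zero
  have hw0 : Q w ≠ 0 := by rw [hw]; exact hα0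
  have hr1 : spinHom hQ hgen (reflIso Q v hv0) = 1 := by
    ext; rw [spinHom_reflIso, hv, map_one, Units.val_one]
  have hr2 : spinHom hQ hgen (reflIso Q w hw0) = -1 := by
    ext; rw [spinHom_reflIso, hw, quadraticChar_neg_one_iff_not_isSquare.2 hα]; rfl
  rintro ⟨a, b⟩
  rcases Int.units_eq_one_or a with rfl | rfl <;> rcases Int.units_eq_one_or b with rfl | rfl
  · exact ⟨1, map_one _⟩
  · exact ⟨reflIso Q v hv0 * reflIso Q w hw0, by simp [parityHom_reflIso, hr1, hr2]⟩
  · exact ⟨reflIso Q v hv0, by simp [parityHom_reflIso, hr1]⟩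
  · exact ⟨reflIso Q w hw0, by simp [parityHom_reflIso, hr2]⟩

/-- `[O : Ω] = 4` in odd characteristic. -/
theorem index_omega_odd [Fintype F] (h2 : (2 : F) ≠ 0)
    (hQ : (QuadraticMap.polarBilin Q).Nondegenerate) (hn : 2 ≤ Fintype.card ι) :
    (Cfsg.Omega F ⇑Q).index = 4 := by
  classical
  rw [omega_eq_ker hQ (exists_isReflProd h2 hQ) h2, Subgroup.index_ker,
    MonoidHom.range_eq_top.2 (parity_spin_surjective hQ (exists_isReflProd h2 hQ) h2 hn)]
  rw [Subgroup.card_top, Nat.card_prod, Nat.card_eq_fintype_card, Fintype.card_units_int]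

/-- In characteristic two `Ω` is the kernel of the parity. -/
theorem omega_eq_ker_charTwo [Finite F] [CharP F 2]
    (hexc : Nat.card F ≠ 2 ∨ Fintype.card ι ≠ 4) :
    Cfsg.Omega F ⇑Q = (parityHom hQ hgen).ker := by
  refine le_antisymm (Abelianization.commutator_subset_ker (parityHom hQ hgen)) fun g hg => ?_
  obtain ⟨vs, hvs⟩ := hgen g
  rw [MonoidHom.mem_ker, parityHom_eq hQ hgen hvs,
    neg_one_pow_eq_one_iff_even (by decide)] at hg
  -- all reflections are conjugate
  have hconj : ∀ (v w : ι → F) (hv : Q v ≠ 0) (hw : Q w ≠ 0),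
      Abelianization.of (reflIso Q v hv) = Abelianization.of (reflIso Q w hw) := by
    intro v w hv hw
    obtain ⟨c, hc⟩ := exists_sq_eq (Q v / Q w)
    have hc0 : c ≠ 0 := fun h => div_ne_zero hv hw (by rw [← hc, h, mul_zero])
    obtain ⟨h, -, hh⟩ := exists_move_charTwo hQ hexc (v := c • w) hv
      (by rw [QuadraticMap.map_smul, hc, smul_eq_mul, div_mul_cancel₀ _ hw])
    have : h * reflIso Q v hv * h⁻¹ = reflIso Q w hw := by
      rw [conj_reflIso]
      refine mat_ext Q (Matrix.toLin'.injective ?_)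
      simp only [reflIso_coe, toLin'_reflectionMatrix, mat] at hh ⊢
      rw [hh, refl_smul Q hc0]
    rw [← this, map_mul, map_mul, map_inv, mul_comm (Abelianization.of h), mul_inv_cancel_right]
  rw [Cfsg.Omega, ← Abelianization.ker_of, MonoidHom.mem_ker]
  have key : ∀ (ws : List (ι → F)) (k : ↥(Cfsg.isometryGroup F ⇑Q)), IsReflProd Q k ws →
      ∀ u (hu : Q u ≠ 0), Abelianization.of k = Abelianization.of (reflIso Q u hu) ^ ws.length := by
    intro ws
    induction ws with
    | nil => intro k hk u hu; rw [show k = 1 from mat_ext Q hk.2]; simp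
    | cons v ws ih =>
      intro k hk u hu
      have hv := hk.1 v List.mem_cons_self
      have hk' : IsReflProd Q (reflIso Q v hv * k) ws := by
        refine ⟨fun z hz => hk.1 z (List.mem_cons_of_mem _ hz), ?_⟩
        rw [mat_mul, hk.2, List.map_cons, List.prod_cons, ← mul_assoc, mat_reflIso,
          reflectionMatrix_mul_self Q hv, one_mul]
      have h := ih _ hk' u hu
      rw [map_mul, hconj v u hv hu] at h
      rw [List.length_cons, pow_succ', ← h, ← mul_assoc, ← map_mul,
        show reflIso Q u hu * reflIso Q u hu = 1 from mat_ext Q (reflectionMatrix_mul_self Q hu),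
        map_one, one_mul]
  rcases vs with _ | ⟨u, ws⟩
  · rw [show g = 1 from mat_ext Q hvs.2, map_one]
  · have hu := hvs.1 u List.mem_cons_self
    obtain ⟨k, hk⟩ := hg
    rw [key _ g hvs u hu, hk, ← two_mul, pow_mul, pow_two, ← map_mul,
      show reflIso Q u hu * reflIso Q u hu = 1 from mat_ext Q (reflectionMatrix_mul_self Q hu),
      map_one, one_pow]

/-- `[O : Ω] = 2` in characteristic two. -/
theorem index_omega_charTwo [Finite F] [CharP F 2]
    (hQ : (QuadraticMap.polarBilin Q).Nondegenerate) (hn : 0 < Fintype.card ι)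
    (hexc : Nat.card F ≠ 2 ∨ Fintype.card ι ≠ 4) : (Cfsg.Omega F ⇑Q).index = 2 := by
  have hgen := exists_isReflProd_charTwo hQ hexc
  obtain ⟨u, hu⟩ : ∃ u, Q u ≠ 0 := by
    by_contra h
    haveI : Nonempty ι := Fintype.card_pos_iff.1 hn
    haveI : Subsingleton (ι → F) := subsingleton_of_forall_eq 0 fun x => hQ.1 x fun y => by
      simp [QuadraticMap.polar, fun z => not_not.1 fun hz : Q z ≠ 0 => h ⟨z, hz⟩]
    exact absurd (Subsingleton.elim (fun _ : ι => (1 : F)) 0) fun h0 =>
      one_ne_zero (congrFun h0 (Classical.arbitrary ι))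
  rw [omega_eq_ker_charTwo hQ hgen hexc, Subgroup.index_ker, MonoidHom.range_eq_top.2 (by
    intro a
    rcases Int.units_eq_one_or a with rfl | rfl
    · exact ⟨1, map_one _⟩
    · exact ⟨reflIso Q u hu, parityHom_reflIso hQ hgen u hu⟩),
    Subgroup.card_top, Nat.card_eq_fintype_card, Fintype.card_units_int]

end CfsgLib.Forms
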