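import Cfsg.Agent.RepBounds.Unitary.Setting
import Cfsg.Prelude.Def_ClassicalGeometry

/-!
# Generation of `SU_n(q)` by transvections

`transvs_eq_top`: for `n ≤ 2`, or `(n, q) ≠ (3, 2)`, the transvections generate `SU`; `exists_conj_central`:
every transvection is conjugate to a central element of the Heisenberg group.
-/

set_option autoImplicit false

namespace CfsgLib.RepBounds.Unit

open Matrix

variable {F : Type*} [Field F] [Fintype F] (C : ConjField F)

theorem herm_neg_right {ι : Type*} [Fintype ι] (u v : ι → F) : herm C u (-v) = -herm C u v := by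
  simp [herm]

theorem ConjField.exists_skew_ne : ∃ d ∈ C.skew, d ≠ 0 := by
  obtain ⟨b, hb⟩ : ∃ b, C.σ b ≠ b := by
    by_contra h
    push Not at h
    exact C.ne_id (RingHom.ext h)
  exact ⟨b - C.σ b, C.sub_mem b, sub_ne_zero.mpr hb.symm⟩

theorem ConjField.inv_mem {c : F} (hc : c ∈ C.skew) : c⁻¹ ∈ C.skew := by
  rw [C.mem_skew, map_inv₀, C.skew_eq hc, inv_neg, add_neg_cancel]

section basic

variable {ι : Type*} [Fintype ι] [DecidableEq ι]

/-- The map of a transvection. -/
def transvMap (v : ι → F) (c : F) : (ι → F) →ₗ[F] (ι → F) where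
  toFun x := x + (c * herm C x v) • v
  map_add' x y := by simp only [herm_add_left, mul_add, add_smul]; abel
  map_smul' a x := by simp only [herm_smul_left, RingHom.id_apply]; module

theorem transvMap_det (v : ι → F) (c : F) (hv : herm C v v = 0) :
    (LinearMap.toMatrix' (transvMap C v c)).det = 1 := by
  refine det_eq_one_of_cube _ (Matrix.ext_iff_mulVec.2 fun x => ?_)
  have hN : ∀ y, (LinearMap.toMatrix' (transvMap C v c) - 1) *ᵥ y = (c * herm C y v) • v := fun y => by
    rw [Matrix.sub_mulVec, LinearMap.toMatrix'_mulVec, Matrix.one_mulVec]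
    simp [transvMap]
  rw [pow_succ, pow_two, ← Matrix.mulVec_mulVec, ← Matrix.mulVec_mulVec, hN, hN, hN, Matrix.zero_mulVec]
  simp [herm_smul_left, herm_zero_left, hv]

/-- The transvection `x ↦ x + c h(x,v) v`. -/
noncomputable def transvEl (v : ι → F) (c : F) (hv : herm C v v = 0) (hc : c ∈ C.skew) : suG C ι :=
  ⟨⟨LinearMap.toMatrix' (transvMap C v c), transvMap_det C v c hv⟩, fun x y => by
    show herm C (LinearMap.toMatrix' (transvMap C v c) *ᵥ x) (LinearMap.toMatrix' (transvMap C v c) *ᵥ y) = _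
    simp only [LinearMap.toMatrix'_mulVec, transvMap, LinearMap.coe_mk, AddHom.coe_mk, herm_add_left,
      herm_smul_left, herm_add_right, herm_smul_right, hv, map_mul, C.skew_eq hc, conj_herm]
    ring⟩

theorem isTransv_transvEl (v : ι → F) (c : F) (hv : herm C v v = 0) (hc : c ∈ C.skew) :
    IsTransv C (transvEl C v c hv hc) v c := fun _ => LinearMap.toMatrix'_mulVec _ _

variable (ι) in
/-- The subgroup generated by transvections. -/
def transvs : Subgroup (suG C ι) :=
  Subgroup.closure {g | ∃ v c, herm C v v = 0 ∧ c ∈ C.skew ∧ IsTransv C g v c}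

theorem IsTransv.mem_transvs {g : suG C ι} {v : ι → F} {c : F} (h : IsTransv C g v c)
    (hv : herm C v v = 0) (hc : c ∈ C.skew) : g ∈ transvs C ι :=
  Subgroup.subset_closure ⟨v, c, hv, hc, h⟩

theorem transvEl_mem (v : ι → F) (c : F) (hv : herm C v v = 0) (hc : c ∈ C.skew) :
    transvEl C v c hv hc ∈ transvs C ι :=
  (isTransv_transvEl C v c hv hc).mem_transvs C hv hc

theorem transvs_normal : (transvs C ι).Normal := by
  refine ⟨fun g hg k => ?_⟩
  induction hg using Subgroup.closure_induction with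
  | mem g hg =>
    obtain ⟨v, c, hv, hc, h⟩ := hg
    exact (h.conj C k).mem_transvs C (by rw [herm_app, hv]) hc
  | one => simp
  | mul a b _ _ ha hb =>
    rw [show k * (a * b) * k⁻¹ = (k * a * k⁻¹) * (k * b * k⁻¹) by group]
    exact mul_mem ha hb
  | inv a _ ha =>
    rw [show k * a⁻¹ * k⁻¹ = (k * a * k⁻¹)⁻¹ by group]
    exact inv_mem ha

theorem transvs_le_comap {κ : Type*} [Fintype κ] [DecidableEq κ] (f : suG C ι →* suG C κ) (j : (ι → F) → (κ → F))
    (hj : ∀ v, herm C (j v) (j v) = herm C v v)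
    (hf : ∀ g v c, IsTransv C g v c → IsTransv C (f g) (j v) c) :
    transvs C ι ≤ (transvs C κ).comap f := by
  rw [transvs, Subgroup.closure_le]
  rintro g ⟨v, c, hv, hc, h⟩
  exact (hf g v c h).mem_transvs C (by rw [hj, hv]) hc

theorem transvs_top_of_equiv {κ : Type*} [Fintype κ] [DecidableEq κ] (e : ι ≃ κ) (h : transvs C ι = ⊤) :
    transvs C κ = ⊤ := by
  rw [eq_top_iff]
  intro g _
  have h1 := transvs_le_comap C (reindexHom C e) (fun v => v ∘ e.symm)
    (fun v => Equiv.sum_comp e.symm fun i => v i * C.σ (v i)) (fun g v c hg => hg.reindexHom C e)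
  have h2 : reindexHom C e (reindexHom C e.symm g) = g := suG_ext C fun x => by
    rw [app_reindexHom, app_reindexHom]
    simp [Function.comp_def]
  rw [← h2]
  exact h1 (h ▸ Subgroup.mem_top _)

/-- A single transvection between isotropic vectors with non-zero skew product. -/
theorem exists_move {x y : ι → F} (hx : herm C x x = 0) (hy : herm C y y = 0) (hs : herm C x y ∈ C.skew)
    (hne : herm C x y ≠ 0) : ∃ t ∈ transvs C ι, app C t x = y := by
  have hw : herm C (x - y) (x - y) = 0 := by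
    rw [herm_sub_left, herm_sub_right, herm_sub_right, hx, hy, ← conj_herm C x y, C.skew_eq hs]
    ring
  refine ⟨_, transvEl_mem C (x - y) (herm C x y)⁻¹ hw (C.inv_mem hs), ?_⟩
  rw [isTransv_transvEl C (x - y) _ hw (C.inv_mem hs) x, herm_sub_right, hx, zero_sub, mul_neg,
    inv_mul_cancel₀ hne, neg_one_smul, ← sub_eq_add_neg, sub_sub_cancel]

theorem eq_one_of_subsingleton [Subsingleton ι] (g : suG C ι) : g = 1 := by
  refine Subtype.ext (Subtype.ext ?_)
  rcases isEmpty_or_nonempty ι with h | h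
  · exact Subsingleton.elim _ _
  · obtain ⟨i⟩ := h
    ext a b
    have := Matrix.det_eq_elem_of_subsingleton g.1.1 i
    rw [g.1.2] at this
    rw [Subsingleton.elim a i, Subsingleton.elim b i, ← this]
    simp

theorem add_inv_of_card_two (h : Fintype.card ι = 2) (g : suG C ι) (x : ι → F) :
    app C g x + app C g⁻¹ x = g.1.1.trace • x := by
  let e : ι ≃ Fin 2 := Fintype.equivFinOfCardEq h
  have key : g.1.1 + g.1.1.adjugate = g.1.1.trace • 1 := by
    set N := g.1.1.submatrix e.symm e.symm with hN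
    have h1 : N + N.adjugate = N.trace • 1 := by
      ext i j
      fin_cases i <;> fin_cases j <;>
        simp [Matrix.adjugate_fin_two, Matrix.trace_fin_two, add_comm]
    have h2 : g.1.1 = N.submatrix e e := by
      ext a b; simp [hN]
    have h3 : g.1.1.trace = N.trace := by
      simp only [Matrix.trace, Matrix.diag, hN, Matrix.submatrix_apply]
      exact (Equiv.sum_comp e.symm fun i => g.1.1 i i).symm
    rw [h3, h2, Matrix.adjugate_submatrix_equiv_self]
    ext a b
    have := congrFun (congrFun h1 (e a)) (e b)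
    simpa [Matrix.one_apply] using this
  show g.1.1 *ᵥ x + (g.1⁻¹).1 *ᵥ x = _
  rw [Matrix.SpecialLinearGroup.coe_inv, ← Matrix.add_mulVec, key, Matrix.smul_mulVec, Matrix.one_mulVec]

theorem herm_app_self_skew (h : Fintype.card ι = 2) (g : suG C ι) (x : ι → F) (hx : herm C x x = 0) :
    herm C (app C g x) x ∈ C.skew := by
  have h1 := congrArg (fun z => herm C z x) (add_inv_of_card_two C h g x)
  simp only [herm_add_left, herm_smul_left, hx, mul_zero, herm_app_left] at h1
  rw [C.mem_skew, conj_herm]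
  exact h1

/-- Extension by the identity on extra coordinates. -/
noncomputable def sumHom (α : Type*) [Fintype α] [DecidableEq α] : suG C ι →* suG C (α ⊕ ι) where
  toFun g := ⟨⟨Matrix.fromBlocks 1 0 0 g.1.1, by rw [Matrix.det_fromBlocks_zero₂₁, Matrix.det_one, one_mul, g.1.2]⟩,
    fun x y => by
      show herm C (Matrix.fromBlocks 1 0 0 g.1.1 *ᵥ x) (Matrix.fromBlocks 1 0 0 g.1.1 *ᵥ y) = _
      rw [Matrix.fromBlocks_mulVec, Matrix.fromBlocks_mulVec]
      simp only [Matrix.one_mulVec, Matrix.zero_mulVec, add_zero, zero_add, herm_sumElim]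
      rw [g.2]
      simp [herm, Fintype.sum_sum_type]⟩
  map_one' := Subtype.ext (Subtype.ext Matrix.fromBlocks_one)
  map_mul' g h := Subtype.ext (Subtype.ext (by
    show Matrix.fromBlocks 1 0 0 (g.1.1 * h.1.1) =
      Matrix.fromBlocks 1 0 0 g.1.1 * Matrix.fromBlocks 1 0 0 h.1.1
    simp [Matrix.fromBlocks_multiply]))

theorem app_sumHom (α : Type*) [Fintype α] [DecidableEq α] (g : suG C ι) (x : α ⊕ ι → F) :
    app C (sumHom C α g) x = Sum.elim (x ∘ Sum.inl) (app C g (x ∘ Sum.inr)) := by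
  show Matrix.fromBlocks 1 0 0 g.1.1 *ᵥ x = _
  rw [Matrix.fromBlocks_mulVec]
  simp [app]

theorem transvs_le_comap_sumHom (α : Type*) [Fintype α] [DecidableEq α] :
    transvs C ι ≤ (transvs C (α ⊕ ι)).comap (sumHom C α) :=
  transvs_le_comap C _ (fun v => Sum.elim (0 : α → F) v) (fun v => by simp [herm, Fintype.sum_sum_type])
    fun g v c h x => by
      rw [app_sumHom, h]
      ext (i | i) <;> simp [herm, Fintype.sum_sum_type]

end basic

section heisenberg

variable {κ : Type*} [Fintype κ] [DecidableEq κ]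

theorem app_uniEl_vE (w : κ → F) (c : F) (hc : c + C.σ c + herm C w w = 0) :
    app C (uniEl C w c hc) (vE C κ) = vE C κ := by
  simp [app_uniEl, herm_vE_vE, herm_vE_inW]

theorem app_uniEl_vF (w : κ → F) (c : F) (hc : c + C.σ c + herm C w w = 0) :
    app C (uniEl C w c hc) (vF C κ) = vF C κ + inW w + c • vE C κ := by
  simp [app_uniEl, herm_vF_vE, herm_vF_inW, add_assoc]

omit [DecidableEq κ] in
theorem decomp (x : Fin 2 ⊕ κ → F) :
    x = herm C x (vF C κ) • vE C κ + herm C x (vE C κ) • vF C κ + inW (x ∘ Sum.inr) := by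
  have h1 := nA_spec C
  have h2 := tA_spec C
  ext (i | i)
  · fin_cases i
    · simp [herm, vE, vF, inW, Fintype.sum_sum_type, map_sub, map_neg, map_mul]
      linear_combination (x (Sum.inl 1) * C.σ (nA C) + x (Sum.inl 0)) * h2
    · simp [herm, vE, vF, inW, Fintype.sum_sum_type, map_sub, map_neg, map_mul]
      linear_combination (x (Sum.inl 1) * (tA C + C.σ (tA C))) * h1 +
        (x (Sum.inl 0) * nA C - x (Sum.inl 1)) * h2
  · simp [vE, vF, inW]

/-- An element fixing both `e` and `f` comes from the orthogonal complement. -/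
theorem exists_eq_blockHom (g : suG C (Fin 2 ⊕ κ)) (he : app C g (vE C κ) = vE C κ)
    (hf : app C g (vF C κ) = vF C κ) : ∃ g' : suG C κ, g = blockHom C κ g' := by
  set M := g.1.1.toBlocks₂₂ with hM
  have hW : ∀ w, app C g (inW w) = inW (M *ᵥ w) := by
    intro w
    have h0 : ∀ v, app C g v = v → herm C (inW w) v = 0 → herm C (app C g (inW w)) v = 0 := fun v hv hw => by
      rw [← hv, herm_app, hw]
    rw [decomp C (app C g (inW w)), h0 _ hf (herm_inW_vF C w), h0 _ he (herm_inW_vE C w), zero_smul, zero_smul,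
      zero_add, zero_add]
    congr 1
    show (g.1.1 *ᵥ inW w) ∘ Sum.inr = _
    rw [← Matrix.fromBlocks_toBlocks g.1.1, inW, Matrix.fromBlocks_mulVec]
    simp [hM]
  have hg : g.1.1 = Matrix.fromBlocks 1 0 0 M := by
    refine Matrix.ext_iff_mulVec.2 fun x => ?_
    show app C g x = _
    rw [Matrix.fromBlocks_mulVec, decomp C x, app_add, app_add, app_smul, app_smul, he, hf, hW]
    generalize herm C x (vF C κ) = a
    generalize herm C x (vE C κ) = b
    ext (i | i) <;> simp [inW, vE, vF, Function.comp_def]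
  have hdet : M.det = 1 := by
    have := g.1.2
    rw [hg, Matrix.det_fromBlocks_zero₂₁, Matrix.det_one, one_mul] at this
    exact this
  refine ⟨⟨⟨M, hdet⟩, fun u v => ?_⟩, Subtype.ext (Subtype.ext hg)⟩
  show herm C (M *ᵥ u) (M *ᵥ v) = _
  rw [← herm_inW C (M *ᵥ u), ← hW, ← hW, herm_app, herm_inW]

/-- The stabiliser of `e`. -/
theorem exists_eq_uniEl_mul (g : suG C (Fin 2 ⊕ κ)) (he : app C g (vE C κ) = vE C κ) :
    ∃ (w : κ → F) (c : F) (hc : c + C.σ c + herm C w w = 0) (g' : suG C κ),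
      g = uniEl C w c hc * blockHom C κ g' := by
  set y := app C g (vF C κ) with hy
  set w := y ∘ Sum.inr with hw
  set c := herm C y (vF C κ) with hc'
  have hye : herm C y (vE C κ) = 1 := by
    rw [hy]
    nth_rewrite 1 [← he]
    rw [herm_app, herm_vF_vE]
  have hd : y = c • vE C κ + vF C κ + inW w := by
    conv_lhs => rw [decomp C y, hye, one_smul]
  have hc : c + C.σ c + herm C w w = 0 := by
    have h0 : herm C y y = 0 := by rw [hy, herm_app, herm_vF_vF]
    rw [hd] at h0
    simp only [herm_add_left, herm_add_right, herm_smul_left, herm_smul_right, herm_vE_vE, herm_vE_vF,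
      herm_vF_vE, herm_vF_vF, herm_vE_inW, herm_vF_inW, herm_inW_vE, herm_inW_vF, herm_inW] at h0
    linear_combination h0
  have huf : app C (uniEl C w c hc) (vF C κ) = y := by
    rw [app_uniEl_vF, hd]; abel
  obtain ⟨g', hg'⟩ := exists_eq_blockHom C ((uniEl C w c hc)⁻¹ * g)
    (by rw [app_mul, he]; nth_rewrite 1 [← app_uniEl_vE C w c hc]; rw [app_inv_app])
    (by rw [app_mul, ← hy, ← huf, app_inv_app])
  exact ⟨w, c, hc, g', by rw [← hg', mul_inv_cancel_left]⟩

/-- Transvections move every isotropic vector with non-zero product with `e` to `e`. -/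
theorem exists_to_vE_of_ne [Nonempty κ] {x : Fin 2 ⊕ κ → F} (hx : herm C x x = 0)
    (hb : herm C x (vE C κ) ≠ 0) : ∃ t ∈ transvs C (Fin 2 ⊕ κ), app C t x = vE C κ := by
  set b := herm C x (vE C κ) with hb'
  obtain ⟨j⟩ := ‹Nonempty κ›
  obtain ⟨δ, hδ, hδ0⟩ := C.exists_skew_ne
  set y := b⁻¹ • x with hy'
  set w := y ∘ Sum.inr with hw
  set c := herm C y (vF C κ) with hc'
  have hd : y = c • vE C κ + vF C κ + inW w := by
    conv_lhs => rw [decomp C y]
    rw [show herm C y (vE C κ) = 1 by rw [hy', herm_smul_left, ← hb', inv_mul_cancel₀ hb], one_smul]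
  have hc : c + C.σ c + herm C w w = 0 := by
    have h0 : herm C y y = 0 := by rw [hy', herm_smul_left, herm_smul_right, hx]; simp
    rw [hd] at h0
    simp only [herm_add_left, herm_add_right, herm_smul_left, herm_smul_right, herm_vE_vE, herm_vE_vF,
      herm_vF_vE, herm_vF_vF, herm_vE_inW, herm_vF_inW, herm_inW_vE, herm_inW_vF, herm_inW] at h0
    linear_combination h0
  set u := uniEl C w c hc with hu
  have hux : app C u (b • vF C κ) = x := by
    rw [app_smul, hu, app_uniEl_vF, show vF C κ + inW w + c • vE C κ = y by rw [hd]; abel, hy',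
      smul_inv_smul₀ hb]
  obtain ⟨γ, hγ⟩ := CfsgLib.Forms.exists_mul_involution_eq C.ne_id C.invol
    (c := -(δ / C.σ b * C.σ δ + C.σ (δ / C.σ b * C.σ δ))) (by rw [map_neg, map_add, C.invol]; ring)
  set z := (δ / C.σ b) • vE C κ + δ • vF C κ + inW (Pi.single j γ) with hz
  have hzz : herm C z z = 0 := by
    have hs : herm C (Pi.single j γ) (Pi.single j γ) = γ * C.σ γ := by simp [herm, Pi.single_apply]
    simp only [hz, herm_add_left, herm_add_right, herm_smul_left, herm_smul_right, herm_vE_vE, herm_vE_vF,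
      herm_vF_vE, herm_vF_vF, herm_vE_inW, herm_vF_inW, herm_inW_vE, herm_inW_vF, herm_inW, hs, hγ, map_mul,
      map_div₀, C.invol]
    ring
  have hze : herm C z (vE C κ) = δ := by
    simp [hz, herm_add_left, herm_smul_left, herm_vE_vE, herm_vF_vE, herm_inW_vE]
  have hσb : C.σ b ≠ 0 := (map_ne_zero C.σ).mpr hb
  have hzb : herm C (b • vF C κ) z = -δ := by
    simp only [hz, herm_add_right, herm_smul_left, herm_smul_right, herm_vF_vE, herm_vF_vF, herm_vF_inW,
      map_div₀, C.invol, C.skew_eq hδ]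
    field_simp
    ring
  obtain ⟨t₁, ht₁, hxz⟩ := exists_move C (x := b • vF C κ) (y := z)
    (by simp [herm_smul_left, herm_smul_right, herm_vF_vF]) hzz (hzb ▸ neg_mem hδ) (hzb ▸ neg_ne_zero.mpr hδ0)
  obtain ⟨t₂, ht₂, hze'⟩ := exists_move C hzz (herm_vE_vE C) (hze ▸ hδ) (hze ▸ hδ0)
  refine ⟨u * (t₂ * t₁) * u⁻¹, (transvs_normal C).conj_mem _ (mul_mem ht₂ ht₁) u, ?_⟩
  rw [← hux, app_mul, app_mul, app_inv_app, app_mul, hxz, hze', hu, app_uniEl_vE]

/-- Transvections are transitive on the non-zero isotropic vectors. -/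
theorem exists_to_vE [Nonempty κ] {x : Fin 2 ⊕ κ → F} (hx : herm C x x = 0) (hx0 : x ≠ 0) :
    ∃ t ∈ transvs C (Fin 2 ⊕ κ), app C t x = vE C κ := by
  by_cases hb : herm C x (vE C κ) = 0
  swap
  · exact exists_to_vE_of_ne C hx hb
  obtain ⟨δ, hδ, hδ0⟩ := C.exists_skew_ne
  obtain ⟨v, hv, hxv, hve⟩ : ∃ v, herm C v v = 0 ∧ herm C x v ≠ 0 ∧ herm C v (vE C κ) ≠ 0 := by
    by_cases ha : herm C x (vF C κ) = 0
    · have hxw : x = inW (x ∘ Sum.inr) := by
        conv_lhs => rw [decomp C x, ha, hb, zero_smul, zero_smul, zero_add, zero_add]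
      have hw0 : x ∘ Sum.inr ≠ 0 := fun h => hx0 (by rw [hxw, h, inW_zero])
      obtain ⟨w', hw'⟩ := exists_herm_eq C hw0 1
      have hc : -(herm C w' w' * tA C) + C.σ (-(herm C w' w' * tA C)) + herm C w' w' = 0 := by
        rw [map_neg, map_mul, herm_self_fixed]
        linear_combination (-herm C w' w') * tA_spec C
      refine ⟨app C (uniEl C w' _ hc) (vF C κ), by rw [herm_app, herm_vF_vF], ?_, ?_⟩
      · rw [app_uniEl_vF, hxw]
        simp only [herm_add_right, herm_smul_right, herm_inW_vF, herm_inW_vE, herm_inW, zero_add, mul_zero,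
          add_zero]
        rw [← conj_herm C w', hw', map_one]
        exact one_ne_zero
      · nth_rewrite 1 [← app_uniEl_vE C w' _ hc]
        rw [herm_app, herm_vF_vE]
        exact one_ne_zero
    · exact ⟨vF C κ, herm_vF_vF C, ha, by rw [herm_vF_vE]; exact one_ne_zero⟩
  obtain ⟨t₂, ht₂, h₂⟩ := exists_to_vE_of_ne C (x := app C (transvEl C v δ hv hδ) x)
    (by rw [herm_app, hx])
    (by
      rw [isTransv_transvEl C v δ hv hδ x, herm_add_left, herm_smul_left, hb, zero_add]
      exact mul_ne_zero (mul_ne_zero hδ0 hxv) hve)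
  exact ⟨t₂ * transvEl C v δ hv hδ, mul_mem ht₂ (transvEl_mem C v δ hv hδ), by rw [app_mul, h₂]⟩

/-- In dimension two the orbit of `e` under `SU` is the orbit under transvections. -/
theorem exists_to_vE_two [IsEmpty κ] (g : suG C (Fin 2 ⊕ κ)) :
    ∃ t ∈ transvs C (Fin 2 ⊕ κ), app C (t * g) (vE C κ) = vE C κ := by
  obtain ⟨δ, hδ, hδ0⟩ := C.exists_skew_ne
  have hcard : Fintype.card (Fin 2 ⊕ κ) = 2 := by simp
  have h0 := herm_vE_vE C (κ := κ)
  obtain ⟨t, ht, hne⟩ : ∃ t ∈ transvs C (Fin 2 ⊕ κ), herm C (app C (t * g) (vE C κ)) (vE C κ) ≠ 0 := by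
    by_cases hb : herm C (app C g (vE C κ)) (vE C κ) = 0
    · refine ⟨_, transvEl_mem C (vF C κ) δ (herm_vF_vF C) hδ, ?_⟩
      rw [app_mul, isTransv_transvEl C _ δ (herm_vF_vF C) hδ, herm_add_left, herm_smul_left, hb, zero_add,
        herm_vF_vE, mul_one]
      refine mul_ne_zero hδ0 fun ha => ?_
      have hd := decomp C (app C g (vE C κ))
      rw [ha, hb, zero_smul, zero_smul, zero_add, zero_add] at hd
      have hz : app C g (vE C κ) = 0 := by
        rw [hd]
        ext (i | i)
        · rfl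
        · exact isEmptyElim i
      have he0 : vE C κ = 0 := by
        rw [← app_inv_app C g (vE C κ), hz]
        simp [app]
      simpa [vE] using congrFun he0 (Sum.inl 0)
    · exact ⟨1, one_mem _, by rwa [one_mul]⟩
  obtain ⟨t', ht', h'⟩ := exists_move C (x := app C (t * g) (vE C κ)) (y := vE C κ)
    (by rw [herm_app, h0]) h0 (herm_app_self_skew C hcard _ _ h0) hne
  exact ⟨t' * t, mul_mem ht' ht, by rw [mul_assoc, app_mul, h']⟩

/-- The vectors occurring in Heisenberg elements inside `transvs`. -/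
def uniVecs (κ : Type*) [Fintype κ] [DecidableEq κ] : AddSubgroup (κ → F) where
  carrier := {w | ∃ (c : F) (hc : c + C.σ c + herm C w w = 0), uniEl C w c hc ∈ transvs C (Fin 2 ⊕ κ)}
  zero_mem' := ⟨0, by simp [herm_zero_left], by rw [uniEl_zero]; exact one_mem _⟩
  add_mem' := by
    rintro w w' ⟨c, hc, h⟩ ⟨c', hc', h'⟩
    exact ⟨_, uniEl_valid_mul C hc hc', by rw [← uniEl_mul C hc hc']; exact mul_mem h h'⟩
  neg_mem' := by
    rintro w ⟨c, hc, h⟩
    have hc' : C.σ c + C.σ (C.σ c) + herm C (-w) (-w) = 0 := by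
      rw [C.invol, herm_neg_left, herm_neg_right, neg_neg]
      linear_combination hc
    refine ⟨C.σ c, hc', ?_⟩
    have : uniEl C w c hc * uniEl C (-w) (C.σ c) hc' = 1 := by
      rw [uniEl_mul, ← uniEl_zero C]
      exact uniEl_congr C _ _ (add_neg_cancel w) (by rw [herm_neg_left]; linear_combination hc)
    rw [eq_inv_of_mul_eq_one_right this]
    exact inv_mem h

theorem uniEl_mem_of_mem {w : κ → F} (hw : w ∈ uniVecs C κ) (c : F) (hc : c + C.σ c + herm C w w = 0) :
    uniEl C w c hc ∈ transvs C (Fin 2 ⊕ κ) := by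
  obtain ⟨c', hc', h⟩ := hw
  have hd : c - c' ∈ C.skew := by
    rw [C.mem_skew, map_sub]; linear_combination hc - hc'
  have : uniEl C w c hc = uniEl C w c' hc' * uniEl C 0 (c - c') (skew_valid C hd) := by
    rw [uniEl_mul]
    exact uniEl_congr C _ _ (add_zero w).symm (by rw [herm_zero_left]; ring)
  rw [this]
  exact mul_mem h ((isTransv_central C hd).mem_transvs C (herm_vE_vE C) hd)

theorem mem_uniVecs_of_isotropic {w : κ → F} (hw : herm C w w = 0) : w ∈ uniVecs C κ := by
  obtain ⟨δ, hδ, hδ0⟩ := C.exists_skew_ne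
  have ha : -δ⁻¹ ∈ C.skew := neg_mem (C.inv_mem hδ)
  have hc : -δ⁻¹ + C.σ (-δ⁻¹) + herm C w w = 0 := by rw [hw, add_zero]; exact ha
  have hv : herm C ((-δ⁻¹) • vE C κ + inW w) ((-δ⁻¹) • vE C κ + inW w) = 0 := by
    simp only [herm_add_left, herm_add_right, herm_smul_left, herm_smul_right, herm_vE_vE, herm_vE_inW,
      herm_inW_vE, herm_inW, hw, mul_zero, add_zero]
  have hw' : herm C (inW w) (inW w) = 0 := by rw [herm_inW, hw]
  refine ⟨-δ⁻¹, hc, ?_⟩
  have : transvEl C _ δ hv hδ = uniEl C w (-δ⁻¹) hc * transvEl C (inW w) δ hw' hδ := suG_ext C fun x => by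
    rw [app_mul, isTransv_transvEl, isTransv_transvEl, app_uniEl]
    simp only [herm_add_left, herm_smul_left, herm_inW_vE, herm_inW, hw, mul_zero, add_zero, herm_add_right,
      herm_smul_right, C.skew_eq ha]
    match_scalars <;> field_simp <;> ring
  rw [eq_mul_inv_of_mul_eq this.symm]
  exact mul_mem (transvEl_mem C _ δ hv hδ) (inv_mem (transvEl_mem C _ δ hw' hδ))

theorem single_mem_uniVecs [Nontrivial κ] (i : κ) (r : F) : Pi.single i r ∈ uniVecs C κ := by
  obtain ⟨j, hj⟩ := exists_ne i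
  obtain ⟨b, hb⟩ : ∃ b, C.σ b ≠ b := by
    by_contra h
    push Not at h
    exact C.ne_id (RingHom.ext h)
  have hb0 : b ≠ 0 := fun h => hb (by rw [h, map_zero])
  have hσb : C.σ b ≠ 0 := (map_ne_zero C.σ).mpr hb0
  have hne : nA C - nA C * (C.σ b / b) ≠ 0 := by
    intro h
    have hn : nA C ≠ 0 := fun h0 => by simpa [h0] using nA_spec C
    rw [sub_eq_zero] at h
    have h1 := mul_left_cancel₀ hn ((mul_one (nA C)).trans h)
    exact hb ((div_eq_one_iff_eq hb0).mp h1.symm)
  set s := r / (nA C - nA C * (C.σ b / b)) with hs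
  have hiso : ∀ a : F, a * C.σ a = -1 → Pi.single i (a * s) + Pi.single j s ∈ uniVecs C κ := by
    intro a ha
    apply mem_uniVecs_of_isotropic
    simp only [herm, Pi.add_apply, map_add, add_mul, mul_add, Finset.sum_add_distrib]
    simp [Pi.single_apply, hj, hj.symm]
    linear_combination (s * C.σ s) * ha
  have h := sub_mem (hiso _ (nA_spec C)) (hiso (nA C * (C.σ b / b)) (by
    rw [map_mul, map_div₀, C.invol]
    field_simp
    exact nA_spec C))
  have he : Pi.single i r = (Pi.single i (nA C * s) + Pi.single j s : κ → F) -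
      (Pi.single i (nA C * (C.σ b / b) * s) + Pi.single j s) := by
    rw [add_sub_add_right_eq_sub, ← Pi.single_sub, ← sub_mul, hs, mul_div_cancel₀ r hne]
  rw [he]
  exact h

omit [DecidableEq κ] in
theorem exists_pow_ne (hq : 3 ≤ C.q) : ∃ a : Fˣ, C.σ a * C.σ a ≠ (a : F) := by
  obtain ⟨g, hg⟩ := IsCyclic.exists_generator (α := Fˣ)
  refine ⟨g, fun h => ?_⟩
  have h1 : g ^ (2 * C.q - 1) = 1 := by
    apply Units.ext
    apply mul_right_cancel₀ g.ne_zero
    rw [Units.val_pow_eq_pow_val, ← pow_succ, Units.val_one, one_mul, show 2 * C.q - 1 + 1 = C.q + C.q by omega,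
      pow_add, ← C.pow, h]
  have h2 := orderOf_dvd_of_pow_eq_one h1
  rw [orderOf_eq_card_of_forall_mem_zpowers hg, Nat.card_units, Nat.card_eq_fintype_card, C.card] at h2
  have h3 := Nat.le_of_dvd (by omega) h2
  have : 3 * C.q ≤ C.q ^ 2 := by nlinarith
  omega

theorem single_mem_uniVecs_one [Subsingleton κ] (hq : 3 ≤ C.q) (i : κ) (r : F) :
    Pi.single i r ∈ uniVecs C κ := by
  have : Nonempty κ := ⟨i⟩
  obtain ⟨a, ha⟩ := exists_pow_ne C hq
  set lam := C.σ a * C.σ a / a - 1 with hlam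
  have hlam0 : lam ≠ 0 := by
    rw [hlam, sub_ne_zero, ne_eq, div_eq_one_iff_eq a.ne_zero]; exact ha
  obtain ⟨t, ht, htx⟩ := exists_to_vE C (x := (a : F) • vE C κ)
    (by simp [herm_smul_left, herm_smul_right, herm_vE_vE])
    (fun h => a.ne_zero (by simpa [vE] using congrFun h (Sum.inl 0)))
  -- an element of `transvs` multiplying `e` by `a`
  have hta : app C t⁻¹ (vE C κ) = (a : F) • vE C κ :=
    (congrArg (app C t⁻¹) htx).symm.trans (app_inv_app C _ _)
  obtain ⟨w₁, c₁, hc₁, g', hg'⟩ := exists_eq_uniEl_mul C ((torEl C i a)⁻¹ * t⁻¹)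
    (by rw [app_mul, hta, ← app_torEl_vE C i a, app_inv_app])
  rw [eq_one_of_subsingleton C g', map_one, mul_one, inv_mul_eq_iff_eq_mul] at hg'
  set T := torEl C i a with hT
  set w := (Pi.single i (r / lam) : κ → F) with hw
  set c := -(herm C w w * tA C) with hcd
  have hc : c + C.σ c + herm C w w = 0 := by
    rw [hcd, map_neg, map_mul, herm_self_fixed]
    linear_combination (-herm C w w) * tA_spec C
  set c₃ := c - herm C w w₁ + herm C w₁ w with hc₃d
  have hc₃ : c₃ + C.σ c₃ + herm C w w = 0 := by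
    rw [hc₃d, map_add, map_sub, conj_herm, conj_herm]
    linear_combination hc
  have hconj : uniEl C w₁ c₁ hc₁ * uniEl C w c hc = uniEl C w c₃ hc₃ * uniEl C w₁ c₁ hc₁ := by
    rw [uniEl_mul, uniEl_mul]
    exact uniEl_congr C _ _ (add_comm _ _) (by rw [hc₃d]; ring)
  set mu := C.σ a * C.σ a / a with hmu
  have hT' : app C T (inW w) = inW ((C.σ a / a) • w) := by
    show torMat C i a *ᵥ _ = _
    rw [torMat_mulVec, herm_inW_vF, herm_inW_vE, herm_inW,
      show herm C w (Pi.single i 1) = r / lam by simp [hw, herm, Pi.single_apply]]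
    simp only [mul_zero, zero_smul, add_zero]
    rw [← inW_smul, ← inW_add, hw]
    congr 1
    ext k
    simp [Subsingleton.elim k i]
    ring
  have hmw : mu • w = C.σ a • ((C.σ a / a) • w) := by
    rw [smul_smul, hmu]; ring_nf
  have hTc : (a : F) * C.σ a * c₃ + C.σ ((a : F) * C.σ a * c₃) + herm C (mu • w) (mu • w) = 0 := by
    have hσa : C.σ (a : F) ≠ 0 := (map_ne_zero C.σ).mpr a.ne_zero
    have hn : mu * C.σ mu = (a : F) * C.σ a := by
      rw [hmu, map_div₀, map_mul, C.invol]
      field_simp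
    rw [herm_smul_left, herm_smul_right, ← mul_assoc, hn, map_mul, map_mul, C.invol]
    linear_combination ((a : F) * C.σ a) * hc₃
  have hTe : app C T (vE C κ) = (a : F) • vE C κ := app_torEl_vE C i a
  have hTconj : T * uniEl C w c₃ hc₃ * T⁻¹ = uniEl C (mu • w) ((a : F) * C.σ a * c₃) hTc := suG_ext C fun x => by
    rw [app_mul, app_mul, app_uniEl, app_uniEl, herm_app_left, herm_app_left, hTe, hT', hmw]
    simp only [app_add, app_smul, sub_eq_add_neg, herm_smul_right, inW_smul]
    rw [← neg_smul, app_smul, app_app_inv, hTe, hT', inW_smul, ← neg_smul]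
    simp only [herm_smul_right, map_div₀, C.invol]
    match_scalars <;> field_simp
  have hmem : t⁻¹ * uniEl C w c hc * t * (uniEl C w c hc)⁻¹ ∈ transvs C (Fin 2 ⊕ κ) := by
    rw [show t⁻¹ * uniEl C w c hc * t * (uniEl C w c hc)⁻¹ =
      t⁻¹ * (uniEl C w c hc * t * (uniEl C w c hc)⁻¹) by group]
    exact mul_mem (inv_mem ht) ((transvs_normal C).conj_mem _ ht _)
  have heq : t⁻¹ * uniEl C w c hc * t = uniEl C (mu • w) ((a : F) * C.σ a * c₃) hTc := by
    rw [← hTconj, ← inv_inv t, hg', inv_inv, _root_.mul_inv_rev,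
      show T * uniEl C w₁ c₁ hc₁ * uniEl C w c hc * ((uniEl C w₁ c₁ hc₁)⁻¹ * T⁻¹) =
        T * (uniEl C w₁ c₁ hc₁ * uniEl C w c hc) * ((uniEl C w₁ c₁ hc₁)⁻¹ * T⁻¹) by group, hconj]
    group
  have hr : Pi.single i r = mu • w + -w := by
    rw [← sub_eq_add_neg, hw, ← Pi.single_smul, ← Pi.single_sub, smul_eq_mul]
    congr 1
    rw [show mu * (r / lam) - r / lam = lam * (r / lam) by rw [hlam]; ring, mul_div_cancel₀ r hlam0]
  have hcn : C.σ c + C.σ (C.σ c) + herm C (-w) (-w) = 0 := by
    rw [C.invol, herm_neg_left, herm_neg_right, neg_neg]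
    linear_combination hc
  have hinv : (uniEl C w c hc)⁻¹ = uniEl C (-w) (C.σ c) hcn := by
    refine inv_eq_of_mul_eq_one_right ?_
    rw [uniEl_mul, ← uniEl_zero C]
    exact uniEl_congr C _ _ (add_neg_cancel w) (by rw [herm_neg_left]; linear_combination hc)
  rw [heq, hinv, uniEl_mul] at hmem
  rw [hr]
  exact ⟨_, _, hmem⟩

theorem uniEl_mem (h : Nontrivial κ ∨ 3 ≤ C.q) (w : κ → F) (c : F) (hc : c + C.σ c + herm C w w = 0) :
    uniEl C w c hc ∈ transvs C (Fin 2 ⊕ κ) := by
  refine uniEl_mem_of_mem C ?_ c hc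
  rw [← Finset.univ_sum_single w]
  refine sum_mem fun i _ => ?_
  rcases subsingleton_or_nontrivial κ with hκ | hκ
  · exact single_mem_uniVecs_one C (h.resolve_left (not_nontrivial κ)) i _
  · exact single_mem_uniVecs C i _

end heisenberg

/-- The transvections generate `SU` except for `SU_3(2)`. -/
theorem transvs_fin_eq_top (n : ℕ) (h : ¬ (n = 3 ∧ C.q = 2)) : transvs C (Fin n) = ⊤ := by
  induction n using Nat.strong_induction_on with
  | _ n ih =>
  rcases Nat.lt_or_ge n 2 with hn | hn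
  · have : Subsingleton (Fin n) := Fin.subsingleton_iff_le_one.mpr (by omega)
    rw [eq_top_iff]
    intro g _
    rw [eq_one_of_subsingleton C g]
    exact one_mem _
  obtain ⟨m, rfl⟩ : ∃ m, n = 2 + m := ⟨n - 2, by omega⟩
  refine transvs_top_of_equiv C finSumFinEquiv ?_
  rw [eq_top_iff]
  intro g _
  obtain ⟨t, ht, hte⟩ : ∃ t ∈ transvs C (Fin 2 ⊕ Fin m), app C (t * g) (vE C (Fin m)) = vE C (Fin m) := by
    rcases Nat.eq_zero_or_pos m with rfl | hm
    · exact exists_to_vE_two C g
    · have : Nonempty (Fin m) := ⟨⟨0, hm⟩⟩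
      obtain ⟨t, ht, h⟩ := exists_to_vE C (x := app C g (vE C (Fin m))) (by rw [herm_app, herm_vE_vE])
        (fun h0 => by
          have he0 : vE C (Fin m) = 0 := by
            rw [← app_inv_app C g (vE C _), h0]
            simp [app]
          simpa [vE] using congrFun he0 (Sum.inl 0))
      exact ⟨t, ht, by rw [app_mul, h]⟩
  obtain ⟨w, c, hc, g', hg'⟩ := exists_eq_uniEl_mul C (t * g) hte
  have hu : uniEl C w c hc ∈ transvs C (Fin 2 ⊕ Fin m) := by
    rcases Nat.eq_zero_or_pos m with rfl | hm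
    · refine uniEl_mem_of_mem C ?_ c hc
      rw [Subsingleton.elim w 0]
      exact zero_mem _
    · refine uniEl_mem C ?_ w c hc
      rcases Nat.lt_or_ge m 2 with h1 | h2
      · refine Or.inr ?_
        by_contra hq
        exact h ⟨by omega, by have := C.two_le; omega⟩
      · exact Or.inl (Fin.nontrivial_iff_two_le.mpr h2)
  have hb : blockHom C (Fin m) g' ∈ transvs C (Fin 2 ⊕ Fin m) := by
    rcases Nat.lt_or_ge m 3 with hm | hm
    · exact transvs_le_comap C (blockHom C (Fin m)) inW (fun v => herm_inW C v v)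
        (fun _ _ _ hx => hx.blockHom C) (ih m (by omega) (by omega) ▸ Subgroup.mem_top g')
    · have htop : transvs C (Fin 1 ⊕ Fin m) = ⊤ :=
        transvs_top_of_equiv C finSumFinEquiv.symm (ih (1 + m) (by omega) (by omega))
      let e : Fin 1 ⊕ (Fin 1 ⊕ Fin m) ≃ Fin 2 ⊕ Fin m :=
        (Equiv.sumAssoc _ _ _).symm.trans (Equiv.sumCongr finSumFinEquiv (Equiv.refl _))
      have heq : blockHom C (Fin m) g' = reindexHom C e (sumHom C (Fin 1) (sumHom C (Fin 1) g')) :=
        suG_ext C fun x => by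
          rw [app_blockHom, app_reindexHom, app_sumHom, app_sumHom]
          ext (i | i)
          · fin_cases i <;> rfl
          · rfl
      rw [heq]
      exact transvs_le_comap C (reindexHom C e) (fun v => v ∘ e.symm)
        (fun v => Equiv.sum_comp e.symm fun i => v i * C.σ (v i)) (fun g v c hg => hg.reindexHom C e)
        (transvs_le_comap_sumHom C (Fin 1) (htop ▸ Subgroup.mem_top (sumHom C (Fin 1) g')))
  have : g = t⁻¹ * (uniEl C w c hc * blockHom C (Fin m) g') := by rw [← hg', inv_mul_cancel_left]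
  rw [this]
  exact mul_mem (inv_mem ht) (mul_mem hu hb)

theorem transvs_eq_top {ι : Type*} [Fintype ι] [DecidableEq ι] (h : ¬ (Fintype.card ι = 3 ∧ C.q = 2)) :
    transvs C ι = ⊤ :=
  transvs_top_of_equiv C (Fintype.equivFin ι).symm (transvs_fin_eq_top C _ h)

section conjugacy

variable {κ : Type*} [Fintype κ] [DecidableEq κ] [Nonempty κ]

/-- Every non-zero transvection is conjugate to a central Heisenberg element. -/
theorem exists_conj_central {g : suG C (Fin 2 ⊕ κ)} {v : Fin 2 ⊕ κ → F} {c : F} (h : IsTransv C g v c)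
    (hv : herm C v v = 0) (hv0 : v ≠ 0) (hc : c ∈ C.skew) :
    ∃ k, k * g * k⁻¹ = uniEl C (0 : κ → F) c (skew_valid C hc) := by
  obtain ⟨t, -, ht⟩ := exists_to_vE C hv hv0
  exact ⟨t, (ht ▸ h.conj C t).unique C (isTransv_central C hc)⟩

theorem uniEl_central_mem_commutatorSet {d : F} (hd : d ∈ C.skew) :
    uniEl C (0 : κ → F) d (skew_valid C hd) ∈ commutatorSet (suG C (Fin 2 ⊕ κ)) := by
  obtain ⟨i⟩ := ‹Nonempty κ›
  obtain ⟨s, hs⟩ := C.exists_sub_eq hd
  set w := (Pi.single i 1 : κ → F) with hw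
  set w' := (Pi.single i (C.σ s) : κ → F) with hw'
  have hv : ∀ u : κ → F, -(herm C u u * tA C) + C.σ (-(herm C u u * tA C)) + herm C u u = 0 := fun u => by
    rw [map_neg, map_mul, herm_self_fixed]
    linear_combination (-herm C u u) * tA_spec C
  refine ⟨uniEl C w _ (hv w), uniEl C w' _ (hv w'), ?_⟩
  rw [commutatorElement_def, mul_inv_eq_iff_eq_mul, mul_inv_eq_iff_eq_mul, uniEl_mul, uniEl_mul, uniEl_mul]
  refine uniEl_congr C _ _ (by rw [zero_add, add_comm]) ?_
  have h1 : herm C w w' = s := by simp [hw, hw', herm, Pi.single_apply, C.invol]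
  have h2 : herm C w' w = C.σ s := by simp [hw, hw', herm, Pi.single_apply]
  simp only [zero_add, herm_zero_right, h1, h2, ← hs]
  ring

end conjugacy

section standard

variable (n : ℕ)

theorem hermForm_eq : Cfsg.hermForm n F C.q = herm C := by
  funext u v
  simp [Cfsg.hermForm, herm, C.pow]

theorem suG_fin_eq : suG C (Fin n) = Cfsg.SU n F C.q := by
  ext g
  show (∀ u v, herm C (g.1 *ᵥ u) (g.1 *ᵥ v) = herm C u v) ↔
    ∀ u v, Cfsg.hermForm n F C.q _ _ = Cfsg.hermForm n F C.q u v
  rw [hermForm_eq]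
  exact Iff.rfl

theorem unitaryTransvection_mulVec (v : Fin n → F) (c : F) (x : Fin n → F) :
    Cfsg.unitaryTransvection n C.q v c *ᵥ x = x + (c * herm C x v) • v := by
  rw [Cfsg.unitaryTransvection, Matrix.add_mulVec, Matrix.one_mulVec, Matrix.smul_mulVec,
    Matrix.vecMulVec_mulVec, op_smul_eq_smul, smul_smul]
  congr 3
  simp [dotProduct, herm, C.pow, mul_comm]

/-- A transvection that is an isometry has skew coefficient. -/
theorem skew_of_isometry {ι : Type*} [Fintype ι] [DecidableEq ι] {v : ι → F} (hv : v ≠ 0)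
    (hv0 : herm C v v = 0) {c : F}
    (h : ∀ x y, herm C (x + (c * herm C x v) • v) (y + (c * herm C y v) • v) = herm C x y) : c ∈ C.skew := by
  obtain ⟨x, hx⟩ := exists_herm_eq C hv 1
  have h1 := h x x
  simp only [herm_add_left, herm_add_right, herm_smul_left, herm_smul_right, hv0, hx, ← conj_herm C x v,
    map_one, mul_one] at h1
  rw [C.mem_skew]
  linear_combination h1

end standard

end CfsgLib.RepBounds.Unit
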