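import Cfsg.Agent.Forms.OrthDet
import Cfsg.Agent.Spinor.StdForms
import Cfsg.Prelude.Def_ClassicalGeometry

/-!
# Small orthogonal groups as symmetric groups

Main results: `isometryGroupCongr`, `det_isometryGroupCongr`, `specialCongr`,
`nonempty_equiv_perm_of_swaps`, `so_three_three`, `o_minus_four_two`, `o_plus_six_two`.
-/

namespace CfsgLib.Forms

set_option synthInstance.maxSize 2000
set_option maxHeartbeats 800000

open Matrix CfsgLib.Spinor CfsgLib.StdForms

variable {ι : Type} [Fintype ι] [DecidableEq ι] {K F : Type*} [Field K] [Field F]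

/-- The matrix map of a ring isomorphism, on `GL`. -/
noncomputable def glCongr (e : K ≃+* F) : GL ι K ≃* GL ι F :=
  Units.mapEquiv (e.mapMatrix (m := ι)).toMulEquiv

theorem glCongr_coe (e : K ≃+* F) (g : GL ι K) :
    (glCongr e g : Matrix ι ι F) = (g : Matrix ι ι K).map e := rfl

/-- Transport of an isometry group along a field isomorphism. -/
noncomputable def isometryGroupCongr (e : K ≃+* F) (Q : (ι → K) → K) (Q' : (ι → F) → F)
    (h : ∀ v, Q' (fun i => e (v i)) = e (Q v)) :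
    ↥(Cfsg.isometryGroup K Q) ≃* ↥(Cfsg.isometryGroup F Q') :=
  ((glCongr e).subgroupMap _).trans (MulEquiv.subgroupCongr (by
    have hmv : ∀ (g : Matrix ι ι K) (v : ι → K),
        g.map e *ᵥ (fun i => e (v i)) = fun i => e ((g *ᵥ v) i) := fun g v => by
      funext i
      simp [mulVec, dotProduct, map_sum]
    have hsurj : ∀ w : ι → F, ∃ v : ι → K, w = fun i => e (v i) := fun w =>
      ⟨fun i => e.symm (w i), by simp⟩
    ext g
    constructor
    · rintro ⟨g, hg, rfl⟩ u v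
      obtain ⟨u, rfl⟩ := hsurj u
      show Q' ((glCongr e g : Matrix ι ι F) *ᵥ fun i => e (u i)) = Q' fun i => e (u i)
      rw [glCongr_coe, hmv, h, h]
      exact congrArg e (hg u u)
    · intro hg
      refine ⟨(glCongr e).symm g, fun u v => ?_, (glCongr e).apply_symm_apply g⟩
      show Q (((glCongr e).symm g : Matrix ι ι K) *ᵥ u) = Q u
      apply e.injective
      rw [← h, ← h, ← hmv, ← glCongr_coe e, (glCongr e).apply_symm_apply]
      exact hg _ (fun i => e (u i))))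

theorem isometryGroupCongr_coe (e : K ≃+* F) (Q : (ι → K) → K) (Q' : (ι → F) → F)
    (h : ∀ v, Q' (fun i => e (v i)) = e (Q v)) (g : ↥(Cfsg.isometryGroup K Q)) :
    ((isometryGroupCongr e Q Q' h g : GL ι F) : Matrix ι ι F) =
      ((g : GL ι K) : Matrix ι ι K).map e := rfl

/-- Transport of the special isometry group. -/
noncomputable def specialCongr (e : K ≃+* F) (Q : (ι → K) → K) (Q' : (ι → F) → F)
    (h : ∀ v, Q' (fun i => e (v i)) = e (Q v)) :
    ↥(Cfsg.specialIsometryGroup K Q) ≃* ↥(Cfsg.specialIsometryGroup F Q') :=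
  ((isometryGroupCongr e Q Q' h).subgroupMap _).trans (MulEquiv.subgroupCongr (by
    have hdet : ∀ g, ((isometryGroupCongr e Q Q' h g : GL ι F) : Matrix ι ι F).det =
        e ((g : GL ι K) : Matrix ι ι K).det := fun g => by
      rw [isometryGroupCongr_coe, RingEquiv.map_det, RingEquiv.mapMatrix_apply]
    ext g
    obtain ⟨g, rfl⟩ := (isometryGroupCongr e Q Q' h).surjective g
    have hmem : ∀ g, g ∈ Cfsg.specialIsometryGroup K Q ↔
        isometryGroupCongr e Q Q' h g ∈ Cfsg.specialIsometryGroup F Q' := fun g => by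
      simp only [Cfsg.specialIsometryGroup, MonoidHom.mem_ker, Units.ext_iff, MonoidHom.comp_apply,
        Subgroup.coe_subtype, GeneralLinearGroup.val_det_apply, Units.val_one, hdet,
        map_eq_one_iff e e.injective]
    constructor
    · rintro ⟨g', hg', he⟩
      rw [← (isometryGroupCongr e Q Q' h).injective he, ← hmem]
      exact hg'
    · exact fun hg => ⟨g, (hmem g).2 hg, rfl⟩))

/-- An injective map to a symmetric group reaching all adjacent transpositions is bijective. -/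
theorem nonempty_equiv_perm_of_swaps {G : Type*} [Group G] {n : ℕ}
    (φ : G →* Equiv.Perm (Fin (n + 1))) (hinj : Function.Injective φ)
    (hs : ∀ i : Fin n, ∃ g, φ g = Equiv.swap i.castSucc i.succ) :
    Nonempty (G ≃* Equiv.Perm (Fin (n + 1))) := by
  refine ⟨MulEquiv.ofBijective φ ⟨hinj, fun p => ?_⟩⟩
  have hle : Submonoid.closure (Set.range fun i : Fin n => Equiv.swap i.castSucc i.succ) ≤
      MonoidHom.mrange φ := by
    rw [Submonoid.closure_le]
    rintro _ ⟨i, rfl⟩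
    exact hs i
  rw [Equiv.Perm.mclosure_swap_castSucc_succ] at hle
  exact hle (Submonoid.mem_top p)

/-- The four singular points of the conic over the field with three elements. -/
def conicPt : Fin 4 → Unit ⊕ (Fin 1 ⊕ Fin 1) → ZMod 3 :=
  ![Sum.elim (fun _ => 0) (Sum.elim (fun _ => 1) fun _ => 0),
    Sum.elim (fun _ => 0) (Sum.elim (fun _ => 0) fun _ => 1),
    Sum.elim (fun _ => 1) (Sum.elim (fun _ => 1) fun _ => -1),
    Sum.elim (fun _ => 1) (Sum.elim (fun _ => -1) fun _ => 1)]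

/-- The polar form of the conic. -/
def conicPolar (u v : Unit ⊕ (Fin 1 ⊕ Fin 1) → ZMod 3) : ZMod 3 :=
  2 * (u (.inl ()) * v (.inl ())) +
    (u (.inr (.inl 0)) * v (.inr (.inr 0)) + v (.inr (.inl 0)) * u (.inr (.inr 0)))

/-- `SO₃(3) ≅ S₄`. -/
theorem so_three_three : Nonempty
    (↥(Cfsg.specialIsometryGroup (ZMod 3) (Cfsg.quadFormOdd 1 (ZMod 3))) ≃* Equiv.Perm (Fin 4)) := by
  rw [← coe_oddQ 1]
  obtain ⟨G, hG⟩ : ∃ G, G = Cfsg.specialIsometryGroup (ZMod 3) ⇑(oddQ 1 (ZMod 3)) := ⟨_, rfl⟩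
  rw [← hG]
  have hQP : ∀ i, oddQ 1 (ZMod 3) (conicPt i) = 0 := fun i => by
    rw [oddQ_apply]; revert i; decide +kernel
  have hP0 : ∀ i, conicPt i ≠ 0 := by decide +kernel
  have hclass' : ∀ x y z : ZMod 3,
      z ^ 2 + x * y = 0 → (x ≠ 0 ∨ y ≠ 0 ∨ z ≠ 0) →
      ∃ j, Sum.elim (fun _ : Unit => z) (Sum.elim (fun _ : Fin 1 => x) fun _ : Fin 1 => y) =
          conicPt j ∨
        Sum.elim (fun _ : Unit => z) (Sum.elim (fun _ : Fin 1 => x) fun _ : Fin 1 => y) =
          -conicPt j := by decide +kernel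
  have hclass : ∀ v : Unit ⊕ (Fin 1 ⊕ Fin 1) → ZMod 3, oddQ 1 (ZMod 3) v = 0 → v ≠ 0 →
      ∃ j, v = conicPt j ∨ v = -conicPt j := by
    intro v hv hv0
    have e : v = Sum.elim (fun _ : Unit => v (.inl ())) (Sum.elim (fun _ : Fin 1 => v (.inr (.inl 0)))
        fun _ : Fin 1 => v (.inr (.inr 0))) := by
      funext i
      rcases i with i | i | i
      · rfl
      all_goals rw [Subsingleton.elim i 0]; rfl
    rw [oddQ_apply, Cfsg.quadFormOdd, Fin.sum_univ_one] at hv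
    obtain ⟨j, hj⟩ := hclass' (v (.inr (.inl 0))) (v (.inr (.inr 0))) (v (.inl ())) hv (by
      by_contra hh
      push Not at hh
      refine hv0 (funext fun i => ?_)
      rcases i with i | i | i
      · exact hh.2.2
      · rw [Subsingleton.elim i 0]; exact hh.1
      · rw [Subsingleton.elim i 0]; exact hh.2.1)
    rw [← e] at hj
    exact ⟨j, hj⟩
  have huniq : ∀ i j, (conicPt i = conicPt j ∨ conicPt i = -conicPt j) → i = j := by decide +kernel
  have hperm : ∀ (g : G) (i : Fin 4), ∃ j, mat (oddQ 1 (ZMod 3)) g.1 *ᵥ conicPt i = conicPt j ∨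
      mat (oddQ 1 (ZMod 3)) g.1 *ᵥ conicPt i = -conicPt j := by
    intro g i
    refine hclass _ (by rw [quad_mulVec, hQP]) fun h0 => hP0 i ?_
    have := congrArg (mat (oddQ 1 (ZMod 3)) (g⁻¹).1 *ᵥ ·) h0
    simpa [mulVec_mulVec, ← mat_mul, mat_one] using this
  choose f hf using hperm
  have hdet1 : ∀ g : G, f g = f g := fun g => rfl
  have hone : ∀ i, f 1 i = i := fun i => by
    rcases hf 1 i with h | h <;> simp only [Subgroup.coe_one, mat_one, one_mulVec] at h
    · exact (huniq _ _ (Or.inl h)).symm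
    · exact (huniq _ _ (Or.inr h)).symm
  have hmul : ∀ g k i, f (g * k) i = f g (f k i) := by
    intro g k i
    have h1 := hf (g * k) i
    rw [Subgroup.coe_mul, mat_mul, ← mulVec_mulVec] at h1
    rcases hf k i with h2 | h2 <;> rcases hf g (f k i) with h3 | h3 <;>
      simp only [h2, mulVec_neg, h3, neg_neg] at h1 <;>
      rcases h1 with h1 | h1 <;>
      first
        | exact (huniq _ _ (Or.inl h1)).symm
        | exact (huniq _ _ (Or.inr h1)).symm
        | exact (huniq _ _ (Or.inr (neg_eq_iff_eq_neg.1 h1))).symm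
        | exact (huniq _ _ (Or.inl (neg_inj.1 h1))).symm
  obtain ⟨φ, hφ⟩ : ∃ φ : G →* Equiv.Perm (Fin 4), ∀ g i, φ g i = f g i :=
    ⟨MonoidHom.mk' (fun g => ⟨f g, f g⁻¹, fun i => by rw [← hmul, inv_mul_cancel, hone],
      fun i => by rw [← hmul, mul_inv_cancel, hone]⟩) fun a b => Equiv.ext (hmul a b), fun g i => rfl⟩
  refine nonempty_equiv_perm_of_swaps (n := 3) φ ?_ ?_
  · rw [injective_iff_map_eq_one]
    intro g hg
    have hε : ∀ i, ∃ ε : ZMod 3, (ε = 1 ∨ ε = -1) ∧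
        mat (oddQ 1 (ZMod 3)) g.1 *ᵥ conicPt i = ε • conicPt i := by
      intro i
      have hi : f g i = i := by rw [← hφ, hg]; rfl
      rcases hf g i with h | h <;> rw [hi] at h
      · exact ⟨1, Or.inl rfl, by rw [h, one_smul]⟩
      · exact ⟨-1, Or.inr rfl, by rw [h, neg_one_smul]⟩
    choose ε hε1 hε2 using hε
    have hpne : ∀ j : Fin 4, j ≠ 0 → conicPolar (conicPt 0) (conicPt j) ≠ 0 := by decide +kernel
    have heq : ∀ j, ε j = ε 0 := by
      intro j
      by_cases hj : j = 0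
      · rw [hj]
      have h := polar_mulVec (oddQ 1 (ZMod 3)) g.1 (conicPt 0) (conicPt j)
      rw [hε2, hε2, QuadraticMap.polar_smul_left, QuadraticMap.polar_smul_right] at h
      have hne : QuadraticMap.polar (⇑(oddQ 1 (ZMod 3))) (conicPt 0) (conicPt j) ≠ 0 := by
        rw [polar_odd, Fin.sum_univ_one]
        exact hpne j hj
      simp only [smul_eq_mul, ← mul_assoc] at h
      have h1 := (mul_left_eq_self₀.1 h).resolve_right hne
      rcases hε1 0 with a | a <;> rcases hε1 j with b | b <;> rw [a, b] at h1 ⊢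
      all_goals first | rfl | exact absurd h1 (by decide)
    have hscal : mat (oddQ 1 (ZMod 3)) g.1 = ε 0 • 1 := by
      refine Matrix.ext_iff_mulVec.2 fun v => ?_
      have hspan : ∀ x y z : ZMod 3,
          Sum.elim (fun _ : Unit => z) (Sum.elim (fun _ : Fin 1 => x) fun _ : Fin 1 => y) =
            x • conicPt 0 + y • conicPt 1 + (-z) • (conicPt 2 + conicPt 3) := by decide +kernel
      have e : v = Sum.elim (fun _ : Unit => v (.inl ())) (Sum.elim (fun _ : Fin 1 => v (.inr (.inl 0)))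
          fun _ : Fin 1 => v (.inr (.inr 0))) := by
        funext i
        rcases i with i | i | i
        · rfl
        all_goals rw [Subsingleton.elim i 0]; rfl
      rw [smul_mulVec, one_mulVec, e, hspan]
      simp only [mulVec_add, mulVec_smul, hε2, heq 1, heq 2, heq 3, smul_add]
      module
    have hd : (mat (oddQ 1 (ZMod 3)) g.1).det = 1 := by
      have h := g.2
      simp only [hG] at h
      exact (mem_special_iff _).1 h
    rw [hscal, det_smul, det_one, mul_one] at hd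
    rcases hε1 0 with a | a
    · refine Subtype.ext (mat_ext _ ?_)
      rw [hscal, a, one_smul]
      rfl
    · rw [a] at hd
      exact absurd hd (by decide +kernel)
  · intro i
    obtain ⟨T, hT⟩ : ∃ T : ZMod 3 → ZMod 3 → ZMod 3 → Fin 4 → (Unit ⊕ (Fin 1 ⊕ Fin 1) → ZMod 3),
        ∀ x y z j, T x y z j = -(conicPt j - ((z ^ 2 + x * y) * conicPolar (Sum.elim
          (fun _ : Unit => z) (Sum.elim (fun _ : Fin 1 => x) fun _ : Fin 1 => y)) (conicPt j)) •
          Sum.elim (fun _ : Unit => z) (Sum.elim (fun _ : Fin 1 => x) fun _ : Fin 1 => y)) :=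
      ⟨_, fun _ _ _ _ => rfl⟩
    have hv0' : ∀ i : Fin 3, ∃ x y z : ZMod 3, z ^ 2 + x * y ≠ 0 ∧ ∀ j : Fin 4,
        (-(conicPt j - ((z ^ 2 + x * y) * conicPolar (Sum.elim
          (fun _ : Unit => z) (Sum.elim (fun _ : Fin 1 => x) fun _ : Fin 1 => y)) (conicPt j)) •
          Sum.elim (fun _ : Unit => z) (Sum.elim (fun _ : Fin 1 => x) fun _ : Fin 1 => y)) =
            conicPt (Equiv.swap i.castSucc i.succ j)) ∨
        (-(conicPt j - ((z ^ 2 + x * y) * conicPolar (Sum.elim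
          (fun _ : Unit => z) (Sum.elim (fun _ : Fin 1 => x) fun _ : Fin 1 => y)) (conicPt j)) •
          Sum.elim (fun _ : Unit => z) (Sum.elim (fun _ : Fin 1 => x) fun _ : Fin 1 => y)) =
            -conicPt (Equiv.swap i.castSucc i.succ j)) := by decide +kernel
    obtain ⟨x, y, z, hne, hsw⟩ := hv0' i
    obtain ⟨v, hvdef⟩ : ∃ v, v = Sum.elim (fun _ : Unit => z)
        (Sum.elim (fun _ : Fin 1 => x) fun _ : Fin 1 => y) := ⟨_, rfl⟩
    have hQv : oddQ 1 (ZMod 3) v = z ^ 2 + x * y := by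
      rw [oddQ_apply, Cfsg.quadFormOdd, Fin.sum_univ_one, hvdef]; rfl
    have hv0 : oddQ 1 (ZMod 3) v ≠ 0 := by rw [hQv]; exact hne
    obtain ⟨k, hk⟩ : ∃ k : GL (Unit ⊕ (Fin 1 ⊕ Fin 1)) (ZMod 3),
        (k : Matrix (Unit ⊕ (Fin 1 ⊕ Fin 1)) (Unit ⊕ (Fin 1 ⊕ Fin 1)) (ZMod 3)) =
          -Cfsg.reflectionMatrix (⇑(oddQ 1 (ZMod 3))) v :=
      ⟨-(reflIso _ v hv0).1, rfl⟩
    have hkmem : k ∈ Cfsg.isometryGroup (ZMod 3) ⇑(oddQ 1 (ZMod 3)) := fun u _ => by
      show oddQ 1 (ZMod 3) ((k : Matrix (Unit ⊕ (Fin 1 ⊕ Fin 1)) (Unit ⊕ (Fin 1 ⊕ Fin 1)) (ZMod 3)) *ᵥ u) = oddQ 1 (ZMod 3) u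
      rw [hk, neg_mulVec, QuadraticMap.map_neg, reflectionMatrix_mulVec, quad_refl _ hv0]
    have hkG : (⟨k, hkmem⟩ : ↥(Cfsg.isometryGroup (ZMod 3) ⇑(oddQ 1 (ZMod 3)))) ∈ G := by
      rw [hG, mem_special_iff]
      show (k : Matrix (Unit ⊕ (Fin 1 ⊕ Fin 1)) (Unit ⊕ (Fin 1 ⊕ Fin 1)) (ZMod 3)).det = 1
      rw [hk, det_neg, det_reflectionMatrix hv0]
      simp
    refine ⟨⟨_, hkG⟩, Equiv.ext fun j => ?_⟩
    rw [hφ]
    have hinv : (oddQ 1 (ZMod 3) v)⁻¹ = oddQ 1 (ZMod 3) v := by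
      rw [hQv]
      have : ∀ a : ZMod 3, a ≠ 0 → a * a = 1 := by decide +kernel
      exact inv_eq_of_mul_eq_one_right (this _ hne)
    have himg : mat (oddQ 1 (ZMod 3)) (⟨k, hkmem⟩ : ↥(Cfsg.isometryGroup (ZMod 3) ⇑(oddQ 1 (ZMod 3))))
        *ᵥ conicPt j =
        -(conicPt j - ((z ^ 2 + x * y) * conicPolar v (conicPt j)) • v) := by
      show (k : Matrix (Unit ⊕ (Fin 1 ⊕ Fin 1)) (Unit ⊕ (Fin 1 ⊕ Fin 1)) (ZMod 3)) *ᵥ conicPt j = _
      rw [hk, neg_mulVec, reflectionMatrix_mulVec, refl_apply, hinv, hQv, polar_odd, Fin.sum_univ_one]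
      rfl
    rcases hsw j with h | h <;> rw [← hvdef, ← himg] at h <;>
      rcases hf ⟨_, hkG⟩ j with h' | h' <;>
      have h'' := h'.symm.trans h
    · exact huniq _ _ (Or.inl h'')
    · exact huniq _ _ (Or.inr (neg_eq_iff_eq_neg.1 h''))
    · exact huniq _ _ (Or.inr h'')
    · exact huniq _ _ (Or.inl (neg_inj.1 h''))

/-- The five singular points of the elliptic quadric over the field with two elements. -/
def ovoidPt : Fin 5 → (Fin 1 ⊕ Fin 1) ⊕ Fin 2 → ZMod 2 :=
  ![Sum.elim (Sum.elim (fun _ => 1) fun _ => 0) ![0, 0],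
    Sum.elim (Sum.elim (fun _ => 0) fun _ => 1) ![0, 0],
    Sum.elim (Sum.elim (fun _ => 1) fun _ => 1) ![1, 0],
    Sum.elim (Sum.elim (fun _ => 1) fun _ => 1) ![0, 1],
    Sum.elim (Sum.elim (fun _ => 1) fun _ => 1) ![1, 1]]

/-- `O₄⁻(2) ≅ S₅`. -/
theorem o_minus_four_two : Nonempty
    (↥(Cfsg.isometryGroup (ZMod 2) (Cfsg.quadFormMinus 1 (ZMod 2) 1 1)) ≃* Equiv.Perm (Fin 5)) := by
  rw [← coe_minusQ 1]
  obtain ⟨Q, hQdef⟩ : ∃ Q, Q = minusQ 1 (ZMod 2) 1 1 := ⟨_, rfl⟩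
  rw [← hQdef]
  have hQP : ∀ i, Q (ovoidPt i) = 0 := fun i => by
    rw [hQdef, minusQ_apply]; revert i; decide +kernel
  have hP0 : ∀ i, ovoidPt i ≠ 0 := by decide +kernel
  have hclass' : ∀ x y z w : ZMod 2, x * y + (z ^ 2 + 1 * z * w + 1 * w ^ 2) = 0 →
      (x ≠ 0 ∨ y ≠ 0 ∨ z ≠ 0 ∨ w ≠ 0) →
      ∃ j, Sum.elim (Sum.elim (fun _ : Fin 1 => x) fun _ : Fin 1 => y) ![z, w] = ovoidPt j := by
    decide +kernel
  have hexp : ∀ v : (Fin 1 ⊕ Fin 1) ⊕ Fin 2 → ZMod 2, v = Sum.elim (Sum.elim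
      (fun _ : Fin 1 => v (.inl (.inl 0))) fun _ : Fin 1 => v (.inl (.inr 0)))
      ![v (.inr 0), v (.inr 1)] := by
    intro v
    funext i
    rcases i with (i | i) | i
    · rw [Subsingleton.elim i 0]; rfl
    · rw [Subsingleton.elim i 0]; rfl
    · fin_cases i <;> rfl
  have hclass : ∀ v, Q v = 0 → v ≠ 0 → ∃ j, v = ovoidPt j := by
    intro v hv hv0
    rw [hQdef, minusQ_apply, Cfsg.quadFormMinus, Fin.sum_univ_one] at hv
    obtain ⟨j, hj⟩ := hclass' _ _ _ _ hv (by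
      by_contra hh
      push Not at hh
      obtain ⟨a, b, c, d⟩ := hh
      refine hv0 (funext fun i => ?_)
      rcases i with (i | i) | i
      · rw [Subsingleton.elim i 0]; exact a
      · rw [Subsingleton.elim i 0]; exact b
      · fin_cases i
        · exact c
        · exact d)
    exact ⟨j, (hexp v).trans hj⟩
  have huniq : ∀ i j, ovoidPt i = ovoidPt j → i = j := by decide +kernel
  have hperm : ∀ (g : ↥(Cfsg.isometryGroup (ZMod 2) ⇑Q)) (i : Fin 5),
      ∃ j, mat Q g *ᵥ ovoidPt i = ovoidPt j := by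
    intro g i
    refine hclass _ (by rw [quad_mulVec, hQP]) fun h0 => hP0 i ?_
    have := congrArg (mat Q g⁻¹ *ᵥ ·) h0
    simpa [mulVec_mulVec, ← mat_mul, mat_one] using this
  choose f hf using hperm
  have hone : ∀ i, f 1 i = i := fun i => by
    have h := hf 1 i
    rw [mat_one, one_mulVec] at h
    exact (huniq _ _ h).symm
  have hmul : ∀ g k i, f (g * k) i = f g (f k i) := by
    intro g k i
    apply huniq
    rw [← hf (g * k) i, mat_mul, ← mulVec_mulVec, hf k i, hf g]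
  obtain ⟨φ, hφ⟩ : ∃ φ : ↥(Cfsg.isometryGroup (ZMod 2) ⇑Q) →* Equiv.Perm (Fin 5),
      ∀ g i, φ g i = f g i :=
    ⟨MonoidHom.mk' (fun g => ⟨f g, f g⁻¹, fun i => by rw [← hmul, inv_mul_cancel, hone],
      fun i => by rw [← hmul, mul_inv_cancel, hone]⟩) fun a b => Equiv.ext (hmul a b), fun g i => rfl⟩
  refine nonempty_equiv_perm_of_swaps (n := 4) φ ?_ ?_
  · rw [injective_iff_map_eq_one]
    intro g hg
    have hfix : ∀ i, mat Q g *ᵥ ovoidPt i = ovoidPt i := fun i => by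
      rw [hf g i, ← hφ, hg]; rfl
    refine mat_ext Q (Matrix.ext_iff_mulVec.2 fun v => ?_)
    rw [mat_one, one_mulVec]
    have hspan : ∀ x y z w : ZMod 2,
        Sum.elim (Sum.elim (fun _ : Fin 1 => x) fun _ : Fin 1 => y) ![z, w] =
          x • ovoidPt 0 + y • ovoidPt 1 + z • (ovoidPt 2 + ovoidPt 0 + ovoidPt 1) +
            w • (ovoidPt 3 + ovoidPt 0 + ovoidPt 1) := by decide +kernel
    rw [hexp v, hspan]
    simp only [mulVec_add, mulVec_smul, hfix]
  · intro i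
    have hv : ∀ i : Fin 4, ∀ j : Fin 5,
        Cfsg.quadFormMinus 1 (ZMod 2) 1 1 (ovoidPt i.castSucc + ovoidPt i.succ) = 1 ∧
        ovoidPt j - ((ovoidPt i.castSucc + ovoidPt i.succ) (.inl (.inl 0)) * ovoidPt j (.inl (.inr 0)) +
            ovoidPt j (.inl (.inl 0)) * (ovoidPt i.castSucc + ovoidPt i.succ) (.inl (.inr 0)) +
          (1 * ((ovoidPt i.castSucc + ovoidPt i.succ) (.inr 0) * ovoidPt j (.inr 1) +
            ovoidPt j (.inr 0) * (ovoidPt i.castSucc + ovoidPt i.succ) (.inr 1)))) •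
          (ovoidPt i.castSucc + ovoidPt i.succ) = ovoidPt (Equiv.swap i.castSucc i.succ j) := by
      decide +kernel
    obtain ⟨v, hvdef⟩ : ∃ v, v = ovoidPt i.castSucc + ovoidPt i.succ := ⟨_, rfl⟩
    have hQv : Q v = 1 := by rw [hQdef, minusQ_apply, hvdef]; exact (hv i 0).1
    have hv0 : Q v ≠ 0 := by rw [hQv]; exact one_ne_zero
    refine ⟨reflIso Q v hv0, Equiv.ext fun j => ?_⟩
    rw [hφ]
    apply huniq
    rw [← hf, mat_reflIso, reflectionMatrix_mulVec, refl_apply, hQv, inv_one, one_mul, ← (hv i j).2,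
      ← hvdef, hQdef, polar_minus, Fin.sum_univ_one]
    congr 2
    rw [show (2 : ZMod 2) = 0 from rfl]
    ring

/-- Coordinates of an even subset of eight points modulo its complement. -/
def evenC (x : Fin 8 → ZMod 2) : Fin 3 ⊕ Fin 3 → ZMod 2 :=
  Sum.elim ![x 0 + x 1 + x 2 + x 4, x 1 + x 3 + x 4 + x 5, x 0 + x 1 + x 5 + x 6]
    ![x 0 + x 1 + x 2 + x 3, x 0 + x 3 + x 4 + x 5, x 2 + x 3 + x 4 + x 6]

/-- A representative even subset. -/
def evenL (v : Fin 3 ⊕ Fin 3 → ZMod 2) : Fin 8 → ZMod 2 :=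
  ![v (.inl 0) + v (.inl 1) + v (.inr 0) + v (.inr 2),
    v (.inl 0) + v (.inr 0) + v (.inr 1) + v (.inr 2),
    v (.inl 0) + v (.inl 2) + v (.inr 0),
    v (.inl 0) + v (.inl 1) + v (.inl 2) + v (.inr 1),
    v (.inl 1) + v (.inl 2) + v (.inr 0) + v (.inr 1),
    v (.inl 1) + v (.inr 1) + v (.inr 2),
    v (.inl 2) + v (.inr 2), 0]

theorem evenC_add (x y : Fin 8 → ZMod 2) : evenC (x + y) = evenC x + evenC y := by
  funext i
  rcases i with i | i <;> fin_cases i <;> simp [evenC] <;> ring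

theorem evenL_add (u v : Fin 3 ⊕ Fin 3 → ZMod 2) : evenL (u + v) = evenL u + evenL v := by
  funext i
  fin_cases i <;> simp [evenL] <;> ring

/-- The action of a permutation of eight points on the quotient space. -/
def evenAct (p : Equiv.Perm (Fin 8)) (v : Fin 3 ⊕ Fin 3 → ZMod 2) : Fin 3 ⊕ Fin 3 → ZMod 2 :=
  evenC fun k => evenL v (p⁻¹ k)

/-- The quadratic form on even subsets: half the weight. -/
def halfWeight (x : Fin 8 → ZMod 2) : ZMod 2 :=
  (((Finset.univ.filter fun k => x k = 1).card / 2 : ℕ) : ZMod 2)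

/-- The standard hyperbolic form in six dimensions. -/
def sixQ (v : Fin 3 ⊕ Fin 3 → ZMod 2) : ZMod 2 :=
  v (.inl 0) * v (.inr 0) + v (.inl 1) * v (.inr 1) + v (.inl 2) * v (.inr 2)

theorem forall_six {P : (Fin 3 ⊕ Fin 3 → ZMod 2) → Prop}
    (h : ∀ a b c d e f : ZMod 2, P (Sum.elim ![a, b, c] ![d, e, f])) : ∀ v, P v := by
  intro v
  convert h (v (.inl 0)) (v (.inl 1)) (v (.inl 2)) (v (.inr 0)) (v (.inr 1)) (v (.inr 2)) using 1
  funext i
  rcases i with i | i <;> fin_cases i <;> rfl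

theorem forall_eight {P : (Fin 8 → ZMod 2) → Prop}
    (h : ∀ a b c d e f g k : ZMod 2, P ![a, b, c, d, e, f, g, k]) : ∀ v, P v := by
  intro v
  convert h (v 0) (v 1) (v 2) (v 3) (v 4) (v 5) (v 6) (v 7) using 1
  funext i
  fin_cases i <;> rfl

theorem sum_evenL : ∀ v, ∑ k, evenL v k = 0 := forall_six (by decide +kernel)

theorem halfWeight_evenL : ∀ v, halfWeight (evenL v) = sixQ v := forall_six (by decide +kernel)

theorem sixQ_evenC : ∀ x : Fin 8 → ZMod 2, ∑ k, x k = 0 → sixQ (evenC x) = halfWeight x :=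
  forall_eight (by decide +kernel)

theorem evenC_evenL : ∀ v, evenC (evenL v) = v := forall_six (by decide +kernel)

theorem evenL_evenC : ∀ x : Fin 8 → ZMod 2, ∑ k, x k = 0 →
    evenL (evenC x) = x ∨ evenL (evenC x) = fun k => x k + 1 := forall_eight (by decide +kernel)

theorem evenC_add_one : ∀ x : Fin 8 → ZMod 2, evenC (fun k => x k + 1) = evenC x :=
  forall_eight (by decide +kernel)

theorem halfWeight_comp (p : Equiv.Perm (Fin 8)) (x : Fin 8 → ZMod 2) :
    halfWeight (fun k => x (p⁻¹ k)) = halfWeight x := by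
  rw [halfWeight, halfWeight]
  refine congrArg (fun n : ℕ => ((n / 2 : ℕ) : ZMod 2)) (Finset.card_equiv p⁻¹ fun k => ?_)
  simp

theorem evenAct_mul (p r : Equiv.Perm (Fin 8)) (v : Fin 3 ⊕ Fin 3 → ZMod 2) :
    evenAct (p * r) v = evenAct p (evenAct r v) := by
  obtain ⟨y, hy⟩ : ∃ y, y = fun k => evenL v (r⁻¹ k) := ⟨_, rfl⟩
  have hsum : ∑ k, y k = 0 := by
    rw [hy]
    exact (Equiv.sum_comp r⁻¹ (evenL v)).trans (sum_evenL v)
  show evenC (fun k => evenL v ((p * r)⁻¹ k)) = evenC (fun k => evenL (evenAct r v) (p⁻¹ k))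
  have e : evenAct r v = evenC y := by rw [hy]; rfl
  rw [e]
  rcases evenL_evenC y hsum with h | h <;> rw [h, hy]
  · rfl
  · exact (evenC_add_one _).symm

theorem evenAct_add (p : Equiv.Perm (Fin 8)) (u v : Fin 3 ⊕ Fin 3 → ZMod 2) :
    evenAct p (u + v) = evenAct p u + evenAct p v := by
  show evenC (fun k => evenL (u + v) (p⁻¹ k)) = _
  rw [evenL_add]
  exact evenC_add (fun k => evenL u (p⁻¹ k)) (fun k => evenL v (p⁻¹ k))

theorem sixQ_evenAct (p : Equiv.Perm (Fin 8)) (v : Fin 3 ⊕ Fin 3 → ZMod 2) :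
    sixQ (evenAct p v) = sixQ v := by
  show sixQ (evenC fun k => evenL v (p⁻¹ k)) = _
  rw [sixQ_evenC _ ((Equiv.sum_comp p⁻¹ (evenL v)).trans (sum_evenL v)), halfWeight_comp,
    halfWeight_evenL]

/-- The pair moved by the transposition matching a nonsingular vector. -/
theorem exists_pair_of_nonsingular : ∀ v, sixQ v = 1 →
    ∃ a b : Fin 8, evenC (fun k => if k = a ∨ k = b then 1 else 0) = v ∧ a ≠ b :=
  forall_six (by decide +kernel)

theorem pair_key : ∀ x : Fin 8 → ZMod 2, ∑ k, x k = 0 → ∀ a b : Fin 8, a ≠ b →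
    evenC (fun k => x (Equiv.swap a b k)) = evenC x -
      (evenC (fun k => if k = a ∨ k = b then 1 else 0) (.inl 0) * evenC x (.inr 0) +
        evenC x (.inl 0) * evenC (fun k => if k = a ∨ k = b then 1 else 0) (.inr 0) +
       (evenC (fun k => if k = a ∨ k = b then 1 else 0) (.inl 1) * evenC x (.inr 1) +
        evenC x (.inl 1) * evenC (fun k => if k = a ∨ k = b then 1 else 0) (.inr 1)) +
       (evenC (fun k => if k = a ∨ k = b then 1 else 0) (.inl 2) * evenC x (.inr 2) +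
        evenC x (.inl 2) * evenC (fun k => if k = a ∨ k = b then 1 else 0) (.inr 2))) •
        evenC (fun k => if k = a ∨ k = b then 1 else 0) := forall_eight (by decide +kernel)

theorem pair_inj : ∀ a b c d : Fin 8, a ≠ b → c ≠ d →
    evenC (fun k => if k = a ∨ k = b then (1 : ZMod 2) else 0) =
      evenC (fun k => if k = c ∨ k = d then 1 else 0) → c = a ∨ c = b := by decide +kernel

/-- `O₆⁺(2) ≅ S₈`. -/
theorem o_plus_six_two : Nonempty
    (↥(Cfsg.isometryGroup (ZMod 2) (Cfsg.quadFormPlus 3 (ZMod 2))) ≃* Equiv.Perm (Fin 8)) := by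
  rw [← coe_plusQ 3]
  obtain ⟨Q, hQdef⟩ : ∃ Q, Q = plusQ 3 (ZMod 2) := ⟨_, rfl⟩
  rw [← hQdef]
  have hQ6 : ∀ v, Q v = sixQ v := fun v => by
    rw [hQdef, plusQ_apply, Cfsg.quadFormPlus, Fin.sum_univ_three]; rfl
  have hlin : ∀ p : Equiv.Perm (Fin 8), ∃ M : Matrix (Fin 3 ⊕ Fin 3) (Fin 3 ⊕ Fin 3) (ZMod 2),
      ∀ v, M *ᵥ v = evenAct p v := fun p => by
    obtain ⟨f, hf⟩ : ∃ f : (Fin 3 ⊕ Fin 3 → ZMod 2) →+ (Fin 3 ⊕ Fin 3 → ZMod 2),
        ∀ v, f v = evenAct p v := ⟨AddMonoidHom.mk' (evenAct p) (evenAct_add p), fun v => rfl⟩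
    refine ⟨LinearMap.toMatrix' (f.toZModLinearMap 2), fun v => ?_⟩
    rw [LinearMap.toMatrix'_mulVec]
    exact hf v
  choose M hM using hlin
  have hMmul : ∀ p r, M (p * r) = M p * M r := fun p r => Matrix.ext_iff_mulVec.2 fun v => by
    rw [← mulVec_mulVec, hM, hM, hM, evenAct_mul]
  have hM1 : M 1 = 1 := Matrix.ext_iff_mulVec.2 fun v => by
    rw [hM, one_mulVec]
    exact evenC_evenL v
  obtain ⟨ψ, hψ⟩ : ∃ ψ : Equiv.Perm (Fin 8) →* ↥(Cfsg.isometryGroup (ZMod 2) ⇑Q),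
      ∀ p v, mat Q (ψ p) *ᵥ v = evenAct p v := by
    refine ⟨MonoidHom.mk' (fun p => ⟨⟨M p, M p⁻¹, by rw [← hMmul, mul_inv_cancel, hM1],
      by rw [← hMmul, inv_mul_cancel, hM1]⟩, fun u _ => ?_⟩) fun p r => mat_ext _ (hMmul p r),
      fun p v => hM p v⟩
    show Q (M p *ᵥ u) = Q u
    rw [hM, hQ6, hQ6, sixQ_evenAct]
  have hpair : ∀ (p : Equiv.Perm (Fin 8)) (a b : Fin 8),
      evenAct p (evenC fun k => if k = a ∨ k = b then 1 else 0) =
        evenC (fun k => if k = p a ∨ k = p b then 1 else 0) ∨ a = b := by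
    intro p a b
    by_cases hab : a = b
    · exact Or.inr hab
    refine Or.inl ?_
    have hs : ∀ a b : Fin 8, a ≠ b → ∑ k : Fin 8, (if k = a ∨ k = b then (1 : ZMod 2) else 0) = 0 := by
      decide +kernel
    obtain ⟨x, hx⟩ : ∃ x : Fin 8 → ZMod 2, x = fun k => if k = a ∨ k = b then 1 else 0 := ⟨_, rfl⟩
    have hx' : (fun k => x (p⁻¹ k)) = fun k => if k = p a ∨ k = p b then 1 else 0 := by
      funext k
      rw [hx]
      exact if_congr (or_congr Equiv.Perm.inv_eq_iff_eq Equiv.Perm.inv_eq_iff_eq) rfl rfl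
    rw [← hx, ← hx']
    show evenC (fun k => evenL (evenC x) (p⁻¹ k)) = _
    rcases evenL_evenC x (by rw [hx]; exact hs a b hab) with h | h <;> rw [h]
    exact evenC_add_one _
  have hinj : Function.Injective ψ := by
    rw [injective_iff_map_eq_one]
    intro p hp
    have hfix : ∀ a b, a ≠ b → p a = a ∨ p a = b := by
      intro a b hab
      have h := (hpair p a b).resolve_right hab
      rw [← hψ, hp, mat_one, one_mulVec] at h
      exact pair_inj a b (p a) (p b) hab (fun e => hab (p.injective e)) h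
    refine Equiv.ext fun a => ?_
    have h2 : ∀ a : Fin 8, ∃ b c : Fin 8, a ≠ b ∧ a ≠ c ∧ b ≠ c := by decide +kernel
    obtain ⟨b, c, hab, hac, hbc⟩ := h2 a
    rcases hfix a b hab with h | h
    · exact h
    rcases hfix a c hac with h' | h'
    · exact h'
    · exact absurd (h.symm.trans h') hbc
  refine ⟨(MulEquiv.ofBijective ψ ⟨hinj, fun g => ?_⟩).symm⟩
  have hgen := closure_reflections_eq_top (Q := Q) (exists_isReflProd_finite
    (hQdef ▸ plusQ_nondegenerate 3) (Or.inr (by simp)))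
  have hg : g ∈ Subgroup.closure {g : ↥(Cfsg.isometryGroup (ZMod 2) ⇑Q) | ∃ v, Q v ≠ 0 ∧
      mat Q g = Cfsg.reflectionMatrix ⇑Q v} := hgen ▸ Subgroup.mem_top g
  refine (Subgroup.closure_le ψ.range).2 ?_ hg
  rintro k ⟨v, hv, hk⟩
  have hv1 : sixQ v = 1 := by
    rw [← hQ6]
    exact (show ∀ a : ZMod 2, a ≠ 0 → a = 1 by decide +kernel) _ hv
  obtain ⟨a, b, hvab, hab⟩ := exists_pair_of_nonsingular v hv1
  refine ⟨Equiv.swap a b, mat_ext _ (Matrix.ext_iff_mulVec.2 fun w => ?_)⟩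
  rw [hψ, hk, reflectionMatrix_mulVec, refl_apply, hQ6, hv1, inv_one, one_mul]
  show evenC (fun k => evenL w ((Equiv.swap a b)⁻¹ k)) = _
  rw [Equiv.swap_inv, pair_key _ (sum_evenL w) a b hab, hvab, evenC_evenL, hQdef, polar_plus,
    Fin.sum_univ_three]

end CfsgLib.Forms
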