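import Cfsg.Prelude.Def_ClassicalGeometry
import Cfsg.Agent.Forms.Witt

/-!
# The symplectic group as isometries, symplectic transvections

`sympBilin` is `Cfsg.sympForm` as a bilinear form.  Main results: `mem_symplecticGroup_iff_form`,
`spOfLinear`, `sympTransvection_mem`, transitivity of the transvection group on hyperbolic pairs
(`exists_mem_transvGroup_pair`) and generation by transvections (`transvGroup_eq_top`).
-/

namespace CfsgLib.Forms

open Matrix Module

variable {F : Type*} [Field F] {m : ℕ}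

/-- `Cfsg.sympForm` as a bilinear form. -/
noncomputable def sympBilin (m : ℕ) (F : Type*) [Field F] :
    LinearMap.BilinForm F (Fin m ⊕ Fin m → F) :=
  Matrix.toBilin' (Matrix.J (Fin m) F)

theorem sympBilin_apply (u v : Fin m ⊕ Fin m → F) :
    sympBilin m F u v = Cfsg.sympForm m F u v :=
  Matrix.toBilin'_apply' _ _ _

theorem J_mulVec_inl (v : Fin m ⊕ Fin m → F) (i : Fin m) :
    (Matrix.J (Fin m) F *ᵥ v) (Sum.inl i) = - v (Sum.inr i) := by
  simp [Matrix.mulVec, dotProduct, Matrix.J, Fintype.sum_sum_type, Matrix.one_apply]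

theorem J_mulVec_inr (v : Fin m ⊕ Fin m → F) (i : Fin m) :
    (Matrix.J (Fin m) F *ᵥ v) (Sum.inr i) = v (Sum.inl i) := by
  simp [Matrix.mulVec, dotProduct, Matrix.J, Fintype.sum_sum_type, Matrix.one_apply]

theorem sympForm_eq_sum (u v : Fin m ⊕ Fin m → F) :
    Cfsg.sympForm m F u v = ∑ i, (u (Sum.inr i) * v (Sum.inl i) - u (Sum.inl i) * v (Sum.inr i)) := by
  simp only [Cfsg.sympForm, dotProduct, Fintype.sum_sum_type, J_mulVec_inl, J_mulVec_inr,
    Finset.sum_sub_distrib, mul_neg, Finset.sum_neg_distrib]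
  ring

theorem sympForm_self (u : Fin m ⊕ Fin m → F) : Cfsg.sympForm m F u u = 0 := by
  rw [sympForm_eq_sum]
  exact Finset.sum_eq_zero fun i _ => by ring

theorem sympForm_swap (u v : Fin m ⊕ Fin m → F) :
    Cfsg.sympForm m F v u = - Cfsg.sympForm m F u v := by
  rw [sympForm_eq_sum, sympForm_eq_sum, ← Finset.sum_neg_distrib]
  exact Finset.sum_congr rfl fun i _ => by ring

theorem sympBilin_isAlt : (sympBilin m F).IsAlt := fun u => by
  rw [sympBilin_apply, sympForm_self]

theorem sympForm_single_inl (u : Fin m ⊕ Fin m → F) (i : Fin m) :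
    Cfsg.sympForm m F u (Pi.single (Sum.inl i) 1) = u (Sum.inr i) := by
  simp [sympForm_eq_sum, Pi.single_apply]

theorem sympForm_single_inr (u : Fin m ⊕ Fin m → F) (i : Fin m) :
    Cfsg.sympForm m F u (Pi.single (Sum.inr i) 1) = - u (Sum.inl i) := by
  simp [sympForm_eq_sum, Pi.single_apply]

theorem sympForm_sep (u : Fin m ⊕ Fin m → F) (h : ∀ v, Cfsg.sympForm m F u v = 0) : u = 0 := by
  funext j
  rcases j with i | i
  · simpa [sympForm_single_inr] using h (Pi.single (Sum.inr i) 1)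
  · simpa [sympForm_single_inl] using h (Pi.single (Sum.inl i) 1)

theorem sympBilin_nondegenerate : (sympBilin m F).Nondegenerate := by
  refine ⟨fun u h => sympForm_sep u fun v => ?_, fun u h => sympForm_sep u fun v => ?_⟩
  · rw [← sympBilin_apply]; exact h v
  · rw [sympForm_swap, ← sympBilin_apply, h v, neg_zero]

theorem mem_symplecticGroup_iff_form {A : Matrix (Fin m ⊕ Fin m) (Fin m ⊕ Fin m) F} :
    A ∈ Matrix.symplecticGroup (Fin m) F ↔
      ∀ u v, Cfsg.sympForm m F (A *ᵥ u) (A *ᵥ v) = Cfsg.sympForm m F u v := by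
  rw [SymplecticGroup.mem_iff']
  have h : ∀ u v, Cfsg.sympForm m F (A *ᵥ u) (A *ᵥ v) =
      Matrix.toBilin' (Aᵀ * Matrix.J (Fin m) F * A) u v := by
    intro u v
    rw [Matrix.toBilin'_apply', ← Matrix.mulVec_mulVec, ← Matrix.mulVec_mulVec,
      Matrix.dotProduct_mulVec u Aᵀ, Matrix.vecMul_transpose, Cfsg.sympForm]
  constructor
  · intro hA u v
    rw [h, hA, Matrix.toBilin'_apply', Cfsg.sympForm]
  · intro hA
    apply Matrix.toBilin'.injective
    refine LinearMap.ext fun u => LinearMap.ext fun v => ?_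
    rw [← h, hA, Matrix.toBilin'_apply', Cfsg.sympForm]

theorem sympForm_map (A : Matrix.symplecticGroup (Fin m) F) (u v : Fin m ⊕ Fin m → F) :
    Cfsg.sympForm m F (A.1 *ᵥ u) (A.1 *ᵥ v)
      = Cfsg.sympForm m F u v :=
  mem_symplecticGroup_iff_form.1 A.2 u v

/-- A linear map preserving the symplectic form, as a symplectic matrix. -/
theorem exists_sp_of_linearMap (g : (Fin m ⊕ Fin m → F) →ₗ[F] (Fin m ⊕ Fin m → F))
    (hg : ∀ u v, Cfsg.sympForm m F (g u) (g v) = Cfsg.sympForm m F u v) :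
    ∃ A : Matrix.symplecticGroup (Fin m) F, ∀ x, A.1 *ᵥ x = g x :=
  ⟨⟨LinearMap.toMatrix' g, mem_symplecticGroup_iff_form.2 fun u v => by
    simp only [LinearMap.toMatrix'_mulVec, hg]⟩, fun x => LinearMap.toMatrix'_mulVec g x⟩

theorem sp_ext {A B : Matrix.symplecticGroup (Fin m) F}
    (h : ∀ x, A.1 *ᵥ x = B.1 *ᵥ x) : A = B :=
  Subtype.ext (Matrix.ext_iff_mulVec.2 h)

theorem sympTransvection_mulVec (w x : Fin m ⊕ Fin m → F) (c : F) :
    Cfsg.sympTransvection m w c *ᵥ x = x + (c * Cfsg.sympForm m F x w) • w := by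
  rw [Cfsg.sympTransvection, Matrix.add_mulVec, Matrix.one_mulVec, Matrix.smul_mulVec,
    Matrix.vecMulVec_mulVec, dotProduct_comm, op_smul_eq_smul, smul_smul]
  rfl

theorem sympTransvection_mem (w : Fin m ⊕ Fin m → F) (c : F) :
    Cfsg.sympTransvection m w c ∈ Matrix.symplecticGroup (Fin m) F := by
  rw [mem_symplecticGroup_iff_form]
  intro u v
  simp only [sympTransvection_mulVec, ← sympBilin_apply]
  have h : sympBilin m F w v = - sympBilin m F v w := by
    rw [sympBilin_apply, sympBilin_apply, sympForm_swap]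
  simp only [map_add, map_smul, LinearMap.add_apply, LinearMap.smul_apply, smul_eq_mul,
    sympBilin_isAlt w, h]
  ring

/-- The symplectic transvection as an element of the group. -/
noncomputable def spTransv (w : Fin m ⊕ Fin m → F) (c : F) : Matrix.symplecticGroup (Fin m) F :=
  ⟨Cfsg.sympTransvection m w c, sympTransvection_mem w c⟩

/-- The group generated by the transvections with centres in `W`. -/
noncomputable def transvGroup (W : Set (Fin m ⊕ Fin m → F)) :
    Subgroup (Matrix.symplecticGroup (Fin m) F) :=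
  Subgroup.closure {A | ∃ w ∈ W, ∃ c, A = spTransv w c}

theorem mem_transvGroup {W : Set (Fin m ⊕ Fin m → F)} {w : Fin m ⊕ Fin m → F} (hw : w ∈ W)
    (c : F) : spTransv w c ∈ transvGroup W :=
  Subgroup.subset_closure ⟨w, hw, c, rfl⟩

/-- Elements generated by transvections with centres in `W` fix what is orthogonal to `W`. -/
theorem transvGroup_fix {W : Set (Fin m ⊕ Fin m → F)} {A : Matrix.symplecticGroup (Fin m) F}
    (hA : A ∈ transvGroup W) {x : Fin m ⊕ Fin m → F}
    (hx : ∀ w ∈ W, Cfsg.sympForm m F x w = 0) : A.1 *ᵥ x = x := by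
  induction hA using Subgroup.closure_induction with
  | mem A hA =>
    obtain ⟨w, hw, c, rfl⟩ := hA
    simp [spTransv, sympTransvection_mulVec, hx w hw]
  | one => simp
  | mul A B _ _ hA hB => rw [Submonoid.coe_mul, ← Matrix.mulVec_mulVec, hB, hA]
  | inv A _ hA =>
    have h : (A⁻¹ : Matrix.symplecticGroup (Fin m) F) * A = 1 := inv_mul_cancel A
    conv_lhs => rw [← hA]
    rw [Matrix.mulVec_mulVec, ← Submonoid.coe_mul, h, Submonoid.coe_one, Matrix.one_mulVec]

/-- The transvection with centre `b - a` moving `a` to `b` when `f a b ≠ 0`. -/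
theorem spTransv_sub_mulVec {a b : Fin m ⊕ Fin m → F} (h : Cfsg.sympForm m F a b ≠ 0) :
    (spTransv (b - a) (Cfsg.sympForm m F a b)⁻¹).1 *ᵥ a = b := by
  have h' : Cfsg.sympForm m F a (b - a) = Cfsg.sympForm m F a b := by
    rw [← sympBilin_apply, map_sub, sympBilin_apply, sympBilin_apply, sympForm_self, sub_zero]
  show Cfsg.sympTransvection m _ _ *ᵥ a = b
  rw [sympTransvection_mulVec, h', inv_mul_cancel₀ h, one_smul]
  abel

/-- Transvections with centres in a nondegenerate subspace `W` are transitive on its hyperbolic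
pairs. -/
theorem exists_mem_transvGroup_pair (W : Submodule F (Fin m ⊕ Fin m → F))
    (hW : ∀ u ∈ W, u ≠ 0 → ∃ z ∈ W, Cfsg.sympForm m F u z ≠ 0)
    {u v u' v' : Fin m ⊕ Fin m → F} (hu : u ∈ W) (hv : v ∈ W) (hu' : u' ∈ W) (hv' : v' ∈ W)
    (h : Cfsg.sympForm m F u v = 1) (h' : Cfsg.sympForm m F u' v' = 1) :
    ∃ A ∈ transvGroup (W : Set _), A.1 *ᵥ u = u' ∧
      A.1 *ᵥ v = v' := by
  have comp : ∀ (A B : Matrix.symplecticGroup (Fin m) F) (x : Fin m ⊕ Fin m → F),
      (A * B).1 *ᵥ x =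
        A.1 *ᵥ (B.1 *ᵥ x) := fun A B x => by
    rw [Submonoid.coe_mul, Matrix.mulVec_mulVec]
  have hne : ∀ {a b : Fin m ⊕ Fin m → F}, Cfsg.sympForm m F a b = 1 → a ≠ 0 := by
    rintro a b hab rfl
    simp [Cfsg.sympForm] at hab
  -- move `u` to `u'`
  obtain ⟨z, hz, hz1, hz2⟩ : ∃ z ∈ W, Cfsg.sympForm m F u z ≠ 0 ∧ Cfsg.sympForm m F z u' ≠ 0 := by
    obtain ⟨z₁, hz₁, h₁⟩ := hW u hu (hne h)
    obtain ⟨z₂, hz₂, h₂⟩ := hW u' hu' (hne h')
    have h₂' : Cfsg.sympForm m F z₂ u' ≠ 0 := by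
      rw [sympForm_swap]; exact neg_ne_zero.2 h₂
    by_cases c₁ : Cfsg.sympForm m F z₁ u' = 0
    · by_cases c₂ : Cfsg.sympForm m F u z₂ = 0
      · refine ⟨z₁ + z₂, W.add_mem hz₁ hz₂, ?_, ?_⟩
        · rw [← sympBilin_apply, map_add, sympBilin_apply, sympBilin_apply, c₂, add_zero]
          exact h₁
        · rw [← sympBilin_apply, map_add, LinearMap.add_apply, sympBilin_apply, sympBilin_apply,
            c₁, zero_add]
          exact h₂'
      · exact ⟨z₂, hz₂, c₂, h₂'⟩
    · exact ⟨z₁, hz₁, h₁, c₁⟩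
  have hT₁ := mem_transvGroup (W := (W : Set _)) (w := u' - z) (W.sub_mem hu' hz)
    (Cfsg.sympForm m F z u')⁻¹
  have hT₂ := mem_transvGroup (W := (W : Set _)) (w := z - u) (W.sub_mem hz hu)
    (Cfsg.sympForm m F u z)⁻¹
  obtain ⟨A, hA, hAu⟩ : ∃ A ∈ transvGroup (W : Set _), A.1 *ᵥ u = u' := by
    refine ⟨spTransv (u' - z) (Cfsg.sympForm m F z u')⁻¹ *
      spTransv (z - u) (Cfsg.sympForm m F u z)⁻¹, mul_mem hT₁ hT₂, ?_⟩
    rw [comp, spTransv_sub_mulVec hz1, spTransv_sub_mulVec hz2]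
  have hfix : ∀ (B : Matrix.symplecticGroup (Fin m) F), B ∈ transvGroup (W : Set _) →
      ∀ x ∈ W, B.1 *ᵥ x ∈ W := by
    intro B hB
    induction hB using Subgroup.closure_induction with
    | mem B hB =>
      obtain ⟨w, hw, c, rfl⟩ := hB
      intro x hx
      show Cfsg.sympTransvection m w c *ᵥ x ∈ W
      rw [sympTransvection_mulVec]
      exact W.add_mem hx (W.smul_mem _ hw)
    | one => intro x hx; simpa using hx
    | mul B C _ _ hB hC => intro x hx; rw [comp]; exact hB _ (hC x hx)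
    | inv B hB' hB =>
      intro x hx
      let f : W →ₗ[F] W := (Matrix.toLin' B.1).restrict hB
      have hinj : Function.Injective f := by
        intro a b hab
        apply Subtype.ext
        have h' : B.1 *ᵥ (a : _) = B.1 *ᵥ (b : _) := congrArg Subtype.val hab
        have h'' := congrArg (fun z => (B⁻¹).1 *ᵥ z) h'
        simpa [Matrix.mulVec_mulVec, ← Submonoid.coe_mul] using h''
      obtain ⟨y, hy⟩ := (LinearMap.injective_iff_surjective.1 hinj) ⟨x, hx⟩
      have hy' : B.1 *ᵥ (y : _) = x := congrArg Subtype.val hy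
      rw [← hy', Matrix.mulVec_mulVec, ← Submonoid.coe_mul, inv_mul_cancel, Submonoid.coe_one,
        Matrix.one_mulVec]
      exact y.2
  -- then move `w` to `v'` fixing `u'`
  obtain ⟨w, hwdef⟩ : ∃ w, w = A.1 *ᵥ v := ⟨_, rfl⟩
  have hwW : w ∈ W := hwdef ▸ hfix A hA v hv
  have huw : Cfsg.sympForm m F u' w = 1 := by rw [hwdef, ← hAu, sympForm_map, h]
  have step : ∀ a b, a ∈ W → b ∈ W → Cfsg.sympForm m F u' a = 1 → Cfsg.sympForm m F u' b = 1 →
      Cfsg.sympForm m F a b ≠ 0 → ∃ B ∈ transvGroup (W : Set _),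
        B.1 *ᵥ u' = u' ∧ B.1 *ᵥ a = b := by
    intro a b ha hb hua hub hab
    refine ⟨_, mem_transvGroup (W.sub_mem hb ha) (Cfsg.sympForm m F a b)⁻¹, ?_,
      spTransv_sub_mulVec hab⟩
    show Cfsg.sympTransvection m _ _ *ᵥ u' = u'
    rw [sympTransvection_mulVec, ← sympBilin_apply u', map_sub, sympBilin_apply, sympBilin_apply,
      hua, hub, sub_self, mul_zero, zero_smul, add_zero]
  by_cases hwv : Cfsg.sympForm m F w v' = 0
  · have hmid : Cfsg.sympForm m F u' (w + u') = 1 := by
      rw [← sympBilin_apply, map_add, sympBilin_apply, sympBilin_apply, huw, sympForm_self,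
        add_zero]
    obtain ⟨B, hB, hBu, hBw⟩ := step w (w + u') hwW (W.add_mem hwW hu') huw hmid (by
      rw [← sympBilin_apply, map_add, sympBilin_apply, sympBilin_apply, sympForm_self,
        sympForm_swap u' w, huw, zero_add]
      exact neg_ne_zero.2 one_ne_zero)
    obtain ⟨C, hC, hCu, hCw⟩ := step (w + u') v' (W.add_mem hwW hu') hv' hmid h' (by
      rw [← sympBilin_apply, map_add, LinearMap.add_apply, sympBilin_apply, sympBilin_apply,
        hwv, h', zero_add]
      exact one_ne_zero)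
    exact ⟨C * (B * A), mul_mem hC (mul_mem hB hA), by rw [comp, comp, hAu, hBu, hCu],
      by rw [comp, comp, ← hwdef, hBw, hCw]⟩
  · obtain ⟨B, hB, hBu, hBw⟩ := step w v' hwW hv' huw h' hwv
    exact ⟨B * A, mul_mem hB hA, by rw [comp, hAu, hBu], by rw [comp, ← hwdef, hBw]⟩

/-- `Sp` is generated by its transvections. -/
theorem transvGroup_eq_top : transvGroup (Set.univ : Set (Fin m ⊕ Fin m → F)) = ⊤ := by
  rw [eq_top_iff]
  intro g _
  suffices h : ∀ (d k : ℕ), k + d = m → ∀ g : Matrix.symplecticGroup (Fin m) F,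
      (∀ i : Fin m, (i : ℕ) < k →
        g.1 *ᵥ Pi.single (Sum.inl i) 1 = Pi.single (Sum.inl i) 1 ∧
        g.1 *ᵥ Pi.single (Sum.inr i) 1 = Pi.single (Sum.inr i) 1) →
      g ∈ transvGroup (Set.univ : Set (Fin m ⊕ Fin m → F)) by
    exact h m 0 (zero_add m) g fun i hi => absurd hi (Nat.not_lt_zero _)
  intro d
  induction d with
  | zero =>
    intro k hk g hg
    have h1 : g = 1 := by
      apply Subtype.ext
      ext a b
      have hb : g.1 *ᵥ Pi.single b 1 = Pi.single b 1 := by
        rcases b with i | i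
        · exact (hg i (by have := i.2; omega)).1
        · exact (hg i (by have := i.2; omega)).2
      have := congrFun hb a
      simpa [Matrix.mulVec_single_one, Matrix.one_apply, Pi.single_apply] using this
    rw [h1]; exact one_mem _
  | succ d ih =>
    intro k hk g hg
    obtain ⟨j, hj⟩ : ∃ j : Fin m, (j : ℕ) = k := ⟨⟨k, by omega⟩, rfl⟩
    let W : Submodule F (Fin m ⊕ Fin m → F) :=
      { carrier := {v | ∀ i : Fin m, (i : ℕ) < k → v (Sum.inl i) = 0 ∧ v (Sum.inr i) = 0}
        add_mem' := fun ha hb i hi => by simp [ha i hi, hb i hi]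
        zero_mem' := fun i _ => by simp
        smul_mem' := fun c v hv i hi => by simp [hv i hi] }
    have hW : ∀ u ∈ W, u ≠ 0 → ∃ z ∈ W, Cfsg.sympForm m F u z ≠ 0 := by
      intro u hu hu0
      obtain ⟨b, hb⟩ : ∃ b, u b ≠ 0 := by
        by_contra hall
        exact hu0 (funext fun b => not_not.1 fun hb => hall ⟨b, hb⟩)
      rcases b with i | i
      · have hik : ¬ (i : ℕ) < k := fun h => hb (hu i h).1
        refine ⟨Pi.single (Sum.inr i) 1, fun l hl => ?_, ?_⟩
        · have : l ≠ i := fun h => hik (h ▸ hl)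
          simp [this]
        · rw [sympForm_single_inr]; exact neg_ne_zero.2 hb
      · have hik : ¬ (i : ℕ) < k := fun h => hb (hu i h).2
        refine ⟨Pi.single (Sum.inl i) 1, fun l hl => ?_, ?_⟩
        · have : l ≠ i := fun h => hik (h ▸ hl)
          simp [this]
        · rw [sympForm_single_inl]; exact hb
    have hmem : ∀ x ∈ ({Pi.single (Sum.inr j) 1, Pi.single (Sum.inl j) 1} :
        Set (Fin m ⊕ Fin m → F)), x ∈ W ∧ g.1 *ᵥ x ∈ W := by
      intro x hx
      have hxW : x ∈ W := by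
        intro i hi
        have : i ≠ j := fun h => by rw [h, hj] at hi; exact lt_irrefl k hi
        rcases hx with rfl | rfl <;> simp [this]
      refine ⟨hxW, fun i hi => ?_⟩
      have e1 := sympForm_map g x (Pi.single (Sum.inr i) 1)
      have e2 := sympForm_map g x (Pi.single (Sum.inl i) 1)
      rw [(hg i hi).2, sympForm_single_inr, sympForm_single_inr, (hxW i hi).1] at e1
      rw [(hg i hi).1, sympForm_single_inl, sympForm_single_inl, (hxW i hi).2] at e2
      exact ⟨by simpa using e1, e2⟩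
    have hpair : Cfsg.sympForm m F (Pi.single (Sum.inr j) 1) (Pi.single (Sum.inl j) 1) = 1 := by
      rw [sympForm_single_inl]; simp
    obtain ⟨A, hA, hA1, hA2⟩ := exists_mem_transvGroup_pair W hW (hmem _ (Or.inl rfl)).2
      (hmem _ (Or.inr rfl)).2 (hmem _ (Or.inl rfl)).1 (hmem _ (Or.inr rfl)).1
      (by rw [sympForm_map, hpair]) hpair
    have hA' : A ∈ transvGroup (Set.univ : Set (Fin m ⊕ Fin m → F)) :=
      Subgroup.closure_mono (by rintro _ ⟨w, -, c, rfl⟩; exact ⟨w, trivial, c, rfl⟩) hA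
    have hAg : A * g ∈ transvGroup (Set.univ : Set (Fin m ⊕ Fin m → F)) := by
      apply ih (k + 1) (by omega)
      intro i hi
      rcases Nat.lt_succ_iff_lt_or_eq.1 hi with h | h
      · have hfix : ∀ x, g.1 *ᵥ x = x → (∀ w ∈ W, Cfsg.sympForm m F x w = 0) →
            (A * g).1 *ᵥ x = x := by
          intro x hx hxW
          rw [Submonoid.coe_mul, ← Matrix.mulVec_mulVec, hx, transvGroup_fix hA hxW]
        refine ⟨hfix _ (hg i h).1 fun w hw => ?_, hfix _ (hg i h).2 fun w hw => ?_⟩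
        · rw [sympForm_swap, sympForm_single_inl, (hw i h).2, neg_zero]
        · rw [sympForm_swap, sympForm_single_inr, (hw i h).1]; simp
      · obtain rfl : i = j := Fin.ext (h.trans hj.symm)
        refine ⟨?_, ?_⟩ <;> rw [Submonoid.coe_mul, ← Matrix.mulVec_mulVec]
        · exact hA2
        · exact hA1
    simpa using mul_mem (inv_mem hA') hAg

/-- The generating set used in the statements is `transvGroup univ`. -/
theorem transvGroup_univ :
    transvGroup (Set.univ : Set (Fin m ⊕ Fin m → F)) =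
      Subgroup.closure {A : Matrix.symplecticGroup (Fin m) F | ∃ (w : Fin m ⊕ Fin m → F) (c : F),
        (A : Matrix (Fin m ⊕ Fin m) (Fin m ⊕ Fin m) F) = Cfsg.sympTransvection m w c} := by
  unfold transvGroup
  congr 1
  ext A
  exact ⟨fun ⟨w, _, c, h⟩ => ⟨w, c, by rw [h]; rfl⟩,
    fun ⟨w, c, h⟩ => ⟨w, trivial, c, Subtype.ext h⟩⟩

end CfsgLib.Forms
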