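import Cfsg.Agent.Forms.KleinPSL
import Cfsg.Agent.Small.Order24
import Cfsg.Agent.S0228

/-!
# Normalisers and classes of four-groups in `PSL₂(q)`, `q` odd
-/

set_option autoImplicit false
set_option linter.unusedSectionVars false

namespace CfsgLib.Forms.KleinPSL

open Matrix CfsgLib.SL2Trace
open scoped MatrixGroups

section general

variable {G : Type*} [Group G]

/-- The permutation of the three non-trivial elements of a group of order four. -/
theorem exists_perm_three {V : Type*} [Group V] (hV : Nat.card V = 4) :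
    ∃ (e : {v : V // v ≠ 1} ≃ Fin 3) (ρ : MulAut V →* Equiv.Perm (Fin 3)), Function.Injective ρ ∧
      ∀ φ v, ρ φ (e v) = e ⟨φ v.1, fun h => v.2 (φ.map_eq_one_iff.1 h)⟩ := by
  classical
  haveI : Finite V := Nat.finite_of_card_ne_zero (by omega)
  haveI := Fintype.ofFinite V
  have hc : Nat.card {v : V // v ≠ 1} = 3 := by
    rw [Nat.card_eq_fintype_card, Fintype.card_subtype_compl, Fintype.card_subtype_eq,
      ← Nat.card_eq_fintype_card, hV]
  let e : {v : V // v ≠ 1} ≃ Fin 3 := Finite.equivFinOfCardEq hc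
  let f : MulAut V →* Equiv.Perm {v : V // v ≠ 1} :=
    MonoidHom.mk' (fun φ => φ.toEquiv.subtypeEquiv fun v => by simp)
      (fun φ ψ => Equiv.ext fun v => Subtype.ext rfl)
  have hf : Function.Injective f := by
    intro φ ψ h
    refine MulEquiv.ext fun v => ?_
    by_cases hv : v = 1
    · rw [hv, map_one, map_one]
    · exact congrArg Subtype.val (Equiv.ext_iff.1 h ⟨v, hv⟩)
  refine ⟨e, e.permCongrHom.toMonoidHom.comp f, e.permCongrHom.injective.comp hf, fun φ v => ?_⟩
  show e.permCongr (f φ) (e v) = _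
  simp [Equiv.permCongr_apply]
  rfl

theorem mulAut_cases {V : Type*} [Group V] (hV : Nat.card V = 4) (φ : MulAut V) :
    φ ^ 2 = 1 ∨ φ ^ 3 = 1 := by
  obtain ⟨e, ρ, hρ, -⟩ := exists_perm_three hV
  have h : ∀ σ : Equiv.Perm (Fin 3), σ ^ 2 = 1 ∨ σ ^ 3 = 1 := by decide
  rcases h (ρ φ) with h | h <;> rw [← map_pow] at h
  · exact Or.inl (hρ (h.trans ρ.map_one.symm))
  · exact Or.inr (hρ (h.trans ρ.map_one.symm))

theorem mulAut_eq_one_of_fix {V : Type*} [Group V] (hV : Nat.card V = 4) (φ : MulAut V) (h3 : φ ^ 3 = 1)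
    {v : V} (hv : v ≠ 1) (hfix : φ v = v) : φ = 1 := by
  obtain ⟨e, ρ, hρ, hev⟩ := exists_perm_three hV
  have h : ∀ σ : Equiv.Perm (Fin 3), σ ^ 3 = 1 → ∀ i, σ i = i → σ = 1 := by decide
  have h' := hev φ ⟨v, hv⟩
  simp only [hfix] at h'
  exact hρ ((h _ (by rw [← map_pow, h3, map_one]) _ h').trans ρ.map_one.symm)

/-- The conjugates of a subgroup. -/
def orbit (V : Subgroup G) : Set (Subgroup G) :=
  {W | ∃ g : G, W = V.map (MulAut.conj g).toMonoidHom}

theorem card_orbit_mul [Finite G] (V : Subgroup G) :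
    Nat.card G = Nat.card (orbit V) * Nat.card (Subgroup.normalizer (V : Set G)) := by
  refine card_eq_mul_of_fibers (fun g : G => (⟨_, g, rfl⟩ : orbit V)) _ fun ⟨W, g₀, hW⟩ => ?_
  subst hW
  have key : ∀ n : G, n ∈ Subgroup.normalizer (V : Set G) ↔ V.map (MulAut.conj n).toMonoidHom = V := by
    intro n
    rw [Subgroup.mem_normalizer_iff]
    constructor
    · intro h
      ext c
      simp only [Subgroup.mem_map, MulEquiv.coe_toMonoidHom, MulAut.conj_apply]
      refine ⟨?_, fun hc => ⟨n⁻¹ * c * n, ?_, by group⟩⟩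
      · rintro ⟨d, hd, rfl⟩
        exact (h d).1 hd
      · rw [h]
        rwa [show n * (n⁻¹ * c * n) * n⁻¹ = c by group]
    · intro h c
      refine ⟨fun hc => h ▸ Subgroup.mem_map.2 ⟨c, hc, rfl⟩, fun hc => ?_⟩
      rw [← h, Subgroup.mem_map] at hc
      obtain ⟨d, hd, e⟩ := hc
      exact (MulAut.conj n).injective e ▸ hd
  have hmm : ∀ a b : G, V.map (MulAut.conj (a * b)).toMonoidHom =
      (V.map (MulAut.conj b).toMonoidHom).map (MulAut.conj a).toMonoidHom := by
    intro a b
    rw [Subgroup.map_map]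
    congr 1
    ext c
    simp [mul_assoc]
  refine Nat.card_congr ((Equiv.mulLeft g₀⁻¹).subtypeEquiv fun g => ?_)
  rw [key, Equiv.coe_mulLeft, hmm, Subtype.ext_iff]
  show V.map (MulAut.conj g).toMonoidHom = V.map (MulAut.conj g₀).toMonoidHom ↔ _
  constructor
  · intro h
    rw [h, Subgroup.map_map]
    convert Subgroup.map_id V
    ext c
    simp [mul_assoc]
  · intro h
    conv_rhs => rw [← h]
    rw [Subgroup.map_map, Subgroup.map_map]
    congr 1
    ext c
    simp [mul_assoc]

theorem orbit_kleinFour {V W : Subgroup G} (hV : IsKleinFour V) (hW : W ∈ orbit V) : IsKleinFour W := by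
  obtain ⟨g, rfl⟩ := hW
  let e := Subgroup.equivMapOfInjective V (MulAut.conj g).toMonoidHom (MulAut.conj g).injective
  exact ⟨(Nat.card_congr e.toEquiv).symm.trans hV.card_four,
    (Monoid.exponent_eq_of_mulEquiv e).symm.trans hV.exponent_two⟩

end general

variable {F : Type*} [Field F] [Fintype F]

local notation "PSL₂F" => Matrix.ProjectiveSpecialLinearGroup (Fin 2) F

theorem exists_two (V : Subgroup PSL₂F) (hV : IsKleinFour V) :
    ∃ a b, a ∈ V ∧ b ∈ V ∧ a ≠ 1 ∧ b ≠ 1 ∧ a ≠ b := by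
  have h := card_ordered_pairs hV.card_four
  obtain ⟨⟨⟨⟨a, ha⟩, ⟨b, hb⟩⟩, h1, h2, h3⟩⟩ :
      Nonempty {p : V × V // p.1 ≠ 1 ∧ p.2 ≠ 1 ∧ p.1 ≠ p.2} :=
    (Nat.card_pos_iff.1 (by omega)).1
  exact ⟨a, b, ha, hb, fun e => h1 (Subtype.ext e), fun e => h2 (Subtype.ext e),
    fun e => h3 (Subtype.ext e)⟩

/-- A four-group is its own centraliser. -/
theorem centralizer_eq (h2 : (2 : F) ≠ 0) (V : Subgroup PSL₂F) (hV : IsKleinFour V) :
    Subgroup.centralizer (V : Set PSL₂F) = V := by
  refine le_antisymm (fun g hg => ?_) (fun v hv w hw => Small.kleinFour_comm hV hw hv)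
  obtain ⟨a, b, ha, hb, ha1, hb1, hab⟩ := exists_two V hV
  obtain ⟨x, rfl, hx⟩ := exists_lift_of_orderOf_two h2 ha1 (Small.kleinFour_mul_self hV ha)
  obtain ⟨y, rfl, hy⟩ := exists_lift_of_orderOf_two h2 hb1 (Small.kleinFour_mul_self hV hb)
  have hxy := anticomm_of_proj_comm h2 hx hy hab (Small.kleinFour_comm hV ha hb)
  obtain ⟨z, rfl⟩ := QuotientGroup.mk'_surjective _ g
  have hzx : z * x = x * z ∨ z * x = -(x * z) := by
    have := hg _ ha
    rw [← map_mul, ← map_mul, proj_eq_proj_iff] at this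
    exact this
  have hzy : z * y = y * z ∨ z * y = -(y * z) := by
    have := hg _ hb
    rw [← map_mul, ← map_mul, proj_eq_proj_iff] at this
    exact this
  have key : ∀ u : SL(2, F), u * x = x * u → u * y = y * u → projHom u = 1 := by
    intro u hux huy
    rw [proj_eq_one_iff']
    refine SL2Tori.eq_one_or_neg_one_of_sq h2 ?_
    have h := SL2Tori.conj_eq_inv (tr_sq_ne_four h2 hx) (invert_of_anticomm hx hxy)
      (Subgroup.mem_centralizer_singleton_iff.2 hux)
    rw [← huy, mul_inv_cancel_right] at h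
    exact eq_inv_iff_mul_eq_one.1 h
  obtain ⟨u, hu, h1, h2'⟩ :
      ∃ u, projHom u ∈ V ∧ z * u * x = x * (z * u) ∧ z * u * y = y * (z * u) := by
    rcases hzx with e1 | e1 <;> rcases hzy with e2 | e2
    · exact ⟨1, by rw [map_one]; exact one_mem _, by rw [mul_one, e1], by rw [mul_one, e2]⟩
    · refine ⟨x, ha, ?_, ?_⟩
      · rw [e1, mul_assoc x z x, e1]
      · have e3 : x * y = -(y * x) := by rw [hxy, neg_neg]
        rw [mul_assoc, e3, mul_neg, ← mul_assoc, e2, neg_mul, neg_neg, mul_assoc]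
    · refine ⟨y, hb, ?_, ?_⟩
      · rw [mul_assoc, hxy, mul_neg, ← mul_assoc, e1, neg_mul, neg_neg, mul_assoc]
      · rw [e2, mul_assoc y z y, e2]
    · refine ⟨x * y, by rw [map_mul]; exact mul_mem ha hb, ?_, ?_⟩
      · have e3 : x * y * x = -(x * (x * y)) := by rw [mul_assoc, hxy, mul_neg]
        rw [mul_assoc, e3, mul_neg, ← mul_assoc, e1, neg_mul, neg_neg, mul_assoc]
      · have e3 : x * y * y = -(y * (x * y)) := by
          rw [← mul_assoc y x y, hxy, neg_mul, neg_neg]
        rw [mul_assoc, e3, mul_neg, ← mul_assoc, e2, neg_mul, neg_neg, mul_assoc]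
  have h := key _ h1 h2'
  rw [map_mul] at h
  rw [eq_inv_of_mul_eq_one_left h]
  exact inv_mem hu

theorem ker_normalizerHom (h2 : (2 : F) ≠ 0) (V : Subgroup PSL₂F) (hV : IsKleinFour V) :
    V.normalizerMonoidHom.ker = V.subgroupOf (Subgroup.normalizer (V : Set PSL₂F)) := by
  rw [Subgroup.normalizerMonoidHom_ker, centralizer_eq h2 V hV]

theorem card_normalizer_eq (h2 : (2 : F) ≠ 0) (V : Subgroup PSL₂F) (hV : IsKleinFour V) :
    Nat.card (Subgroup.normalizer (V : Set PSL₂F)) = 4 * Nat.card V.normalizerMonoidHom.range := by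
  rw [← Subgroup.index_ker, ← Subgroup.card_mul_index V.normalizerMonoidHom.ker, ker_normalizerHom h2 V hV,
    Nat.card_congr (Subgroup.subgroupOfEquivOfLe Subgroup.le_normalizer).toEquiv, hV.card_four]

/-- An element of the normaliser inducing an automorphism of order three. -/
theorem exists_order_three (h2 : (2 : F) ≠ 0) (V : Subgroup PSL₂F) (hV : IsKleinFour V) :
    ∃ φ ∈ V.normalizerMonoidHom.range, φ ≠ 1 ∧ φ ^ 3 = 1 := by
  obtain ⟨a, b, ha, hb, ha1, hb1, hab⟩ := exists_two V hV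
  obtain ⟨x, rfl, hx⟩ := exists_lift_of_orderOf_two h2 ha1 (Small.kleinFour_mul_self hV ha)
  obtain ⟨y, rfl, hy⟩ := exists_lift_of_orderOf_two h2 hb1 (Small.kleinFour_mul_self hV hb)
  have hxy := anticomm_of_proj_comm h2 hx hy hab (Small.kleinFour_comm hV ha hb)
  obtain ⟨h, h1, h1'⟩ := SL2Tori.exists_triality h2 (Inv53.sl2_coe_sq.1 hx) (Inv53.sl2_coe_sq.1 hy)
    (congrArg Subtype.val hxy)
  have c1 : projHom h * projHom x * (projHom h)⁻¹ = projHom y := by
    rw [← map_mul, h1, map_mul, mul_inv_cancel_right]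
  have c2 : projHom h * projHom y * (projHom h)⁻¹ = projHom x * projHom y := by
    rw [← map_mul, h1', map_mul, mul_inv_cancel_right, map_mul]
  generalize projHom h = n at c1 c2
  have c3 : n * (projHom x * projHom y) * n⁻¹ = projHom x := by
    rw [show n * (projHom x * projHom y) * n⁻¹ = (n * projHom x * n⁻¹) * (n * projHom y * n⁻¹) by group,
      c1, c2, Small.kleinFour_comm hV ha hb, ← mul_assoc, Small.kleinFour_mul_self hV hb, one_mul]
  have hle : ∀ c ∈ V, n * c * n⁻¹ ∈ V := by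
    intro c hc
    rcases Small.kleinFour_cases hV ha hb hc ha1 hb1 hab with rfl | rfl | rfl | rfl
    · simp
    · rw [c1]; exact hb
    · rw [c2]; exact mul_mem ha hb
    · rw [c3]; exact ha
  have hmem : n ∈ Subgroup.normalizer (V : Set PSL₂F) := by
    have hmap : V.map (MulAut.conj n).toMonoidHom = V := by
      refine Subgroup.eq_of_le_of_card_ge ?_ ?_
      · rintro _ ⟨c, hc, rfl⟩
        exact hle c hc
      · rw [Subgroup.card_map_of_injective (MulAut.conj n).injective]
    rw [Subgroup.mem_normalizer_iff]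
    refine fun c => ⟨hle c, fun hc => ?_⟩
    rw [← hmap] at hc
    obtain ⟨d, hd, e⟩ := hc
    exact (MulAut.conj n).injective e ▸ hd
  refine ⟨V.normalizerMonoidHom ⟨n, hmem⟩, ⟨_, rfl⟩, fun e => ?_, ?_⟩
  · have := congrArg Subtype.val (DFunLike.congr_fun e ⟨_, ha⟩)
    exact hab (this.symm.trans c1)
  · refine MulEquiv.ext fun c => ?_
    apply Subtype.ext
    show n * (n * (n * (c : PSL₂F) * n⁻¹) * n⁻¹) * n⁻¹ = (c : PSL₂F)
    rcases Small.kleinFour_cases hV ha hb c.2 ha1 hb1 hab with e | e | e | e <;> rw [e]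
    · simp
    · rw [c1, c2, c3]
    · rw [c2, c3, c1]
    · rw [c3, c1, c2]

theorem card_range (h2 : (2 : F) ≠ 0) (V : Subgroup PSL₂F) (hV : IsKleinFour V) :
    Nat.card V.normalizerMonoidHom.range = 3 ∨ Nat.card V.normalizerMonoidHom.range = 6 := by
  obtain ⟨φ, hφ, hne, h3⟩ := exists_order_three h2 V hV
  haveI : Fact (Nat.Prime 3) := ⟨Nat.prime_three⟩
  have h1 : 3 ∣ Nat.card V.normalizerMonoidHom.range :=
    (orderOf_eq_prime h3 hne) ▸ Subgroup.orderOf_dvd_natCard _ hφ
  have h6 : Nat.card V.normalizerMonoidHom.range ∣ 6 :=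
    (Subgroup.card_subgroup_dvd_card _).trans (TwoGroups.card_mulAut_dvd_six hV.card_four)
  have hle := Nat.le_of_dvd (by norm_num) h6
  generalize Nat.card V.normalizerMonoidHom.range = c at *
  interval_cases c <;> omega

theorem eight_dvd_iff (hodd : Odd (Fintype.card F)) :
    8 ∣ Nat.card PSL₂F ↔ (Fintype.card F % 8 = 1 ∨ Fintype.card F % 8 = 7) := by
  have h := Linear.card_PSL_two_odd (F := F) hodd
  generalize Nat.card PSL₂F = N at h ⊢
  obtain ⟨k, hk⟩ := hodd
  generalize Fintype.card F = q at h hk ⊢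
  subst hk
  have e : (2 * k + 1) ^ 2 - 1 = 4 * (k * (k + 1)) := by
    rw [show (2 * k + 1) ^ 2 = 4 * (k * (k + 1)) + 1 by ring, Nat.add_sub_cancel]
  rw [e] at h
  have hN : N = 2 * ((2 * k + 1) * (k * (k + 1))) := by
    rw [show (2 * k + 1) * (4 * (k * (k + 1))) = 2 * (2 * ((2 * k + 1) * (k * (k + 1)))) by ring] at h
    omega
  rw [hN, show (8 : ℕ) = 2 * 2 ^ 2 from rfl, mul_dvd_mul_iff_left two_ne_zero]
  have hc : Nat.Coprime (2 ^ 2) (2 * k + 1) := by
    apply Nat.Coprime.pow_left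
    rw [Nat.prime_two.coprime_iff_not_dvd]
    omega
  rw [hc.dvd_mul_left, show 2 ^ 2 = 4 from rfl, Nat.dvd_iff_mod_eq_zero, Nat.mul_mod,
    Nat.add_mod k 1]
  have h4 : k % 4 < 4 := Nat.mod_lt _ (by norm_num)
  interval_cases hk4 : k % 4 <;> norm_num <;> omega

/-- The normaliser of a four-group has order 12 or 24 according to `q` modulo 8. -/
theorem card_normalizer (hodd : Odd (Fintype.card F)) (V : Subgroup PSL₂F) (hV : IsKleinFour V) :
    Nat.card (Subgroup.normalizer (V : Set PSL₂F)) =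
      if Fintype.card F % 8 = 1 ∨ Fintype.card F % 8 = 7 then 24 else 12 := by
  have h2 := SL2Tori.two_ne_zero_of_odd hodd
  haveI : Fact (Nat.Prime 2) := ⟨Nat.prime_two⟩
  have h := card_normalizer_eq h2 V hV
  have hr := card_range h2 V hV
  have hd := Subgroup.card_subgroup_dvd_card (Subgroup.normalizer (V : Set PSL₂F))
  split_ifs with hq
  · have h8 : 2 ^ (2 + 1) ∣ Nat.card (Subgroup.normalizer (V : Set PSL₂F)) :=
      Sylow.prime_pow_dvd_card_normalizer ((eight_dvd_iff hodd).2 hq) (by rw [hV.card_four]; rfl)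
    norm_num at h8
    rcases hr with e | e <;> rw [e] at h <;> omega
  · rcases hr with e | e
    · rw [h, e]
    · exact absurd ((eight_dvd_iff hodd).1 (dvd_trans (by rw [h, e]; norm_num) hd)) hq

/-- The four-groups form one class (`q ≡ ±3 mod 8`) or two (`q ≡ ±1 mod 8`). -/
theorem classes (hodd : Odd (Fintype.card F)) :
    ((Fintype.card F % 8 = 3 ∨ Fintype.card F % 8 = 5) → ∀ V W : Subgroup PSL₂F, IsKleinFour V →
      IsKleinFour W → W ∈ orbit V) ∧
    ((Fintype.card F % 8 = 1 ∨ Fintype.card F % 8 = 7) → ∃ V₁ V₂ : Subgroup PSL₂F,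
      IsKleinFour V₁ ∧ IsKleinFour V₂ ∧ V₂ ∉ orbit V₁ ∧
      ∀ W : Subgroup PSL₂F, IsKleinFour W → W ∈ orbit V₁ ∨ W ∈ orbit V₂) := by
  have hcount : 12 * Nat.card {V : Subgroup PSL₂F | IsKleinFour V} = Nat.card PSL₂F :=
    card_kleinFour hodd
  have hpos : 0 < Nat.card PSL₂F := Nat.card_pos
  have hsub : ∀ V : Subgroup PSL₂F, IsKleinFour V → orbit V ⊆ {W : Subgroup PSL₂F | IsKleinFour W} :=
    fun V hV W hW => orbit_kleinFour hV hW
  simp only [Nat.card_coe_set_eq] at hcount
  constructor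
  · intro hq V W hV hW
    have h := card_orbit_mul V
    rw [card_normalizer hodd V hV, if_neg (by omega), Nat.card_coe_set_eq] at h
    have heq := Set.eq_of_subset_of_ncard_le (hsub V hV) (by omega) (Set.toFinite _)
    rw [heq]
    exact hW
  · intro hq
    have horb : ∀ V : Subgroup PSL₂F, IsKleinFour V →
        2 * (orbit V).ncard = {W : Subgroup PSL₂F | IsKleinFour W}.ncard := by
      intro V hV
      have h := card_orbit_mul V
      rw [card_normalizer hodd V hV, if_pos hq, Nat.card_coe_set_eq] at h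
      omega
    obtain ⟨V₁, hV₁⟩ : {W : Subgroup PSL₂F | IsKleinFour W}.Nonempty :=
      Set.nonempty_of_ncard_ne_zero (by omega)
    have h1 := horb V₁ hV₁
    obtain ⟨V₂, hV₂, hne⟩ : ∃ V₂, V₂ ∈ {W : Subgroup PSL₂F | IsKleinFour W} ∧ V₂ ∉ orbit V₁ := by
      by_contra hcon
      push Not at hcon
      have := Set.ncard_le_ncard (fun W hW => hcon W hW) (Set.toFinite (orbit V₁))
      omega
    refine ⟨V₁, V₂, hV₁, hV₂, hne, fun W hW => ?_⟩
    have hdisj : Disjoint (orbit V₁) (orbit V₂) := by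
      rw [Set.disjoint_left]
      rintro U ⟨g, rfl⟩ ⟨k, hk⟩
      refine hne ⟨k⁻¹ * g, ?_⟩
      have h : (V₂.map (MulAut.conj k).toMonoidHom).map (MulAut.conj k⁻¹).toMonoidHom = V₂ := by
        rw [Subgroup.map_map]
        convert Subgroup.map_id V₂
        ext c
        simp [mul_assoc]
      rw [← h, ← hk, Subgroup.map_map]
      congr 1
      ext c
      simp [mul_assoc]
    have heq := Set.eq_of_subset_of_ncard_le (Set.union_subset (hsub V₁ hV₁) (hsub V₂ hV₂))
      (by rw [Set.ncard_union_eq hdisj (Set.toFinite _) (Set.toFinite _)]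
          have h2 := horb V₂ hV₂
          omega) (Set.toFinite _)
    have : W ∈ orbit V₁ ∪ orbit V₂ := by rw [heq]; exact hW
    exact this

theorem equiv_perm_four (hodd : Odd (Fintype.card F))
    (hq : Fintype.card F % 8 = 1 ∨ Fintype.card F % 8 = 7) (V : Subgroup PSL₂F) (hV : IsKleinFour V) :
    Nonempty (Subgroup.normalizer (V : Set PSL₂F) ≃* Equiv.Perm (Fin 4)) := by
  have h2 := SL2Tori.two_ne_zero_of_odd hodd
  refine Small.equiv_perm_four_of_order24 (by rw [card_normalizer hodd V hV, if_pos hq]) fun g hg => ?_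
  set f := V.normalizerMonoidHom with hf
  have hker : ∀ n : Subgroup.normalizer (V : Set PSL₂F), f n = 1 ↔ (n : PSL₂F) ∈ V := by
    intro n
    rw [← MonoidHom.mem_ker, ker_normalizerHom h2 V hV, Subgroup.mem_subgroupOf]
  have hne : ∀ k, 0 < k → k < 6 → (g : PSL₂F) ^ k ≠ 1 := by
    intro k hk1 hk2 e
    have := orderOf_le_of_pow_eq_one hk1 (show g ^ k = 1 from Subtype.ext e)
    omega
  rcases mulAut_cases hV.card_four (f g) with h | h
  · rw [← map_pow, hker] at h
    have := Small.kleinFour_mul_self hV h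
    rw [SubmonoidClass.coe_pow, ← pow_add] at this
    exact hne 4 (by norm_num) (by norm_num) this
  · have h' := h
    rw [← map_pow, hker, SubmonoidClass.coe_pow] at h'
    have hg1 : f g = 1 := by
      refine mulAut_eq_one_of_fix hV.card_four _ h (v := ⟨_, h'⟩)
        (fun e => hne 3 (by norm_num) (by norm_num) (congrArg Subtype.val e)) ?_
      apply Subtype.ext
      show (g : PSL₂F) * (g : PSL₂F) ^ 3 * (g : PSL₂F)⁻¹ = (g : PSL₂F) ^ 3
      group
    rw [hker] at hg1
    have := Small.kleinFour_mul_self hV hg1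
    rw [← pow_two] at this
    exact hne 2 (by norm_num) (by norm_num) this

theorem exists_alternating_four (hodd : Odd (Fintype.card F)) :
    ∃ H : Subgroup PSL₂F, Nonempty (H ≃* alternatingGroup (Fin 4)) := by
  have h2 := SL2Tori.two_ne_zero_of_odd hodd
  have hcount := card_kleinFour (F := F) hodd
  have hpos : 0 < Nat.card PSL₂F := Nat.card_pos
  obtain ⟨⟨V, hV⟩⟩ : Nonempty {V : Subgroup PSL₂F // IsKleinFour V} :=
    (Nat.card_pos_iff.1 (by omega)).1
  set f := V.normalizerMonoidHom with hf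
  obtain ⟨φ, hφ, hne, h3⟩ := exists_order_three h2 V hV
  haveI : Fact (Nat.Prime 3) := ⟨Nat.prime_three⟩
  have hφ3 : Nat.card (Subgroup.zpowers φ) = 3 := by rw [Nat.card_zpowers, orderOf_eq_prime h3 hne]
  set K := (Subgroup.zpowers φ).comap f with hK
  have hker : ∀ n : Subgroup.normalizer (V : Set PSL₂F), f n = 1 ↔ (n : PSL₂F) ∈ V := by
    intro n
    rw [← MonoidHom.mem_ker, ker_normalizerHom h2 V hV, Subgroup.mem_subgroupOf]
  have hcard : Nat.card K = 12 := by
    have h1 := Subgroup.card_mul_index K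
    have h2' : K.index = (Subgroup.zpowers φ).relIndex f.range := Subgroup.index_comap _ f
    have h3' := Subgroup.card_mul_index ((Subgroup.zpowers φ).subgroupOf f.range)
    rw [Nat.card_congr (Subgroup.subgroupOfEquivOfLe (Subgroup.zpowers_le.2 hφ)).toEquiv, hφ3] at h3'
    change 3 * (Subgroup.zpowers φ).relIndex f.range = _ at h3'
    rw [card_normalizer_eq h2 V hV, h2', ← hf, ← h3',
      show 4 * (3 * (Subgroup.zpowers φ).relIndex f.range) = 12 * (Subgroup.zpowers φ).relIndex f.range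
      by ring] at h1
    refine Nat.eq_of_mul_eq_mul_right ?_ h1
    rcases Nat.eq_zero_or_pos ((Subgroup.zpowers φ).relIndex f.range) with h0 | h0
    · rw [h0, mul_zero] at h3'
      have : 0 < Nat.card f.range := Nat.card_pos
      omega
    · exact h0
  obtain ⟨e⟩ := Cfsg.Agent.S0228.result hcard fun z hz hc => by
    have hz2 : z * z = 1 := by rw [← pow_two]; exact orderOf_dvd_iff_pow_eq_one.1 hz.dvd
    have hzV : (z : Subgroup.normalizer (V : Set PSL₂F)).1 ∈ V := by
      rw [← hker]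
      obtain ⟨i, hi⟩ := Subgroup.mem_zpowers_iff.1 (Subgroup.mem_comap.1 z.2)
      have e1 : f z * f z = 1 := by rw [← map_mul, ← Subgroup.coe_mul, hz2, Subgroup.coe_one, map_one]
      have e2 : f z ^ 3 = 1 := by
        rw [← hi, ← zpow_natCast, ← _root_.zpow_mul, mul_comm, _root_.zpow_mul, zpow_natCast, h3, _root_.one_zpow]
      rwa [pow_succ, pow_two, e1, one_mul] at e2
    obtain ⟨k, hk⟩ := hφ
    have hkK : k ∈ K := by
      rw [hK, Subgroup.mem_comap, hk]
      exact Subgroup.mem_zpowers φ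
    apply hne
    refine mulAut_eq_one_of_fix hV.card_four _ h3 (v := ⟨_, hzV⟩) (fun e => ?_) ?_
    · have : z = 1 := Subtype.ext (Subtype.ext (congrArg Subtype.val e :))
      rw [this, orderOf_one] at hz
      omega
    · rw [← hk]
      apply Subtype.ext
      show (k : PSL₂F) * (z : Subgroup.normalizer (V : Set PSL₂F)).1 * (k : PSL₂F)⁻¹ = _
      have := congrArg (fun w : K => ((w : Subgroup.normalizer (V : Set PSL₂F)) : PSL₂F))
        (Subgroup.mem_center_iff.1 hc ⟨k, hkK⟩)
      simp only [Subgroup.coe_mul] at this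
      rw [this, mul_inv_cancel_right]
  exact ⟨K.map (Subgroup.normalizer (V : Set PSL₂F)).subtype,
    ⟨((Subgroup.equivMapOfInjective K _ (Subgroup.subtype_injective _)).symm).trans e⟩⟩

end CfsgLib.Forms.KleinPSL
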