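import Cfsg.Agent.ChevClassical.DataD4
import Cfsg.Agent.S1081
import Cfsg.Agent.AutPOmega.Group
import Cfsg.Agent.AutPOmega.Std

/-!
# Triality on `PΩ⁺₈`

The order three graph automorphism of `chevD4`, moved to `PΩ` of `∑ xᵢyᵢ`, is not induced by a
semisimilarity, and neither is its square: it sends a product of two root elements whose
`g - 1` has totally singular image to one without this property.
-/

set_option autoImplicit false
set_option linter.unusedSectionVars false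
set_option maxHeartbeats 800000

namespace CfsgLib.TrialityD4

open Matrix CfsgLib.ChevClassical

variable {F : Type*} [Field F]

/-- `g - 1` has totally singular image. -/
def SingMove {ι : Type} [Fintype ι] [DecidableEq ι] (f : (ι → F) → F) (g : GL ι F) : Prop :=
  ∀ v, f ((g : Matrix ι ι F) *ᵥ v - v) = 0

/-- The data separating triality from the semisimilarities. -/
def Witness {ι : Type} [Fintype ι] [DecidableEq ι] (f : (ι → F) → F) : Prop :=
  ∃ (τ : MulAut (Cfsg.POmega F f)) (k k₂ k' : ↥(Cfsg.Omega F f)),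
    τ (QuotientGroup.mk' _ k) = QuotientGroup.mk' _ k' ∧
    τ (τ (QuotientGroup.mk' _ k₂)) = QuotientGroup.mk' _ k' ∧
    SingMove f k.1.1 ∧ SingMove f k₂.1.1 ∧
    (∃ u, f u = 1 ∧ (k'.1.1 : Matrix ι ι F) *ᵥ u = u) ∧
    ∃ v, f ((k'.1.1 : Matrix ι ι F) *ᵥ v - v) ≠ 0

theorem frame_Q_eq : frameD4.Q F = Cfsg.quadFormPlus 4 F := by
  funext v
  simp [Frame.Q, Cfsg.quadFormPlus, frameD4, Fintype.sum_sum_type]

/-- The isomorphism with the Chevalley group, with its value. -/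
theorem exists_equiv
    (hgen : (∃ a : F, a ≠ 0 ∧ a ≠ 1) ∨ ((∀ q, frameD4.mate q ≠ q) ∧ ∀ p q, frameD4.mate p ≠ p →
      ∃ r, frameD4.mate r ≠ r ∧ r ≠ p ∧ r ≠ frameD4.mate p ∧ r ≠ q ∧ r ≠ frameD4.mate q)) :
    Cfsg.Omega F (frameD4.Q F) = rootSub frameD4 F ∧
    ∃ e : Cfsg.POmega F (frameD4.Q F) ≃* ↥(Cfsg.Lie.chevD4.group F),
      ∀ g, ((e (QuotientGroup.mk' _ g) : GL Cfsg.Lie.chevD4.Idx F) :
        Matrix Cfsg.Lie.chevD4.Idx Cfsg.Lie.chevD4.Idx F) =
        adjMat modelD4 (g : frameD4.O F) := by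
  have h := modelD4_ok
  have hO : Cfsg.Omega F (frameD4.Q F) = rootSub frameD4 F := commutator_O frameD4 h.two hgen
  refine ⟨hO, ?_⟩
  let φ : ↥(Cfsg.Omega F (frameD4.Q F)) →* ↥(Cfsg.Lie.chevD4.group F) :=
    ((MulEquiv.subgroupCongr (adjGL_range (F := F) h)).toMonoidHom.comp
      (adjGL (F := F) h).rangeRestrict).comp (MulEquiv.subgroupCongr hO).toMonoidHom
  have hval : ∀ g, ((φ g : GL Cfsg.Lie.chevD4.Idx F) :
        Matrix Cfsg.Lie.chevD4.Idx Cfsg.Lie.chevD4.Idx F) = adjMat modelD4 (g : frameD4.O F) := fun g => rfl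
  have hsurj : Function.Surjective φ :=
    ((MulEquiv.subgroupCongr (adjGL_range (F := F) h)).surjective.comp
      (adjGL (F := F) h).rangeRestrict_surjective).comp (MulEquiv.subgroupCongr hO).surjective
  have hker : φ.ker = Subgroup.center ↥(Cfsg.Omega F (frameD4.Q F)) := by
    ext g
    rw [MonoidHom.mem_ker, Subgroup.mem_center_iff]
    constructor
    · intro hg k
      have h1 : adjMat modelD4 (g : frameD4.O F) = 1 := by rw [← hval g, hg]; rfl
      obtain ⟨c, -, hc⟩ := scalar_of_adjMat_eq_one h h1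
      exact Subtype.ext (scalar_commute h hc _)
    · intro hg
      obtain ⟨c, hc2, hc⟩ := scalar_of_central h (g := (g : frameD4.O F)) fun k hk => by
        have := hg ⟨k, hO ▸ hk⟩
        exact (congrArg Subtype.val this).symm
      refine Subtype.ext (Units.ext ?_)
      rw [hval g, adjMat_scalar h hc2 hc]
      rfl
  exact ⟨(QuotientGroup.quotientMulEquivOfEq hker.symm).trans
    (QuotientGroup.quotientKerEquivOfSurjective φ hsurj), fun g => hval g⟩

theorem witness_frame : Witness (frameD4.Q F) := by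
  have h := modelD4_ok
  have hgen : (∃ a : F, a ≠ 0 ∧ a ≠ 1) ∨ ((∀ q, frameD4.mate q ≠ q) ∧ ∀ p q, frameD4.mate p ≠ p →
      ∃ r, frameD4.mate r ≠ r ∧ r ≠ p ∧ r ≠ frameD4.mate p ∧ r ≠ q ∧ r ≠ frameD4.mate q) :=
    Or.inr (by decide)
  obtain ⟨hO, e, he⟩ := exists_equiv (F := F) hgen
  obtain ⟨α, hα⟩ := Cfsg.Agent.S1081.result (F := F) (Cfsg.Lie.chevD4, [2, 1, 3, 0]) (by simp)
  let R : Fin Cfsg.Lie.chevD4.nroots → ↥(Cfsg.Omega F (frameD4.Q F)) := fun r =>
    ⟨rootO h r 1, by rw [hO]; exact rootO_mem h r 1⟩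
  have hR : ∀ r : Fin Cfsg.Lie.chevD4.nroots,
      ((e (QuotientGroup.mk' _ (R r)) : GL Cfsg.Lie.chevD4.Idx F) :
        Matrix Cfsg.Lie.chevD4.Idx Cfsg.Lie.chevD4.Idx F) = Cfsg.Lie.chevD4.x F r 1 :=
    fun r => by rw [he]; exact adjMat_root h r 1
  have hstep : ∀ (i : ℕ) (r s : Fin Cfsg.Lie.chevD4.nroots), i < 4 →
      Cfsg.Lie.chevD4.simple i = (r : ℕ) →
      Cfsg.Lie.chevD4.simple (([2, 1, 3, 0] : List ℕ).getD i 0) = (s : ℕ) →
      α (e (QuotientGroup.mk' _ (R r))) = e (QuotientGroup.mk' _ (R s)) := by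
    intro i r s hi hr hs
    refine Subtype.ext (Units.ext ?_)
    rw [hR s, ← hs]
    exact (hα _ i 1 hi).1 (by rw [hR r, hr])
  let τ : MulAut (Cfsg.POmega F (frameD4.Q F)) := e.trans (α.trans e.symm)
  have hτ : ∀ (i : ℕ) (r s : Fin Cfsg.Lie.chevD4.nroots), i < 4 →
      Cfsg.Lie.chevD4.simple i = (r : ℕ) →
      Cfsg.Lie.chevD4.simple (([2, 1, 3, 0] : List ℕ).getD i 0) = (s : ℕ) →
      τ (QuotientGroup.mk' _ (R r)) = QuotientGroup.mk' _ (R s) := fun i r s hi hr hs => by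
    show e.symm (α (e _)) = _
    rw [hstep i r s hi hr hs, MulEquiv.symm_apply_apply]
  have h18 := hτ 0 ⟨18, by decide⟩ ⟨13, by decide⟩ (by omega) rfl rfl
  have h13 := hτ 2 ⟨13, by decide⟩ ⟨12, by decide⟩ (by omega) rfl rfl
  have h12 := hτ 3 ⟨12, by decide⟩ ⟨18, by decide⟩ (by omega) rfl rfl
  have happ : ∀ (r : Fin Cfsg.Lie.chevD4.nroots) (v : Fin 4 ⊕ Fin 4 → F),
      ((R r).1.1 : Matrix _ _ F) *ᵥ v = frameD4.eichFun (modelD4.root r).1
        ((((modelD4.root r).2.2 : F) * 1) • dlt (modelD4.root r).2.1) v :=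
    fun r v => (show ChevClassical.app (rootO h r 1) v = _ by rw [rootO, app_eichO])
  refine ⟨τ, R ⟨18, by decide⟩ * R ⟨13, by decide⟩, R ⟨12, by decide⟩ * R ⟨18, by decide⟩,
    R ⟨13, by decide⟩ * R ⟨12, by decide⟩, ?_, ?_, ?_, ?_,
    ⟨dlt (.inl 0) + dlt (.inr 0), ?_, ?_⟩, dlt (.inr 2), ?_⟩
  · rw [map_mul, map_mul τ, h18, h13, map_mul]
  · rw [map_mul, map_mul τ, map_mul τ, h12, h18, h13, map_mul]
  all_goals
    (try simp only [SingMove, Subgroup.coe_mul, Units.val_mul, ← Matrix.mulVec_mulVec, happ, mul_one])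
  all_goals
    simp [Frame.eichFun, Frame.B, Frame.Q, frameD4, modelD4, modelRootD4, Fintype.sum_sum_type,
      Fin.sum_univ_four, dlt, Pi.single_apply, funext_iff, Fin.forall_fin_succ]

theorem witness : Witness (⇑(CfsgLib.StdForms.plusQ 4 F)) := by
  rw [CfsgLib.StdForms.coe_plusQ, ← frame_Q_eq]
  exact witness_frame

open CfsgLib.AutPOmega

/-- Triality and its square are not induced by semisimilarities. -/
theorem exists_triality [Finite F] :
    ∃ τ : MulAut (Cfsg.POmega F ⇑(CfsgLib.StdForms.plusQ 4 F)),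
      (∀ S : Semi (CfsgLib.StdForms.plusQ 4 F), S.aut ≠ τ) ∧
      ∀ S : Semi (CfsgLib.StdForms.plusQ 4 F), S.aut ≠ τ * τ := by
  obtain ⟨τ, k, k₂, k', h1, h2, hk, hk₂, ⟨u, hu, hku⟩, v, hv⟩ := witness (F := F)
  have C := ctx_plusQ (F := F) (m := 4) le_rfl
  have main : ∀ (S : Semi (CfsgLib.StdForms.plusQ 4 F)) (j : OG _),
      SingMove (⇑(CfsgLib.StdForms.plusQ 4 F)) j.1.1 → S.aut (pr _ j) ≠ pr _ k' := by
    intro S j hj e
    rw [S.aut_pr] at e
    have hz := QuotientGroup.eq.1 e.symm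
    obtain ⟨c, hc, hcm⟩ := (CfsgLib.Forms4.TwoPairs.mem_center_omega_iff C.nondeg C.five
      C.pairs.some.toTwoPairs _).1 hz
    have hmove : ∀ w, app (S.omegaMap j) w = c • app k' w := fun w => by
      have e2 : S.omegaMap j = k' * (k'⁻¹ * S.omegaMap j) := (mul_inv_cancel_left _ _).symm
      have hz' : ∀ x, app (k'⁻¹ * S.omegaMap j) x = c • x := fun x => by
        show _ *ᵥ x = _
        rw [hcm, Matrix.smul_mulVec, Matrix.one_mulVec]
      rw [e2, AutPOmega.app_mul, hz', AutPOmega.app_smul]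
    have key : ∀ w, CfsgLib.StdForms.plusQ 4 F (c • app k' w - w) = 0 := fun w => by
      obtain ⟨x, rfl⟩ := S.fn_surjective w
      rw [← hmove, S.app_omegaMap]
      have hs : S.fn (app j x) - S.fn x = S.fn (app j x - x) := by
        have h3 := S.fn_add (app j x - x) x
        rw [sub_add_cancel] at h3
        exact sub_eq_of_eq_add h3
      rw [hs, Semi.fn, S.quad, hj x, map_zero, mul_zero]
    have hc1 : c = 1 := by
      have h3 := key u
      rw [show app k' u = u from hku, show c • u - u = (c - 1) • u by module,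
        QuadraticMap.map_smul, hu, smul_eq_mul, mul_one] at h3
      exact sub_eq_zero.1 (mul_self_eq_zero.1 h3)
    have h4 := key v
    rw [hc1, one_smul] at h4
    exact hv h4
  refine ⟨τ, fun S hS => main S k hk ?_, fun S hS => main S k₂ hk₂ ?_⟩
  · rw [hS]; exact h1
  · rw [hS]; exact h2

end CfsgLib.TrialityD4
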