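import Cfsg.Agent.Forms.OrthDet
import Cfsg.Agent.Forms.OrthPerp

/-!
# The subgroup generated by one class of reflections

Main results: `exists_reflIso_of_det_neg`, `index_closure_class`.
-/

namespace CfsgLib.Forms

open Matrix Module CfsgLib.Spinor

variable {F : Type*} [Field F] {ι : Type} [Fintype ι] [DecidableEq ι] {Q : QuadraticForm F (ι → F)}

/-- In dimension two an isometry of determinant `-1` is a reflection. -/
theorem exists_reflIso_of_det_neg (h2 : (2 : F) ≠ 0)
    (hQ : (QuadraticMap.polarBilin Q).Nondegenerate) (hn : Fintype.card ι = 2)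
    (h : ↥(Cfsg.isometryGroup F ⇑Q)) (hdet : (mat Q h).det = -1) :
    ∃ (v : ι → F) (hv : Q v ≠ 0), h = reflIso Q v hv := by
  obtain ⟨b₀, hb₀, hb0₀⟩ := exists_orthogonal_anisotropic_basis h2 hQ
  obtain ⟨b, hb, hba⟩ : ∃ b : Basis (Fin 2) F (ι → F),
      QuadraticMap.polar (⇑Q) (b 0) (b 1) = 0 ∧ ∀ i, Q (b i) ≠ 0 := by
    have hd : finrank F (ι → F) = 2 := by rw [Module.finrank_pi, hn]
    refine ⟨b₀.reindex (finCongr hd), ?_, fun i => ?_⟩
    · rw [Basis.reindex_apply, Basis.reindex_apply]
      exact hb₀ _ _ (by simp [Fin.ext_iff])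
    · rw [Basis.reindex_apply]; exact hb0₀ _
  have hb' : QuadraticMap.polar (⇑Q) (b 1) (b 0) = 0 := by rw [QuadraticMap.polar_comm, hb]
  have hb00 : QuadraticMap.polar (⇑Q) (b 0) (b 0) ≠ 0 := by
    rw [polar_self']; exact mul_ne_zero h2 (hba 0)
  have hdec : ∀ x, x = b.repr x 0 • b 0 + b.repr x 1 • b 1 := fun x => by
    conv_lhs => rw [← b.sum_repr x, Fin.sum_univ_two]
  have key : ∀ k : ↥(Cfsg.isometryGroup F ⇑Q), mat Q k *ᵥ b 0 = b 0 → (mat Q k).det = 1 →
      k = 1 := by
    intro k hk hkd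
    have h0 : b.repr (mat Q k *ᵥ b 1) 0 = 0 := by
      have h' := polar_mulVec Q k (b 0) (b 1)
      rw [hk, hb, hdec (mat Q k *ᵥ b 1), QuadraticMap.polar_add_right,
        QuadraticMap.polar_smul_right, QuadraticMap.polar_smul_right, hb, smul_zero, add_zero,
        smul_eq_mul] at h'
      exact (mul_eq_zero.1 h').resolve_right hb00
    rw [← LinearMap.det_toLin', ← LinearMap.det_toMatrix b, det_fin_two] at hkd
    simp only [LinearMap.toMatrix_apply, toLin'_apply, hk, h0, Basis.repr_self,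
      Finsupp.single_eq_same, one_mul, zero_mul, sub_zero] at hkd
    have h1 : mat Q k *ᵥ b 1 = b 1 := by
      conv_lhs => rw [hdec (mat Q k *ᵥ b 1)]
      rw [h0, hkd, zero_smul, zero_add, one_smul]
    refine mat_ext Q (toLin'.injective (b.ext fun i => ?_))
    rw [toLin'_apply, mat_one, toLin'_one, LinearMap.id_apply]
    fin_cases i <;> assumption
  by_cases he : mat Q h *ᵥ b 0 = b 0
  · refine ⟨b 1, hba 1, ?_⟩
    have h1 := key (reflIso Q (b 1) (hba 1) * h)
      (by rw [mat_mul, ← mulVec_mulVec, he, mat_reflIso, reflectionMatrix_mulVec_fix hb'])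
      (by rw [mat_mul, det_mul, det_reflIso, hdet]; ring)
    have h2' : reflIso Q (b 1) (hba 1) * reflIso Q (b 1) (hba 1) = 1 :=
      mat_ext Q (reflectionMatrix_mul_self Q (hba 1))
    rw [eq_inv_of_mul_eq_one_right h1, inv_eq_of_mul_eq_one_right h2']
  · obtain ⟨e, hedef⟩ : ∃ e, e = mat Q h *ᵥ b 0 := ⟨_, rfl⟩
    rw [← hedef] at he
    have hQe : Q e = Q (b 0) := by rw [hedef, quad_mulVec]
    have hQv : Q (b 0 - e) = 2 * Q (b 0) - QuadraticMap.polar (⇑Q) (b 0) e := by
      rw [sub_eq_add_neg, QuadraticMap.map_add (⇑Q), QuadraticMap.map_neg,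
        QuadraticMap.polar_neg_right, hQe]
      ring
    have hv : Q (b 0 - e) ≠ 0 := by
      intro h0
      rw [hQv, sub_eq_zero, hdec e, QuadraticMap.polar_add_right, QuadraticMap.polar_smul_right,
        QuadraticMap.polar_smul_right, hb, smul_zero, add_zero, polar_self', smul_eq_mul] at h0
      have hr : b.repr e 0 = 1 :=
        mul_right_cancel₀ (mul_ne_zero h2 (hba 0)) (by rw [one_mul]; exact h0.symm)
      rw [hdec e, hr, one_smul, QuadraticMap.map_add (⇑Q), QuadraticMap.map_smul,
        QuadraticMap.polar_smul_right, hb, smul_eq_mul, smul_zero, add_zero, add_eq_left] at hQe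
      apply he
      rcases mul_eq_zero.1 hQe with h1 | h1
      · rw [hdec e, hr, mul_self_eq_zero.1 h1, one_smul, zero_smul, add_zero]
      · exact absurd h1 (hba 1)
    refine ⟨b 0 - e, hv, ?_⟩
    have h1 := key (reflIso Q (b 0 - e) hv * h) (by
        rw [mat_mul, ← mulVec_mulVec, ← hedef, mat_reflIso, reflectionMatrix_mulVec, refl_apply,
          QuadraticMap.polar_sub_left, polar_self', hQe,
          show QuadraticMap.polar (⇑Q) (b 0) e - 2 * Q (b 0) = -Q (b 0 - e) by rw [hQv]; ring,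
          show (Q (b 0 - e))⁻¹ * -Q (b 0 - e) = -1 by field_simp]
        module)
      (by rw [mat_mul, det_mul, det_reflIso, hdet]; ring)
    rw [eq_inv_of_mul_eq_one_right h1,
      inv_eq_of_mul_eq_one_right (mat_ext Q (reflectionMatrix_mul_self Q hv) :
        reflIso Q (b 0 - e) hv * reflIso Q (b 0 - e) hv = 1)]

/-- The reflections of one class generate a subgroup of index two (dimension two, or at least four). -/
theorem index_closure_class_of_dim [Fintype F] (h2 : (2 : F) ≠ 0)
    (hQ : (QuadraticMap.polarBilin Q).Nondegenerate)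
    (hn : 2 ≤ Fintype.card ι) (hdim4 : Fintype.card ι = 2 ∨ 4 ≤ Fintype.card ι)
    (h43 : ¬ (Fintype.card ι = 4 ∧ Fintype.card F = 3)) {c : F} (hc : c ≠ 0) :
    (Subgroup.closure {g : ↥(Cfsg.isometryGroup F ⇑Q) | ∃ (v : ι → F) (t : F), t ≠ 0 ∧
      Q v = c * t ^ 2 ∧ mat Q g = Cfsg.reflectionMatrix ⇑Q v}).index = 2 := by
  classical
  obtain ⟨K, hKdef⟩ : ∃ K, K = Subgroup.closure {g : ↥(Cfsg.isometryGroup F ⇑Q) |
      ∃ (v : ι → F) (t : F), t ≠ 0 ∧ Q v = c * t ^ 2 ∧
        mat Q g = Cfsg.reflectionMatrix ⇑Q v} := ⟨_, rfl⟩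
  rw [← hKdef]
  have hgen := exists_isReflProd h2 hQ
  haveI hKn : K.Normal := by
    refine ⟨fun x hx a => ?_⟩
    rw [hKdef] at hx ⊢
    induction hx using Subgroup.closure_induction with
    | mem y hy =>
      obtain ⟨v, t, ht, hv, hy⟩ := hy
      refine Subgroup.subset_closure ⟨mat Q a *ᵥ v, t, ht, by rw [quad_mulVec, hv], ?_⟩
      have hv0 : Q v ≠ 0 := by rw [hv]; exact mul_ne_zero hc (pow_ne_zero _ ht)
      rw [show y = reflIso Q v hv0 from mat_ext Q hy, conj_reflIso, mat_reflIso]
    | one => simp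
    | mul y z _ _ hy hz => simpa [mul_assoc] using mul_mem hy hz
    | inv y _ hy => simpa [mul_assoc] using inv_mem hy
  obtain ⟨α, hα⟩ := FiniteField.exists_nonsquare (F := F) (fun h => h2 (by
    haveI := ringChar.eq_iff.1 h; exact CharTwo.two_eq_zero))
  have hα0 : α ≠ 0 := fun h => hα (h ▸ ⟨0, by simp⟩)
  obtain ⟨d, hd⟩ : ∃ d, d = c * α := ⟨_, rfl⟩
  have hd0 : d ≠ 0 := hd ▸ mul_ne_zero hc hα0
  -- every anisotropic vector is a multiple of one of value `c` or `d`
  have hclass : ∀ (v : ι → F) (hv : Q v ≠ 0),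
      (∃ t, t ≠ 0 ∧ Q v = c * t ^ 2) ∨ ∃ t, t ≠ 0 ∧ Q v = d * t ^ 2 := by
    intro v hv
    by_cases hs : IsSquare (Q v / c)
    · obtain ⟨t, ht⟩ := hs
      exact Or.inl ⟨t, fun h0 => div_ne_zero hv hc (by rw [ht, h0, zero_mul]),
        by rw [pow_two, ← ht, mul_div_cancel₀ _ hc]⟩
    · obtain ⟨t, ht⟩ := isSquare_mul_of_not_isSquare hα hs
      have ht0 : t ≠ 0 := fun h0 => mul_ne_zero hα0 (div_ne_zero hv hc) (by rw [ht, h0, zero_mul])
      refine Or.inr ⟨t / α, div_ne_zero ht0 hα0, ?_⟩
      rw [hd]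
      field_simp at ht ⊢
      linear_combination ht
  obtain ⟨π, hπ⟩ : ∃ π, π = QuotientGroup.mk' K := ⟨_, rfl⟩
  have hsq : ∀ (v : ι → F) (hv : Q v ≠ 0), π (reflIso Q v hv) * π (reflIso Q v hv) = 1 :=
    fun v hv => by
      rw [← map_mul, show reflIso Q v hv * reflIso Q v hv = 1 from
        mat_ext Q (reflectionMatrix_mul_self Q hv), map_one]
  have hker : ∀ (v : ι → F) (hv : Q v ≠ 0) (t : F), t ≠ 0 → Q v = c * t ^ 2 →
      π (reflIso Q v hv) = 1 := fun v hv t ht he => by
    rw [hπ, QuotientGroup.mk'_apply, QuotientGroup.eq_one_iff, hKdef]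
    exact Subgroup.subset_closure ⟨v, t, ht, he, rfl⟩
  -- a homomorphism to `±1` separating the two classes
  obtain ⟨χ, hχ⟩ : ∃ χ : ↥(Cfsg.isometryGroup F ⇑Q) →* ℤˣ, ∀ (v : ι → F) (hv : Q v ≠ 0) (t : F),
      t ≠ 0 → (Q v = c * t ^ 2 → χ (reflIso Q v hv) = 1) ∧
        (Q v = d * t ^ 2 → χ (reflIso Q v hv) = -1) := by
    have hs : ∀ (v : ι → F) (hv : Q v ≠ 0) (t a : F), t ≠ 0 → Q v = a * t ^ 2 →
        (spinHom hQ hgen (reflIso Q v hv) : ℤ) = quadraticChar F a := fun v hv t a ht he => by
      rw [spinHom_reflIso, he, map_mul, quadraticChar_sq_one' ht, mul_one]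
    have hχd : quadraticChar F d = -quadraticChar F c := by
      rw [hd, map_mul, quadraticChar_neg_one_iff_not_isSquare.2 hα, mul_neg_one]
    rcases quadraticChar_dichotomy hc with hcc | hcc
    · refine ⟨spinHom hQ hgen, fun v hv t ht => ⟨fun he => ?_, fun he => ?_⟩⟩
      · ext; rw [hs v hv t c ht he, hcc]; rfl
      · ext; rw [hs v hv t d ht he, hχd, hcc]; rfl
    · refine ⟨spinHom hQ hgen * parityHom hQ hgen, fun v hv t ht => ⟨fun he => ?_, fun he => ?_⟩⟩
      · rw [MonoidHom.mul_apply, parityHom_reflIso]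
        ext
        rw [Units.val_mul, hs v hv t c ht he, hcc]; rfl
      · rw [MonoidHom.mul_apply, parityHom_reflIso]
        ext
        rw [Units.val_mul, hs v hv t d ht he, hχd, hcc]; rfl
  obtain ⟨u₀, hu₀⟩ := exists_value h2 hQ hn d
  have hu₀0 : Q u₀ ≠ 0 := by rw [hu₀]; exact hd0
  -- all reflections of value `d` agree modulo `K`
  have hortho : ∀ (u w : ι → F) (hu : Q u ≠ 0) (hw : Q w ≠ 0), Q u = d → Q w = d →
      QuadraticMap.polar (⇑Q) u w = 0 → π (reflIso Q u hu) = π (reflIso Q w hw) := by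
    intro u w hu hw hud hwd huw
    obtain ⟨a, b, hab⟩ := exists_diag_binary h2 hd0 hd0 c
    have hwu : QuadraticMap.polar (⇑Q) w u = 0 := by rw [QuadraticMap.polar_comm, huw]
    have hv : Q (a • u + b • w) = c * 1 ^ 2 := by
      rw [QuadraticMap.map_add (⇑Q), QuadraticMap.map_smul, QuadraticMap.map_smul,
        QuadraticMap.polar_smul_left, QuadraticMap.polar_smul_right, huw, hud, hwd, ← hab]
      simp only [smul_eq_mul]; ring
    have hv' : Q ((-b) • u + a • w) = c * 1 ^ 2 := by
      rw [QuadraticMap.map_add (⇑Q), QuadraticMap.map_smul, QuadraticMap.map_smul,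
        QuadraticMap.polar_smul_left, QuadraticMap.polar_smul_right, huw, hud, hwd, ← hab]
      simp only [smul_eq_mul]; ring
    have hv0 : Q (a • u + b • w) ≠ 0 := by rw [hv]; simpa using hc
    have hv'0 : Q ((-b) • u + a • w) ≠ 0 := by rw [hv']; simpa using hc
    have he : reflIso Q u hu * reflIso Q w hw =
        reflIso Q _ hv0 * reflIso Q _ hv'0 := by
      refine mat_ext Q (Matrix.ext_iff_mulVec.2 fun x => ?_)
      simp only [mat_mul, ← mulVec_mulVec, mat_reflIso, reflectionMatrix_mulVec, refl_apply, hud,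
        hwd, hv, hv', one_pow, mul_one, QuadraticMap.polar_sub_right,
        QuadraticMap.polar_smul_right, QuadraticMap.polar_add_left, QuadraticMap.polar_smul_left,
        QuadraticMap.polar_add_right, polar_self', huw, hwu, smul_eq_mul]
      rw [← show c⁻¹ * (a ^ 2 + b ^ 2) = d⁻¹ by field_simp; linear_combination hab]
      module
    have h' := congrArg π he
    rw [map_mul, map_mul, hker _ hv0 1 one_ne_zero hv, hker _ hv'0 1 one_ne_zero hv',
      one_mul] at h'
    exact (eq_inv_of_mul_eq_one_left h').trans (inv_eq_of_mul_eq_one_right (hsq w hw))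
  have hsep : ∀ x : ι → F, (∀ y, QuadraticMap.polar (⇑Q) x y = 0) → x = 0 := hQ.1
  have hdim : finrank F (ι → F) = Fintype.card ι := Module.finrank_pi F
  have heq : ∀ (u w : ι → F) (hu : Q u ≠ 0) (hw : Q w ≠ 0), Q u = d → Q w = d →
      π (reflIso Q u hu) = π (reflIso Q w hw) := by
    by_cases hn2 : Fintype.card ι = 2
    · intro u w hu hw hud hwd
      obtain ⟨v, hv⟩ := exists_value h2 hQ hn c
      have hv1 : Q v = c * 1 ^ 2 := by rw [hv]; ring
      have hv0 : Q v ≠ 0 := by rw [hv]; exact hc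
      obtain ⟨z, hz, he⟩ := exists_reflIso_of_det_neg h2 hQ hn2
        (reflIso Q v hv0 * reflIso Q u hu * reflIso Q w hw) (by
          rw [mat_mul, mat_mul, det_mul, det_mul, det_reflIso, det_reflIso, det_reflIso]; ring)
      have hχz : χ (reflIso Q z hz) = 1 := by
        rw [← he, map_mul, map_mul, (hχ v hv0 1 one_ne_zero).1 hv1,
          (hχ u hu 1 one_ne_zero).2 (by rw [hud]; ring),
          (hχ w hw 1 one_ne_zero).2 (by rw [hwd]; ring), one_mul, neg_one_mul, neg_neg]
      have hπz : π (reflIso Q z hz) = 1 := by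
        rcases hclass z hz with ⟨t, ht, hq⟩ | ⟨t, ht, hq⟩
        · exact hker z hz t ht hq
        · rw [(hχ z hz t ht).2 hq] at hχz
          exact absurd hχz (by decide)
      rw [← he, map_mul, map_mul, hker v hv0 1 one_ne_zero hv1, one_mul] at hπz
      exact (eq_inv_of_mul_eq_one_left hπz).trans (inv_eq_of_mul_eq_one_right (hsq w hw))
    have hn4 : 4 ≤ Fintype.card ι := by
      omega
    have hplane : ∀ (u w : ι → F) (hu : Q u ≠ 0) (hw : Q w ≠ 0), Q u = d → Q w = d →
        QuadraticMap.polar (⇑Q) u w ^ 2 ≠ (2 * d) ^ 2 →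
        π (reflIso Q u hu) = π (reflIso Q w hw) := by
      intro u w hu hw hud hwd hne
      obtain ⟨z, hz⟩ := exists_quad_value h2 (Q.comp (perpSub Q ![u, w]).subtype)
        (sep_perpSub Q hsep _ (by
          simp [det_fin_two, polar_self', hud, hwd, QuadraticMap.polar_comm (⇑Q) w u,
            sub_ne_zero]
          intro h
          exact hne (by linear_combination -h)))
        (by have := le_finrank_perpSub Q ![u, w]; omega) d
      have hz' : Q (z : ι → F) = d := hz
      have hz0 : Q (z : ι → F) ≠ 0 := by rw [hz']; exact hd0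
      exact (hortho u z hu hz0 hud hz' (mem_perpSub.1 z.2 0)).trans
        (hortho w z hw hz0 hwd hz' (mem_perpSub.1 z.2 1)).symm
    have hdegen : ∀ (u w : ι → F) (hu : Q u ≠ 0) (hw : Q w ≠ 0), Q u = d → Q w = d →
        QuadraticMap.polar (⇑Q) u w = 2 * d → π (reflIso Q u hu) = π (reflIso Q w hw) := by
      intro u w hu hw hud hwd hp
      obtain ⟨s, hs⟩ : ∃ s, s = w - u := ⟨_, rfl⟩
      have hQs : Q s = 0 := by
        rw [hs, sub_eq_add_neg, QuadraticMap.map_add (⇑Q), QuadraticMap.map_neg,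
          QuadraticMap.polar_neg_right, hud, hwd, QuadraticMap.polar_comm, hp]
        ring
      have hus : QuadraticMap.polar (⇑Q) u s = 0 := by
        rw [hs, QuadraticMap.polar_sub_right, hp, polar_self', hud, sub_self]
      by_cases hs0 : s = 0
      · obtain rfl : w = u := sub_eq_zero.1 (hs ▸ hs0)
        rfl
      have hsu1 : s ∈ perpSub Q ![u] := mem_perpSub.2 fun i => by
        rw [Subsingleton.elim i 0]; exact hus
      obtain ⟨s', hQs', hss'⟩ := exists_hyperbolic_partner (Q.comp (perpSub Q ![u]).subtype)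
        (sep_perpSub Q hsep _ (by simp [polar_self', hud, h2, hd0]))
        (a := ⟨s, hsu1⟩) (fun h => hs0 (congrArg Subtype.val h)) hQs
      have hus' : QuadraticMap.polar (⇑Q) u (s' : ι → F) = 0 := mem_perpSub.1 s'.2 0
      have hss'' : QuadraticMap.polar (⇑Q) s (s' : ι → F) = 1 := hss'
      have hQs'' : Q (s' : ι → F) = 0 := hQs'
      have hwz : ∀ z, QuadraticMap.polar (⇑Q) w z =
          QuadraticMap.polar (⇑Q) u z + QuadraticMap.polar (⇑Q) s z := fun z => by
        rw [← QuadraticMap.polar_add_left, hs, add_sub_cancel]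
      by_cases hn5 : 5 ≤ Fintype.card ι
      · obtain ⟨z, hz⟩ := exists_quad_value h2
          (Q.comp (perpSub Q ![u, s, (s' : ι → F)]).subtype)
          (sep_perpSub Q hsep _ (by
            simp [det_fin_three, polar_self', hud, hQs, hQs'', hus, hus', hss'',
              QuadraticMap.polar_comm (⇑Q) s u, QuadraticMap.polar_comm (⇑Q) (s' : ι → F) u,
              QuadraticMap.polar_comm (⇑Q) (s' : ι → F) s, h2, hd0]))
          (by have := le_finrank_perpSub Q ![u, s, (s' : ι → F)]; omega) d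
        have hz' : Q (z : ι → F) = d := hz
        have hz0 : Q (z : ι → F) ≠ 0 := by rw [hz']; exact hd0
        exact (hortho u z hu hz0 hud hz' (mem_perpSub.1 z.2 0)).trans
          (hortho w z hw hz0 hwd hz' (by
            rw [hwz, show QuadraticMap.polar (⇑Q) u (z : ι → F) = 0 from mem_perpSub.1 z.2 0,
              show QuadraticMap.polar (⇑Q) s (z : ι → F) = 0 from mem_perpSub.1 z.2 1,
              add_zero])).symm
      · have hq : 4 ≤ Fintype.card F := by
          have h3 : Fintype.card F ≠ 3 := fun h3 => h43 ⟨by omega, h3⟩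
          have hodd : Fintype.card F % 2 = 1 := FiniteField.odd_card_of_char_ne_two fun h => h2 (by
            haveI := ringChar.eq_iff.1 h; exact CharTwo.two_eq_zero)
          have := Fintype.one_lt_card (α := F)
          omega
        obtain ⟨t, ht⟩ : ∃ t : F, t ∉ ({0, 2 * d, -(2 * d)} : Finset F) := by
          by_contra h
          have h' : Finset.univ ⊆ ({0, 2 * d, -(2 * d)} : Finset F) :=
            fun t _ => not_not.1 fun ht => h ⟨t, ht⟩
          have := (Finset.card_le_card h').trans Finset.card_le_three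
          rw [Finset.card_univ] at this
          omega
        simp only [Finset.mem_insert, Finset.mem_singleton, not_or] at ht
        obtain ⟨z, hz⟩ : ∃ z, z = (d / t) • s + t • (s' : ι → F) := ⟨_, rfl⟩
        have hQz : Q z = d := by
          rw [hz, QuadraticMap.map_add (⇑Q), QuadraticMap.map_smul, QuadraticMap.map_smul,
            QuadraticMap.polar_smul_left, QuadraticMap.polar_smul_right, hQs, hQs'', hss'']
          simp only [smul_eq_mul, mul_zero, zero_add, mul_one]
          exact div_mul_cancel₀ _ ht.1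
        have huz : QuadraticMap.polar (⇑Q) u z = 0 := by
          rw [hz, QuadraticMap.polar_add_right, QuadraticMap.polar_smul_right,
            QuadraticMap.polar_smul_right, hus, hus']
          simp
        have hwz' : QuadraticMap.polar (⇑Q) w z = t := by
          rw [hwz, huz, hz, QuadraticMap.polar_add_right, QuadraticMap.polar_smul_right,
            QuadraticMap.polar_smul_right, polar_self', hQs, hss'']
          simp
        have hz0 : Q z ≠ 0 := by rw [hQz]; exact hd0
        refine (hortho u z hu hz0 hud hQz huz).trans (hplane w z hw hz0 hwd hQz ?_).symm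
        rw [hwz']
        intro h
        rcases sq_eq_sq_iff_eq_or_eq_neg.1 h with h | h
        · exact ht.2.1 h
        · exact ht.2.2 h
    intro u w hu hw hud hwd
    by_cases hp : QuadraticMap.polar (⇑Q) u w ^ 2 = (2 * d) ^ 2
    · rcases sq_eq_sq_iff_eq_or_eq_neg.1 hp with hp | hp
      · exact hdegen u w hu hw hud hwd hp
      · have hnw : Q (-w) ≠ 0 := by rw [QuadraticMap.map_neg]; exact hw
        refine (hdegen u (-w) hu hnw hud (by rw [QuadraticMap.map_neg, hwd])
          (by rw [QuadraticMap.polar_neg_right, hp, neg_neg])).trans (congrArg π (mat_ext Q ?_))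
        refine Matrix.ext_iff_mulVec.2 fun x => ?_
        rw [mat_reflIso, mat_reflIso, reflectionMatrix_mulVec, reflectionMatrix_mulVec,
          ← neg_one_smul F w, refl_smul Q (neg_ne_zero.2 one_ne_zero)]
    · exact hplane u w hu hw hud hwd hp
  have hall : ∀ g, π g ∈ Subgroup.zpowers (π (reflIso Q u₀ hu₀0)) := by
    intro g
    obtain ⟨vs, hvs⟩ := hgen g
    refine mem_of_isReflProd (H := (Subgroup.zpowers (π (reflIso Q u₀ hu₀0))).comap π) vs g hvs
      fun v _ hv => ?_
    rw [Subgroup.mem_comap]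
    rcases hclass v hv with ⟨t, ht, hq⟩ | ⟨t, ht, hq⟩
    · rw [hker v hv t ht hq]; exact one_mem _
    · have hv' : Q (t⁻¹ • v) = d := by
        rw [QuadraticMap.map_smul, hq, smul_eq_mul]
        field_simp
      have hv'0 : Q (t⁻¹ • v) ≠ 0 := by rw [hv']; exact hd0
      rw [show reflIso Q v hv = reflIso Q (t⁻¹ • v) hv'0 from mat_ext Q (by
        refine Matrix.ext_iff_mulVec.2 fun x => ?_
        rw [mat_reflIso, mat_reflIso, reflectionMatrix_mulVec, reflectionMatrix_mulVec,
          refl_smul Q (inv_ne_zero ht)]), heq _ u₀ hv'0 hu₀0 hv' hu₀]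
      exact Subgroup.mem_zpowers _
  have hle2 : K.index ∣ 2 := by
    rw [Subgroup.index_eq_card, ← Subgroup.card_top (G := _ ⧸ K),
      show (⊤ : Subgroup (_ ⧸ K)) = Subgroup.zpowers (π (reflIso Q u₀ hu₀0)) from
        (eq_top_iff.2 fun x _ => by
          obtain ⟨g, rfl⟩ := QuotientGroup.mk'_surjective K x
          rw [← hπ]; exact hall g).symm, Nat.card_zpowers]
    exact orderOf_dvd_of_pow_eq_one (by rw [pow_two]; exact hsq u₀ hu₀0)
  have hKker : K ≤ χ.ker := by
    rw [hKdef, Subgroup.closure_le]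
    rintro g ⟨v, t, ht, hv, hg⟩
    have hv0 : Q v ≠ 0 := by rw [hv]; exact mul_ne_zero hc (pow_ne_zero _ ht)
    rw [show g = reflIso Q v hv0 from mat_ext Q hg]
    exact (hχ v hv0 t ht).1 hv
  have hχ2 : χ.ker.index = 2 := by
    rw [Subgroup.index_ker, MonoidHom.range_eq_top.2 fun a => ?_, Subgroup.card_top,
      Nat.card_eq_fintype_card, Fintype.card_units_int]
    rcases Int.units_eq_one_or a with rfl | rfl
    · exact ⟨1, map_one _⟩
    · exact ⟨_, (hχ u₀ hu₀0 1 one_ne_zero).2 (by rw [hu₀]; ring)⟩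
  exact Nat.dvd_antisymm hle2 (hχ2 ▸ Subgroup.index_dvd_of_le hKker)

/-- The reflections of one class generate a subgroup of index two. -/
theorem index_closure_class [Fintype F] (h2 : (2 : F) ≠ 0)
    (hQ : (QuadraticMap.polarBilin Q).Nondegenerate)
    (hn : 2 ≤ Fintype.card ι) (heven : Even (Fintype.card ι))
    (h43 : ¬ (Fintype.card ι = 4 ∧ Fintype.card F = 3)) {c : F} (hc : c ≠ 0) :
    (Subgroup.closure {g : ↥(Cfsg.isometryGroup F ⇑Q) | ∃ (v : ι → F) (t : F), t ≠ 0 ∧
      Q v = c * t ^ 2 ∧ mat Q g = Cfsg.reflectionMatrix ⇑Q v}).index = 2 :=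
  index_closure_class_of_dim h2 hQ hn (by obtain ⟨m, hm⟩ := heven; omega) h43 hc

end CfsgLib.Forms
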