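import Cfsg.Agent.AutPOmega.Proper
import Cfsg.Agent.AutPOmega.Std
import Cfsg.Agent.AutPSL.FieldAut

/-!
# The order of `Aut(PΩ(Q))`

`|Aut(PΩ(Q))| (q-1) = |Aut F| · |O(Q)| · |M|` with `M` the group of multipliers, when every
automorphism is a semisimilarity and every field automorphism occurs.
-/

set_option autoImplicit false
set_option linter.unusedSectionVars false
set_option linter.style.haveILetI false

namespace CfsgLib.AutPOmega

open Matrix Module CfsgLib.Spinor CfsgLib.Forms CfsgLib.Forms4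

variable {F : Type*} [Field F] [Finite F] {ι : Type} [Fintype ι] [DecidableEq ι]
  {Q : QuadraticForm F (ι → F)}

/-- A linear semisimilarity acts as a similitude. -/
theorem Semi.aut_mem_range_of_linear (S : Semi Q) (h : S.σ = 1) :
    S.aut ∈ (sim (Q := Q)).range := by
  have hg : S.g ∈ GO Q := ⟨S.c, fun v => by
    have := S.quad v
    simpa [h] using this⟩
  exact ⟨⟨S.g, hg⟩, Semi.aut_congr rfl h.symm⟩

theorem mem_gamma_iff (C : Ctx Q) {β : MulAut (Cfsg.POmega F ⇑Q)} :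
    β ∈ Cfsg.gammaPOmega F ⇑Q ↔ ∃ S : Semi Q, S.aut = β := by
  refine ⟨fun h => ?_, fun ⟨S, hS⟩ => hS ▸ S.aut_mem_gamma⟩
  unfold Cfsg.gammaPOmega Cfsg.autSubgroupOf at h
  induction h using Subgroup.closure_induction with
  | mem β hβ =>
    obtain ⟨g, σ, ⟨c, hc⟩, hind⟩ := hβ
    exact ⟨⟨g, σ, c, hc⟩, ((Semi.induced_iff ⟨g, σ, c, hc⟩).1 hind).symm⟩
  | one => exact ⟨Semi.one Q, Semi.one_aut⟩
  | mul x y _ _ hx hy =>
    obtain ⟨S, rfl⟩ := hx
    obtain ⟨T, rfl⟩ := hy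
    exact ⟨S.mul T, Semi.mul_aut S T⟩
  | inv x _ hx =>
    obtain ⟨S, rfl⟩ := hx
    exact C.exists_semi_of_ptPres (S.ptPres_inv C)

theorem card_gamma_eq_mul (C : Ctx Q) (hσ : ∀ σ : F ≃+* F, ∃ S : Semi Q, S.σ = σ) :
    Nat.card ↥(Cfsg.gammaPOmega F ⇑Q) =
      Nat.card (F ≃+* F) * Nat.card ↥(sim (Q := Q)).range := by
  choose R hR using hσ
  rw [← Nat.card_prod]
  refine (Nat.card_eq_of_bijective (fun x : (F ≃+* F) × ↥(sim (Q := Q)).range =>
    (⟨(x.2 : MulAut (Cfsg.POmega F ⇑Q)) * (R x.1).aut, mul_mem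
      (by obtain ⟨g, hg⟩ := x.2.2; rw [← hg, sim_apply]; exact Semi.aut_mem_gamma _)
      (Semi.aut_mem_gamma _)⟩ : ↥(Cfsg.gammaPOmega F ⇑Q))) ⟨?_, ?_⟩).symm
  · rintro ⟨σ, ⟨_, g, rfl⟩⟩ ⟨τ, ⟨_, h, rfl⟩⟩ e
    replace e := congrArg Subtype.val e
    dsimp only at e
    rw [sim_apply, sim_apply, ← Semi.mul_aut, ← Semi.mul_aut] at e
    set T₁ := (simSemi g).mul (R σ)
    set T₂ := (simSemi h).mul (R τ)
    obtain ⟨a, ha⟩ := Semi.aut_mem_range_of_linear ((R τ⁻¹).mul T₂) (by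
      simp [Semi.mul_σ, hR, T₂, simSemi])
    have h1 : ((simSemi a⁻¹).mul ((R τ⁻¹).mul T₁)).aut = 1 := by
      rw [Semi.mul_aut, ← sim_apply, map_inv, ha, Semi.mul_aut _ T₁, Semi.mul_aut _ T₂, e,
        inv_mul_cancel]
    obtain ⟨hs, -⟩ := Semi.eq_scalar_of_aut_eq_one C _ h1
    have hστ : σ = τ := by
      simpa [Semi.mul_σ, hR, T₁, simSemi, inv_mul_eq_one, eq_comm] using hs
    subst hστ
    refine Prod.ext rfl (Subtype.ext ?_)
    rw [Semi.mul_aut, Semi.mul_aut] at e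
    exact mul_right_cancel e
  · rintro ⟨β, hβ⟩
    obtain ⟨S, rfl⟩ := (mem_gamma_iff C).1 hβ
    obtain ⟨y, hy⟩ := Semi.aut_mem_range_of_linear (S.mul (R S.σ⁻¹)) (by simp [Semi.mul_σ, hR])
    obtain ⟨z, hz⟩ := Semi.aut_mem_range_of_linear ((R S.σ).mul (R S.σ⁻¹)) (by
      simp [Semi.mul_σ, hR])
    rw [Semi.mul_aut] at hy hz
    refine ⟨(S.σ, ⟨sim y * (sim z)⁻¹, mul_mem ⟨y, rfl⟩ (inv_mem ⟨z, rfl⟩)⟩), Subtype.ext ?_⟩
    dsimp only
    rw [hy, hz]
    group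

theorem card_mulAut_eq_mul (C : Ctx Q) (hT : NoTriality Q)
    (hσ : ∀ σ : F ≃+* F, ∃ S : Semi Q, S.σ = σ) :
    Nat.card (MulAut (Cfsg.POmega F ⇑Q)) =
      Nat.card (F ≃+* F) * Nat.card ↥(sim (Q := Q)).range := by
  rw [← card_gamma_eq_mul C hσ, C.gamma_eq_top hT, Subgroup.card_top]

/-- The multiplier. -/
noncomputable def muHom (C : Ctx Q) : GO Q →* Fˣ where
  toFun g := Classical.choose g.2
  map_one' := HasMult.unique C.exists_value_one (g := 1) (Classical.choose_spec (1 : GO Q).2)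
    HasMult.one
  map_mul' g h := HasMult.unique C.exists_value_one (g := g.1 * h.1)
    (Classical.choose_spec (g * h).2)
    (HasMult.mul (Classical.choose_spec g.2) (Classical.choose_spec h.2))

theorem muHom_spec (C : Ctx Q) (g : GO Q) : HasMult Q g.1 (muHom C g) := Classical.choose_spec g.2

theorem card_GO (C : Ctx Q) :
    Nat.card ↥(GO Q) = Nat.card ↥(Cfsg.isometryGroup F ⇑Q) * Nat.card (muHom C).range := by
  rw [← (muHom C).ker.card_mul_index, Subgroup.index_ker]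
  congr 1
  refine Nat.card_congr ⟨fun g => ⟨g.1.1, ?_⟩, fun k => ⟨⟨k.1, isometry_mem_GO k⟩, ?_⟩,
    fun g => rfl, fun k => rfl⟩
  · have h := muHom_spec C g.1
    rw [MonoidHom.mem_ker.1 g.2] at h
    exact h.mem_isometry
  · exact HasMult.unique C.exists_value_one (muHom_spec C ⟨k.1, isometry_mem_GO k⟩)
      (HasMult.isometry k)

theorem card_sim_range_mul (C : Ctx Q) :
    Nat.card ↥(sim (Q := Q)).range * Nat.card Fˣ = Nat.card ↥(GO Q) := by
  haveI := C.nonempty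
  have hk : Nat.card (sim (Q := Q)).ker = Nat.card Fˣ := by
    refine (Nat.card_eq_of_bijective
      (fun u : Fˣ => (⟨⟨_, scalar_mem_GO u⟩, (sim_eq_one_iff C).2 ⟨u, rfl⟩⟩ : (sim (Q := Q)).ker))
      ⟨fun u v e => ?_, fun g => ?_⟩).symm
    · have e' := congrArg (fun z : (sim (Q := Q)).ker =>
        ((z.1.1 : GL ι F) : Matrix ι ι F) (Classical.arbitrary ι) (Classical.arbitrary ι)) e
      exact Units.ext (by simpa using e')
    · obtain ⟨u, hu⟩ := (sim_eq_one_iff C).1 g.2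
      exact ⟨u, Subtype.ext (Subtype.ext hu.symm)⟩
  rw [← hk, ← Subgroup.index_ker, mul_comm]
  exact (sim (Q := Q)).ker.card_mul_index

theorem card_mulAut_mul (C : Ctx Q) (hT : NoTriality Q)
    (hσ : ∀ σ : F ≃+* F, ∃ S : Semi Q, S.σ = σ) :
    Nat.card (MulAut (Cfsg.POmega F ⇑Q)) * Nat.card Fˣ =
      Nat.card (F ≃+* F) * Nat.card ↥(Cfsg.isometryGroup F ⇑Q) * Nat.card (muHom C).range := by
  rw [card_mulAut_eq_mul C hT hσ, mul_assoc, card_sim_range_mul C, card_GO C, mul_assoc]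

/-- All multipliers occur: `|Aut| = |Aut F| |O(Q)|`. -/
theorem card_mulAut_of_surjective (C : Ctx Q) (hT : NoTriality Q)
    (hσ : ∀ σ : F ≃+* F, ∃ S : Semi Q, S.σ = σ) (hμ : ∀ c : Fˣ, ∃ g : GL ι F, HasMult Q g c) :
    Nat.card (MulAut (Cfsg.POmega F ⇑Q)) =
      Nat.card (F ≃+* F) * Nat.card ↥(Cfsg.isometryGroup F ⇑Q) := by
  have h : (muHom C).range = ⊤ := eq_top_iff.2 fun c _ => by
    obtain ⟨g, hg⟩ := hμ c
    exact ⟨⟨g, c, hg⟩, HasMult.unique C.exists_value_one (muHom_spec C _) hg⟩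
  have := card_mulAut_mul C hT hσ
  rw [h, Subgroup.card_top] at this
  exact Nat.eq_of_mul_eq_mul_right Nat.card_pos this

/-- All multipliers occur: the semisimilarities induce `|Aut F| |O(Q)|` automorphisms. -/
theorem card_gamma_of_surjective (C : Ctx Q) (hσ : ∀ σ : F ≃+* F, ∃ S : Semi Q, S.σ = σ)
    (hμ : ∀ c : Fˣ, ∃ g : GL ι F, HasMult Q g c) :
    Nat.card ↥(Cfsg.gammaPOmega F ⇑Q) =
      Nat.card (F ≃+* F) * Nat.card ↥(Cfsg.isometryGroup F ⇑Q) := by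
  have h : (muHom C).range = ⊤ := eq_top_iff.2 fun c _ => by
    obtain ⟨g, hg⟩ := hμ c
    exact ⟨⟨g, c, hg⟩, HasMult.unique C.exists_value_one (muHom_spec C _) hg⟩
  have h1 := card_sim_range_mul C
  rw [card_GO C, h, Subgroup.card_top] at h1
  rw [card_gamma_eq_mul C hσ, Nat.eq_of_mul_eq_mul_right Nat.card_pos h1]

/-- In odd dimension the multipliers are the squares: `2 |Aut| = |Aut F| |O(Q)|`. -/
theorem card_mulAut_of_odd (C : Ctx Q) (hT : NoTriality Q)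
    (hσ : ∀ σ : F ≃+* F, ∃ S : Semi Q, S.σ = σ) (hn : Odd (Fintype.card ι)) (h2 : (2 : F) ≠ 0) :
    2 * Nat.card (MulAut (Cfsg.POmega F ⇑Q)) =
      Nat.card (F ≃+* F) * Nat.card ↥(Cfsg.isometryGroup F ⇑Q) := by
  haveI := Fintype.ofFinite F
  have h : (muHom C).range = (powMonoidHom 2 : Fˣ →* Fˣ).range := by
    refine le_antisymm ?_ ?_
    · rintro _ ⟨g, rfl⟩
      obtain ⟨k, hk⟩ := hn
      have hd := (muHom_spec C g).det_sq C.nondeg
      rw [hk] at hd
      refine ⟨Matrix.GeneralLinearGroup.det g.1 / muHom C g ^ k, Units.ext ?_⟩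
      simp only [powMonoidHom_apply, Units.val_pow_eq_pow_val, Units.val_div_eq_div_val,
        Matrix.GeneralLinearGroup.val_det_apply, div_pow, hd]
      field_simp
      ring
    · rintro _ ⟨u, rfl⟩
      refine ⟨⟨_, scalar_mem_GO u⟩, ?_⟩
      rw [HasMult.unique C.exists_value_one (muHom_spec C _) (HasMult.scalar u), powMonoidHom_apply,
        sq]
  have hq : Odd (Fintype.card F) :=
    Nat.odd_iff.2 (FiniteField.odd_card_of_char_ne_two fun hc => h2 (by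
      have := ringChar.eq_iff.1 hc
      exact CharTwo.two_eq_zero))
  have hidx : (powMonoidHom 2 : Fˣ →* Fˣ).range.index = 2 := by
    rw [IsCyclic.index_powMonoidHom_range, Nat.card_units, Nat.card_eq_fintype_card, Nat.gcd_comm]
    obtain ⟨k, hk⟩ := hq
    rw [hk, Nat.add_sub_cancel, Nat.gcd_mul_right_right]
  have hr := (powMonoidHom 2 : Fˣ →* Fˣ).range.card_mul_index
  rw [hidx] at hr
  have := card_mulAut_mul C hT hσ
  rw [h, ← hr] at this
  refine Nat.eq_of_mul_eq_mul_right (Nat.card_pos (α := (powMonoidHom 2 : Fˣ →* Fˣ).range)) ?_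
  rw [← this]
  ring

end CfsgLib.AutPOmega
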