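import Cfsg.Agent.Forms.OrthDet
import Cfsg.Agent.Forms.OrthPerp

/-!
# Eichler (Siegel) transformations and generation of `Ω`

Main results: `eich`, `eichIso`, `siegelMatrix_eq_eich`, `eichIso_mul`, `conj_eichIso`,
`exists_commutator_siegel`, `omega_eq_closure_siegel`.
-/

namespace CfsgLib.Forms

open Matrix Module CfsgLib.Spinor

variable {F : Type*} [Field F] {ι : Type} [Fintype ι] [DecidableEq ι] {Q : QuadraticForm F (ι → F)}

/-- The Eichler map `x ↦ x + f(u,x) w − f(w,x) u − Q(w) f(u,x) u`. -/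
def eich (Q : QuadraticForm F (ι → F)) (u w : ι → F) : Matrix ι ι F :=
  1 + (vecMulVec w (Cfsg.polarVec (⇑Q) u) - vecMulVec u (Cfsg.polarVec (⇑Q) w) -
    Q w • vecMulVec u (Cfsg.polarVec (⇑Q) u))

theorem eich_mulVec (u w x : ι → F) :
    eich Q u w *ᵥ x = x + (QuadraticMap.polar (⇑Q) u x • w -
      QuadraticMap.polar (⇑Q) w x • u - (Q w * QuadraticMap.polar (⇑Q) u x) • u) := by
  simp only [eich, add_mulVec, one_mulVec, sub_mulVec, smul_mulVec, vecMulVec_mulVec,
    polarVec_dot, op_smul_eq_smul, smul_smul]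

theorem siegelMatrix_mulVec (u v : ι → F) (c : F) (x : ι → F) :
    Cfsg.siegelMatrix (⇑Q) u v c *ᵥ x = x + c • (QuadraticMap.polar (⇑Q) u x • v -
      QuadraticMap.polar (⇑Q) v x • u) := by
  simp only [Cfsg.siegelMatrix, add_mulVec, one_mulVec, sub_mulVec, smul_mulVec, vecMulVec_mulVec,
    polarVec_dot, op_smul_eq_smul]

theorem siegelMatrix_eq_eich {u v : ι → F} (hv : Q v = 0) (c : F) :
    Cfsg.siegelMatrix (⇑Q) u v c = eich Q u (c • v) := by
  refine Matrix.ext_iff_mulVec.2 fun x => ?_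
  rw [siegelMatrix_mulVec, eich_mulVec, QuadraticMap.map_smul, hv, smul_zero, zero_mul, zero_smul,
    sub_zero, QuadraticMap.polar_smul_left, smul_eq_mul]
  module

theorem eich_mulVec_left {u w : ι → F} (hu : Q u = 0) (huw : QuadraticMap.polar (⇑Q) u w = 0) :
    eich Q u w *ᵥ u = u := by
  rw [eich_mulVec, polar_self', hu, QuadraticMap.polar_comm (⇑Q) w u, huw]
  simp

theorem eich_mul {u w w' : ι → F} (hu : Q u = 0) (huw : QuadraticMap.polar (⇑Q) u w = 0)
    (huw' : QuadraticMap.polar (⇑Q) u w' = 0) :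
    eich Q u w * eich Q u w' = eich Q u (w + w') := by
  refine Matrix.ext_iff_mulVec.2 fun x => ?_
  rw [← mulVec_mulVec, eich_mulVec u w', eich_mulVec, eich_mulVec]
  have hwu : QuadraticMap.polar (⇑Q) w u = 0 := by rw [QuadraticMap.polar_comm, huw]
  have huu : QuadraticMap.polar (⇑Q) u u = 0 := by rw [polar_self', hu, mul_zero]
  simp only [QuadraticMap.polar_add_right, QuadraticMap.polar_sub_right,
    QuadraticMap.polar_smul_right, QuadraticMap.polar_add_left, QuadraticMap.map_add (⇑Q) w w',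
    smul_eq_mul, huw', huu, hwu]
  module

theorem eich_zero (u : ι → F) : eich Q u 0 = 1 := by
  refine Matrix.ext_iff_mulVec.2 fun x => ?_
  simp [eich_mulVec]

theorem quad_eich {u w : ι → F} (hu : Q u = 0) (huw : QuadraticMap.polar (⇑Q) u w = 0)
    (x : ι → F) : Q (eich Q u w *ᵥ x) = Q x := by
  have hwu : QuadraticMap.polar (⇑Q) w u = 0 := by rw [QuadraticMap.polar_comm, huw]
  have e : eich Q u w *ᵥ x = x + (QuadraticMap.polar (⇑Q) u x • w +
      (-(QuadraticMap.polar (⇑Q) w x + Q w * QuadraticMap.polar (⇑Q) u x)) • u) := by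
    rw [eich_mulVec]; module
  rw [e, QuadraticMap.map_add (⇑Q), QuadraticMap.map_add (⇑Q), QuadraticMap.map_smul,
    QuadraticMap.map_smul, hu]
  simp only [QuadraticMap.polar_add_right, QuadraticMap.polar_smul_right,
    QuadraticMap.polar_smul_left, smul_eq_mul, QuadraticMap.polar_comm (⇑Q) x w,
    QuadraticMap.polar_comm (⇑Q) x u, hwu]
  ring

/-- The Eichler map in the isometry group. -/
def eichIso (Q : QuadraticForm F (ι → F)) (u w : ι → F) (hu : Q u = 0)
    (huw : QuadraticMap.polar (⇑Q) u w = 0) : ↥(Cfsg.isometryGroup F ⇑Q) :=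
  ⟨⟨eich Q u w, eich Q u (-w),
      by rw [eich_mul hu huw (by rw [QuadraticMap.polar_neg_right, huw, neg_zero]), add_neg_cancel,
        eich_zero],
      by rw [eich_mul hu (by rw [QuadraticMap.polar_neg_right, huw, neg_zero]) huw, neg_add_cancel,
        eich_zero]⟩,
    fun x _ => quad_eich hu huw x⟩

theorem mat_eichIso (u w : ι → F) (hu : Q u = 0) (huw : QuadraticMap.polar (⇑Q) u w = 0) :
    mat Q (eichIso Q u w hu huw) = eich Q u w := rfl

theorem conj_eich (g : ↥(Cfsg.isometryGroup F ⇑Q)) (u w : ι → F) :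
    mat Q g * eich Q u w = eich Q (mat Q g *ᵥ u) (mat Q g *ᵥ w) * mat Q g := by
  refine Matrix.ext_iff_mulVec.2 fun x => ?_
  simp only [← mulVec_mulVec, eich_mulVec, polar_mulVec, quad_mulVec, mulVec_add, mulVec_sub,
    mulVec_smul]

/-- A Siegel element is a commutator in odd characteristic. -/
theorem exists_commutator_siegel (h2 : (2 : F) ≠ 0)
    (hQ : (QuadraticMap.polarBilin Q).Nondegenerate) {u v : ι → F} (hu : Q u = 0) (hv : Q v = 0)
    (huv : QuadraticMap.polar (⇑Q) u v = 0) (c : F) (g : ↥(Cfsg.isometryGroup F ⇑Q))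
    (hg : mat Q g = Cfsg.siegelMatrix (⇑Q) u v c) :
    g ∈ commutatorSet ↥(Cfsg.isometryGroup F ⇑Q) := by
  have hsep : ∀ x : ι → F, (∀ y, QuadraticMap.polar (⇑Q) x y = 0) → x = 0 := hQ.1
  by_cases hz : ∃ z, QuadraticMap.polar (⇑Q) v z = 0 ∧ QuadraticMap.polar (⇑Q) u z ≠ 0
  · obtain ⟨z, hz1, hz2⟩ := hz
    obtain ⟨p, hp, hvp⟩ : ∃ p, QuadraticMap.polar (⇑Q) u p = 1 ∧
        QuadraticMap.polar (⇑Q) v p = 0 :=
      ⟨(QuadraticMap.polar (⇑Q) u z)⁻¹ • z, by
        rw [QuadraticMap.polar_smul_right, smul_eq_mul, inv_mul_cancel₀ hz2], by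
        rw [QuadraticMap.polar_smul_right, hz1, smul_zero]⟩
    obtain ⟨r, hr⟩ : ∃ r, r = p + (-Q p) • u := ⟨_, rfl⟩
    have hQr : Q r = 0 := by
      rw [hr, QuadraticMap.map_add (⇑Q), QuadraticMap.map_smul, hu, QuadraticMap.polar_smul_right,
        QuadraticMap.polar_comm (⇑Q) p u, hp, smul_eq_mul, smul_eq_mul]
      ring
    have hur : QuadraticMap.polar (⇑Q) u r = 1 := by
      rw [hr, QuadraticMap.polar_add_right, hp, QuadraticMap.polar_smul_right, polar_self', hu]
      simp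
    have hvr : QuadraticMap.polar (⇑Q) v r = 0 := by
      rw [hr, QuadraticMap.polar_add_right, hvp, QuadraticMap.polar_smul_right,
        QuadraticMap.polar_comm, huv]
      simp
    have hplus : Q (u + r) = 1 := by rw [QuadraticMap.map_add (⇑Q), hu, hQr, hur]; ring
    have hminus : Q (u - r) = -1 := by
      rw [sub_eq_add_neg, QuadraticMap.map_add (⇑Q), QuadraticMap.map_neg,
        QuadraticMap.polar_neg_right, hu, hQr, hur]
      ring
    have hp0 : Q (u + r) ≠ 0 := by rw [hplus]; exact one_ne_zero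
    have hm0 : Q (u - r) ≠ 0 := by rw [hminus]; exact neg_ne_zero.2 one_ne_zero
    obtain ⟨h, hh⟩ : ∃ h, h = reflIso Q (u + r) hp0 * reflIso Q (u - r) hm0 := ⟨_, rfl⟩
    have hhu : mat Q h *ᵥ u = -u := by
      rw [hh, mat_mul, ← mulVec_mulVec, mat_reflIso, mat_reflIso, reflectionMatrix_mulVec,
        reflectionMatrix_mulVec, refl_apply Q (u - r), refl_apply, hplus, hminus]
      simp only [QuadraticMap.polar_sub_left, QuadraticMap.polar_add_left,
        QuadraticMap.polar_sub_right, QuadraticMap.polar_smul_right, polar_self', hu, hQr, hur,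
        QuadraticMap.polar_comm (⇑Q) r u, smul_eq_mul, inv_one, inv_neg]
      module
    have hhv : mat Q h *ᵥ v = v := by
      rw [hh, mat_mul, ← mulVec_mulVec, mat_reflIso, mat_reflIso,
        reflectionMatrix_mulVec_fix (v := u - r), reflectionMatrix_mulVec_fix]
      · rw [QuadraticMap.polar_add_left, huv, QuadraticMap.polar_comm (⇑Q) r v, hvr, add_zero]
      · rw [QuadraticMap.polar_sub_left, huv, QuadraticMap.polar_comm (⇑Q) r v, hvr, sub_zero]
    have hud : ∀ d : F, QuadraticMap.polar (⇑Q) u (d • v) = 0 := fun d => by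
      rw [QuadraticMap.polar_smul_right, huv, smul_zero]
    have hconj : h * eichIso Q u ((-c / 2) • v) hu (hud _) * h⁻¹ =
        eichIso Q u ((c / 2) • v) hu (hud _) := by
      rw [mul_inv_eq_iff_eq_mul]
      refine mat_ext Q ?_
      rw [mat_mul, mat_mul, mat_eichIso, mat_eichIso, conj_eich, hhu, mulVec_smul, hhv]
      congr 1
      refine Matrix.ext_iff_mulVec.2 fun x => ?_
      simp only [eich_mulVec, QuadraticMap.map_smul, hv, QuadraticMap.polar_neg_left,
        QuadraticMap.polar_smul_left, smul_eq_mul]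
      module
    refine ⟨h, eichIso Q u ((-c / 2) • v) hu (hud _), ?_⟩
    rw [commutatorElement_def, hconj]
    refine mul_inv_eq_iff_eq_mul.2 (mat_ext Q ?_)
    rw [mat_mul, hg, mat_eichIso, mat_eichIso, siegelMatrix_eq_eich hv, eich_mul hu (hud _) (hud _)]
    rw [← add_smul]
    congr 2
    field_simp
    ring
  · have hone : g = 1 := by
      refine mat_ext Q ?_
      rw [hg, mat_one]
      refine Matrix.ext_iff_mulVec.2 fun x => ?_
      rw [siegelMatrix_mulVec, one_mulVec, add_eq_left, smul_eq_zero]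
      refine Or.inr ?_
      by_cases hv0 : v = 0
      · simp [hv0]
      obtain ⟨z, hz0⟩ : ∃ z, QuadraticMap.polar (⇑Q) v z ≠ 0 := by
        by_contra h
        exact hv0 (hsep v fun y => not_not.1 fun hy => h ⟨y, hy⟩)
      obtain ⟨z₀, hz₀⟩ : ∃ z₀, QuadraticMap.polar (⇑Q) v z₀ = 1 :=
        ⟨(QuadraticMap.polar (⇑Q) v z)⁻¹ • z, by
          rw [QuadraticMap.polar_smul_right, smul_eq_mul, inv_mul_cancel₀ hz0]⟩
      have hlin : ∀ y, QuadraticMap.polar (⇑Q) u y =
          QuadraticMap.polar (⇑Q) v y * QuadraticMap.polar (⇑Q) u z₀ := by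
        intro y
        have h' : QuadraticMap.polar (⇑Q) u (y - QuadraticMap.polar (⇑Q) v y • z₀) = 0 :=
          not_not.1 fun hne => hz ⟨_, by
            rw [QuadraticMap.polar_sub_right, QuadraticMap.polar_smul_right, hz₀, smul_eq_mul,
              mul_one, sub_self], hne⟩
        rwa [QuadraticMap.polar_sub_right, QuadraticMap.polar_smul_right, smul_eq_mul,
          sub_eq_zero] at h'
      have huv' : u = QuadraticMap.polar (⇑Q) u z₀ • v :=
        sub_eq_zero.1 (hsep _ fun y => by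
          rw [QuadraticMap.polar_sub_left, QuadraticMap.polar_smul_left, hlin y, smul_eq_mul]
          ring)
      obtain ⟨a, ha⟩ : ∃ a, a = QuadraticMap.polar (⇑Q) u z₀ := ⟨_, rfl⟩
      rw [← ha] at huv'
      rw [hlin x, ← ha, huv', smul_smul, sub_self]
    rw [hone]
    exact ⟨1, 1, by simp [commutatorElement_def]⟩

theorem siegel_mem_omega (h2 : (2 : F) ≠ 0)
    (hQ : (QuadraticMap.polarBilin Q).Nondegenerate) {u v : ι → F} (hu : Q u = 0) (hv : Q v = 0)
    (huv : QuadraticMap.polar (⇑Q) u v = 0) (c : F) (g : ↥(Cfsg.isometryGroup F ⇑Q))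
    (hg : mat Q g = Cfsg.siegelMatrix (⇑Q) u v c) : g ∈ Cfsg.Omega F ⇑Q := by
  rw [Cfsg.Omega, commutator_eq_closure]
  exact Subgroup.subset_closure (exists_commutator_siegel h2 hQ hu hv huv c g hg)

/-- **Generation of `Ω` by root elements** in odd characteristic and dimension at least five. -/
theorem omega_eq_closure_siegel [Finite F] (h2 : (2 : F) ≠ 0) (hn : 5 ≤ Fintype.card ι)
    (hQ : (QuadraticMap.polarBilin Q).Nondegenerate) :
    Cfsg.Omega F ⇑Q = Subgroup.closure {g : ↥(Cfsg.isometryGroup F ⇑Q) |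
      ∃ (u v : ι → F) (c : F), Q u = 0 ∧ Q v = 0 ∧ QuadraticMap.polar ⇑Q u v = 0 ∧
        mat Q g = Cfsg.siegelMatrix ⇑Q u v c} := by
  obtain ⟨S, hSdef⟩ : ∃ S, S = Subgroup.closure {g : ↥(Cfsg.isometryGroup F ⇑Q) |
      ∃ (u v : ι → F) (c : F), Q u = 0 ∧ Q v = 0 ∧ QuadraticMap.polar ⇑Q u v = 0 ∧
        mat Q g = Cfsg.siegelMatrix ⇑Q u v c} := ⟨_, rfl⟩
  rw [← hSdef]
  have hSle : S ≤ Cfsg.Omega F ⇑Q := by
    rw [hSdef, Subgroup.closure_le]
    rintro g ⟨u, v, c, hu, hv, huv, hg⟩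
    exact siegel_mem_omega h2 hQ hu hv huv c g hg
  refine le_antisymm ?_ hSle
  haveI hSn : S.Normal := by
    refine ⟨fun x hx a => ?_⟩
    rw [hSdef] at hx ⊢
    induction hx using Subgroup.closure_induction with
    | mem y hy =>
      obtain ⟨u, v, c, hu, hv, huv, hy⟩ := hy
      refine Subgroup.subset_closure ⟨mat Q a *ᵥ u, mat Q a *ᵥ v, c, by rw [quad_mulVec, hu],
        by rw [quad_mulVec, hv], by rw [polar_mulVec, huv], ?_⟩
      rw [siegelMatrix_eq_eich (by rw [quad_mulVec, hv]), ← mulVec_smul,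
        show mat Q (a * y * a⁻¹) = mat Q a * mat Q y * mat Q a⁻¹ from rfl, hy,
        siegelMatrix_eq_eich hv, conj_eich, mul_assoc, ← mat_mul, mul_inv_cancel, mat_one, mul_one]
    | one => simp
    | mul y z _ _ hy hz => simpa [mul_assoc] using mul_mem hy hz
    | inv y _ hy => simpa [mul_assoc] using inv_mem hy
  have hsep : ∀ x : ι → F, (∀ y, QuadraticMap.polar (⇑Q) x y = 0) → x = 0 := hQ.1
  have hdim : finrank F (ι → F) = Fintype.card ι := Module.finrank_pi F
  obtain ⟨e, he0, he⟩ := exists_quad_isotropic h2 Q hsep (by omega)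
  obtain ⟨f, hf, hef⟩ := exists_hyperbolic_partner Q hsep he0 he
  have hee : QuadraticMap.polar (⇑Q) e e = 0 := by rw [polar_self', he, mul_zero]
  have hff : QuadraticMap.polar (⇑Q) f f = 0 := by rw [polar_self', hf, mul_zero]
  have hfe : QuadraticMap.polar (⇑Q) f e = 1 := by rw [QuadraticMap.polar_comm, hef]
  obtain ⟨W, hWdef⟩ : ∃ W, W = perpSub Q ![e, f] := ⟨_, rfl⟩
  have hW : ∀ w ∈ W, QuadraticMap.polar (⇑Q) e w = 0 ∧ QuadraticMap.polar (⇑Q) f w = 0 :=
    fun w hw => by rw [hWdef] at hw; exact ⟨mem_perpSub.1 hw 0, mem_perpSub.1 hw 1⟩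
  have hWsep : ∀ x : W, (∀ y : W, QuadraticMap.polar (⇑(Q.comp W.subtype)) x y = 0) → x = 0 := by
    subst hWdef
    exact sep_perpSub Q hsep _ (by simp [det_fin_two, hee, hff, hef, hfe])
  have hWdim : 3 ≤ finrank F W := by
    rw [hWdef]
    have := le_finrank_perpSub Q ![e, f]
    omega
  -- the complement is spanned by singular vectors
  have hspan : ∀ (u : ι → F) (hu : Q u = 0) (hperp : ∀ w ∈ W, QuadraticMap.polar (⇑Q) u w = 0),
      ∀ w : W, eichIso Q u w hu (hperp _ w.2) ∈ S := by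
    intro u hu hperp
    obtain ⟨a, ha0, ha⟩ := exists_quad_isotropic h2 (Q.comp W.subtype) hWsep hWdim
    obtain ⟨b, hb, hab⟩ := exists_hyperbolic_partner (Q.comp W.subtype) hWsep ha0 ha
    have hsing : ∀ (w : W), Q (w : ι → F) = 0 → eichIso Q u w hu (hperp _ w.2) ∈ S := fun w hw => by
      rw [hSdef]
      refine Subgroup.subset_closure ⟨u, w, 1, hu, hw, hperp _ w.2, ?_⟩
      rw [mat_eichIso, siegelMatrix_eq_eich hw, one_smul]
    have hadd : ∀ w w' : W, eichIso Q u w hu (hperp _ w.2) ∈ S →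
        eichIso Q u w' hu (hperp _ w'.2) ∈ S →
        eichIso Q u (w + w' : W) hu (hperp _ (w + w').2) ∈ S := fun w w' h h' => by
      have : eichIso Q u (w + w' : W) hu (hperp _ (w + w').2) =
          eichIso Q u w hu (hperp _ w.2) * eichIso Q u w' hu (hperp _ w'.2) :=
        mat_ext Q (by rw [mat_mul, mat_eichIso, mat_eichIso, mat_eichIso,
          eich_mul hu (hperp _ w.2) (hperp _ w'.2), Submodule.coe_add])
      rw [this]
      exact mul_mem h h'
    intro y
    -- `y = α a + β b + y₁` with `y₁ + a - Q y₁ • b` singular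
    obtain ⟨α, hα⟩ : ∃ α, α = QuadraticMap.polar (⇑(Q.comp W.subtype)) b y := ⟨_, rfl⟩
    obtain ⟨β, hβ⟩ : ∃ β, β = QuadraticMap.polar (⇑(Q.comp W.subtype)) a y := ⟨_, rfl⟩
    obtain ⟨y₁, hy₁⟩ : ∃ y₁, y₁ = y - α • a - β • b := ⟨_, rfl⟩
    have haa : QuadraticMap.polar (⇑(Q.comp W.subtype)) a a = 0 := by
      rw [QuadraticMap.polar_self, ha, smul_zero]
    have hbb : QuadraticMap.polar (⇑(Q.comp W.subtype)) b b = 0 := by
      rw [QuadraticMap.polar_self, hb, smul_zero]
    have hba : QuadraticMap.polar (⇑(Q.comp W.subtype)) b a = 1 := by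
      rw [QuadraticMap.polar_comm, hab]
    have h1a : QuadraticMap.polar (⇑(Q.comp W.subtype)) y₁ a = 0 := by
      rw [QuadraticMap.polar_comm, hy₁, QuadraticMap.polar_sub_right, QuadraticMap.polar_sub_right,
        QuadraticMap.polar_smul_right, QuadraticMap.polar_smul_right, haa, hab, ← hβ]
      simp
    have h1b : QuadraticMap.polar (⇑(Q.comp W.subtype)) y₁ b = 0 := by
      rw [QuadraticMap.polar_comm, hy₁, QuadraticMap.polar_sub_right, QuadraticMap.polar_sub_right,
        QuadraticMap.polar_smul_right, QuadraticMap.polar_smul_right, hbb, hba, ← hα]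
      simp
    obtain ⟨Qy, hQy⟩ : ∃ Qy, Qy = (Q.comp W.subtype) y₁ := ⟨_, rfl⟩
    have hsing1 : Q ((y₁ + (a + (-Qy) • b) : W) : ι → F) = 0 := by
      show (Q.comp W.subtype) (y₁ + (a + (-Qy) • b)) = 0
      rw [QuadraticMap.map_add (⇑(Q.comp W.subtype)), QuadraticMap.map_add (⇑(Q.comp W.subtype)),
        QuadraticMap.map_smul, ha, hb, QuadraticMap.polar_add_right, QuadraticMap.polar_smul_right,
        QuadraticMap.polar_smul_right, hab, h1a, h1b, ← hQy]
      simp
    have hsa : ∀ t : F, Q ((t • a : W) : ι → F) = 0 := fun t => by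
      show (Q.comp W.subtype) (t • a) = 0
      rw [QuadraticMap.map_smul, ha, smul_zero]
    have hsb : ∀ t : F, Q ((t • b : W) : ι → F) = 0 := fun t => by
      show (Q.comp W.subtype) (t • b) = 0
      rw [QuadraticMap.map_smul, hb, smul_zero]
    have hy : y = (y₁ + (a + (-Qy) • b)) + ((α - 1) • a + (β + Qy) • b) := by rw [hy₁]; module
    rw [hy]
    exact hadd _ _ (hsing _ hsing1) (hadd _ _ (hsing _ (hsa _)) (hsing _ (hsb _)))
  -- transitivity on vectors of a given nonzero value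
  have htrans : ∀ d : F, d ≠ 0 → ∀ x, Q x = d → ∃ s ∈ S, mat Q s *ᵥ x = e + d • f := by
    intro d hd
    have hdec : ∀ x, ∃ z ∈ W, x = QuadraticMap.polar (⇑Q) f x • e +
        QuadraticMap.polar (⇑Q) e x • f + z := fun x => by
      refine ⟨x - QuadraticMap.polar (⇑Q) f x • e - QuadraticMap.polar (⇑Q) e x • f, ?_, by abel⟩
      rw [hWdef, mem_perpSub]
      intro i
      fin_cases i <;> simp [QuadraticMap.polar_sub_right, QuadraticMap.polar_smul_right, hee, hff,
        hef, hfe]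
    have hQdec : ∀ (α β : F) (z : ι → F), z ∈ W → Q (α • e + β • f + z) = α * β + Q z :=
      fun α β z hz => by
        rw [QuadraticMap.map_add (⇑Q), QuadraticMap.map_add (⇑Q), QuadraticMap.map_smul,
          QuadraticMap.map_smul, he, hf, QuadraticMap.polar_add_left,
          QuadraticMap.polar_smul_left, QuadraticMap.polar_smul_left,
          QuadraticMap.polar_smul_left, QuadraticMap.polar_smul_right, hef, (hW z hz).1,
          (hW z hz).2]
        simp
    have happ : ∀ (α β : F) (z : ι → F), z ∈ W → ∀ w ∈ W,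
        eich Q e w *ᵥ (α • e + β • f + z) =
          (α - QuadraticMap.polar (⇑Q) w z - Q w * β) • e + β • f + (z + β • w) ∧
        eich Q f w *ᵥ (α • e + β • f + z) =
          α • e + (β - QuadraticMap.polar (⇑Q) w z - Q w * α) • f + (z + α • w) := by
      intro α β z hz w hw
      simp only [eich_mulVec, QuadraticMap.polar_add_right, QuadraticMap.polar_smul_right, hee,
        hff, hef, hfe, (hW z hz).1, (hW z hz).2, QuadraticMap.polar_comm (⇑Q) w e,
        QuadraticMap.polar_comm (⇑Q) w f, (hW w hw).1, (hW w hw).2, smul_eq_mul]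
      exact ⟨by module, by module⟩
    have hWe : ∀ w ∈ W, QuadraticMap.polar (⇑Q) e w = 0 := fun w hw => (hW w hw).1
    have hWf : ∀ w ∈ W, QuadraticMap.polar (⇑Q) f w = 0 := fun w hw => (hW w hw).2
    -- first kill the component in the complement
    have step1 : ∀ x, Q x = d → ∃ s ∈ S, ∃ α β : F, β ≠ 0 ∧
        mat Q s *ᵥ x = α • e + β • f := by
      intro x hx
      obtain ⟨z, hz, hxz⟩ := hdec x
      obtain ⟨α, hα⟩ : ∃ α, α = QuadraticMap.polar (⇑Q) f x := ⟨_, rfl⟩
      obtain ⟨β, hβ⟩ : ∃ β, β = QuadraticMap.polar (⇑Q) e x := ⟨_, rfl⟩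
      rw [← hα, ← hβ] at hxz
      have hxd : α * β + Q z = d := by rw [← hQdec α β z hz, ← hxz, hx]
      have key : ∀ (α β : F) (z : ι → F), z ∈ W → β ≠ 0 → ∃ s ∈ S, ∃ α' β' : F, β' ≠ 0 ∧
          mat Q s *ᵥ (α • e + β • f + z) = α' • e + β' • f := by
        intro α β z hz hb
        have hw : (-β⁻¹) • z ∈ W := W.smul_mem _ hz
        refine ⟨eichIso Q e _ he (hWe _ hw), hspan e he hWe ⟨_, hw⟩,
          α - QuadraticMap.polar (⇑Q) ((-β⁻¹) • z) z - Q ((-β⁻¹) • z) * β, β, hb, ?_⟩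
        rw [mat_eichIso, (happ α β z hz _ hw).1, smul_smul,
          show β * -β⁻¹ = -1 by field_simp, neg_one_smul, add_neg_cancel, add_zero]
      by_cases hb : β = 0
      · obtain ⟨w, hw, hw0⟩ : ∃ w ∈ W, QuadraticMap.polar (⇑Q) w z + Q w * α ≠ 0 := by
          by_contra h
          have h' : ∀ w ∈ W, QuadraticMap.polar (⇑Q) w z + Q w * α = 0 :=
            fun w hw => not_not.1 fun hne => h ⟨w, hw, hne⟩
          have hz0 : (⟨z, hz⟩ : W) = 0 := hWsep _ fun y => by
            have e1 := h' (y : ι → F) y.2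
            have e2 := h' (-(y : ι → F)) (W.neg_mem y.2)
            rw [QuadraticMap.polar_neg_left, QuadraticMap.map_neg] at e2
            have e3 : 2 * QuadraticMap.polar (⇑Q) (y : ι → F) z = 0 := by
              linear_combination e1 - e2
            rw [QuadraticMap.polar_comm]
            show QuadraticMap.polar (⇑Q) (y : ι → F) z = 0
            exact (mul_eq_zero.1 e3).resolve_left h2
          apply hd
          rw [← hxd, hb, show z = 0 from congrArg Subtype.val hz0]
          simp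
        obtain ⟨s, hs, α', β', hb', he'⟩ := key α (β - QuadraticMap.polar (⇑Q) w z - Q w * α)
          (z + α • w) (W.add_mem hz (W.smul_mem _ hw)) (by
            rw [hb, zero_sub, ← neg_add', ne_eq, neg_eq_zero]; exact hw0)
        refine ⟨s * eichIso Q f w hf (hWf _ hw), mul_mem hs (hspan f hf hWf ⟨w, hw⟩), α', β',
          hb', ?_⟩
        rw [mat_mul, ← mulVec_mulVec, hxz, mat_eichIso, (happ α β z hz w hw).2, he']
      · rw [hxz]; exact key α β z hz hb
    intro x hx
    obtain ⟨s, hs, α, β, hb, hsx⟩ := step1 x hx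
    have hαβ : α * β = d := by
      have h' := hQdec α β 0 W.zero_mem
      rw [add_zero, map_zero, add_zero, ← hsx, quad_mulVec, hx] at h'
      exact h'.symm
    have hα : α ≠ 0 := fun h => hd (by rw [← hαβ, h, zero_mul])
    obtain ⟨w, hQw⟩ : ∃ w : W, Q (w : ι → F) = α / β :=
      exists_quad_value h2 (Q.comp W.subtype) hWsep (by omega) _
    have hw0 : w ≠ 0 := fun h => by rw [h] at hQw; exact div_ne_zero hα hb (by simpa using hQw.symm)
    obtain ⟨w', hww'⟩ : ∃ w' : W,
        QuadraticMap.polar (⇑Q) (w' : ι → F) (w : ι → F) = (β - d) / β := by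
      obtain ⟨y, hy⟩ : ∃ y : W, QuadraticMap.polar (⇑(Q.comp W.subtype)) w y ≠ 0 := by
        by_contra h
        exact hw0 (hWsep w fun y => not_not.1 fun hy => h ⟨y, hy⟩)
      refine ⟨((β - d) / β / QuadraticMap.polar (⇑(Q.comp W.subtype)) w y) • y, ?_⟩
      rw [Submodule.coe_smul, QuadraticMap.polar_smul_left, smul_eq_mul,
        QuadraticMap.polar_comm (⇑Q) (y : ι → F)]
      exact div_mul_cancel₀ _ hy
    have hz2 : β • (w : ι → F) ∈ W := W.smul_mem _ w.2
    obtain ⟨h1, -⟩ := happ α β 0 W.zero_mem (w : ι → F) w.2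
    obtain ⟨-, h2'⟩ := happ 0 β (β • (w : ι → F)) hz2 (w' : ι → F) w'.2
    obtain ⟨h3, -⟩ := happ 0 d (β • (w : ι → F)) hz2 ((-β / d) • (w : ι → F)) (W.smul_mem _ w.2)
    refine ⟨eichIso Q e _ he (hWe _ (W.smul_mem (-β / d) w.2)) *
      (eichIso Q f _ hf (hWf _ w'.2) * (eichIso Q e _ he (hWe _ w.2) * s)),
      mul_mem (hspan e he hWe ⟨_, W.smul_mem _ w.2⟩) (mul_mem (hspan f hf hWf w')
        (mul_mem (hspan e he hWe w) hs)), ?_⟩
    simp only [add_zero, QuadraticMap.polar_zero_right, sub_zero, zero_add] at h1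
    rw [hQw, div_mul_cancel₀ _ hb, sub_self] at h1
    simp only [zero_smul, add_zero, mul_zero, sub_zero, QuadraticMap.polar_smul_right, smul_eq_mul,
      hww', mul_div_cancel₀ _ hb, sub_sub_cancel] at h2'
    have h3' : eich Q e ((-β / d) • (w : ι → F)) *ᵥ ((0 : F) • e + d • f + β • (w : ι → F)) =
        e + d • f := by
      rw [h3, QuadraticMap.map_smul, QuadraticMap.polar_smul_left, QuadraticMap.polar_smul_right,
        polar_self', smul_eq_mul, smul_eq_mul, smul_eq_mul, hQw, smul_smul,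
        show d * (-β / d) = -β by field_simp, ← add_smul, add_neg_cancel, zero_smul, add_zero]
      congr 1
      rw [← one_smul F e, smul_smul, mul_one]
      congr 1
      field_simp
      linear_combination hαβ
    rw [mat_mul, mat_mul, mat_mul, ← mulVec_mulVec, ← mulVec_mulVec, ← mulVec_mulVec, hsx,
      mat_eichIso, mat_eichIso, mat_eichIso, h1]
    simp only [zero_smul, zero_add] at h2' h3' ⊢
    rw [h2', h3']
  -- reflections are central modulo `S`
  intro g hg
  have hle : Cfsg.Omega F ⇑Q ≤ (QuotientGroup.mk' S).ker := by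
    refine omega_le_of_reflections_commute (exists_isReflProd h2 hQ) _ fun v w hv hw => ?_
    obtain ⟨s₁, hs₁, e₁⟩ := htrans (Q w) hw w rfl
    obtain ⟨s₂, hs₂, e₂⟩ := htrans (Q w) hw (mat Q (reflIso Q v hv) *ᵥ w)
      (quad_mulVec Q _ _)
    have hconj : reflIso Q v hv * reflIso Q w hw * (reflIso Q v hv)⁻¹ =
        (s₂⁻¹ * s₁) * reflIso Q w hw * (s₂⁻¹ * s₁)⁻¹ := by
      rw [conj_reflIso, conj_reflIso]
      refine mat_ext Q ?_
      have e : mat Q (s₂⁻¹ * s₁) *ᵥ w = mat Q (reflIso Q v hv) *ᵥ w := by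
        rw [mat_mul, ← mulVec_mulVec, e₁, ← e₂, mulVec_mulVec, ← mat_mul, inv_mul_cancel, mat_one,
          one_mulVec]
      show Cfsg.reflectionMatrix (⇑Q) (mat Q (reflIso Q v hv) *ᵥ w) =
        Cfsg.reflectionMatrix (⇑Q) (mat Q (s₂⁻¹ * s₁) *ᵥ w)
      rw [e]
    have hs : QuotientGroup.mk' S (s₂⁻¹ * s₁) = 1 :=
      (QuotientGroup.eq_one_iff _).2 (mul_mem (inv_mem hs₂) hs₁)
    have h := congrArg (QuotientGroup.mk' S) hconj
    rw [map_mul, map_mul, map_mul (QuotientGroup.mk' S) (s₂⁻¹ * s₁ * reflIso Q w hw),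
      map_mul (QuotientGroup.mk' S) (s₂⁻¹ * s₁), map_inv, map_inv, hs] at h
    simp only [one_mul, inv_one, mul_one, mul_inv_eq_iff_eq_mul] at h
    exact h
  have := hle hg
  rwa [QuotientGroup.ker_mk'] at this

end CfsgLib.Forms
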