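import Cfsg.Agent.Forms.KleinPSL
import Cfsg.Agent.TwoThreeFive.Basic
import Mathlib.GroupTheory.SpecificGroups.Alternating.Simple

/-!
# Icosahedral subgroups of `PSL₂`
-/

set_option autoImplicit false
set_option linter.unusedSectionVars false

namespace CfsgLib.Forms.IcosahedralPSL

open Matrix CfsgLib.SL2Trace
open scoped MatrixGroups

variable {F : Type*} [Field F] [Fintype F]

theorem sq_eq (g : SL(2, F)) (t : F) (ht : SL2Tori.tr g = t) :
    g.1 * g.1 = t • g.1 - 1 := by
  have h := SL2Trace.cayley g t ht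
  rw [pow_two] at h
  linear_combination (norm := abel) h

theorem pow_five_eq (g : SL(2, F)) (t : F) (ht : SL2Tori.tr g = t) :
    g.1 ^ 5 = (t ^ 4 - 3 * t ^ 2 + 1) • g.1 + (-(t ^ 3 - 2 * t)) • (1 : Matrix (Fin 2) (Fin 2) F) := by
  have h := sq_eq g t ht
  have hstep : ∀ a b : F, (a • g.1 + b • (1 : Matrix (Fin 2) (Fin 2) F)) * g.1 =
      (a * t + b) • g.1 + (-a) • 1 := by
    intro a b
    rw [add_mul, smul_mul_assoc, smul_mul_assoc, h, one_mul, smul_sub, smul_smul]
    module
  have h1 : g.1 = (1 : F) • g.1 + (0 : F) • (1 : Matrix (Fin 2) (Fin 2) F) := by simp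
  rw [pow_succ, pow_succ, pow_succ, pow_succ, pow_one]
  conv_lhs => arg 1; arg 1; arg 1; arg 1; rw [h1]
  rw [hstep, hstep, hstep, hstep]
  congr 1 <;> congr 1 <;> ring

/-- Five dividing the order gives a root of `T² - T - 1`. -/
theorem exists_golden (h5 : 5 ∣ Fintype.card F * (Fintype.card F ^ 2 - 1)) :
    ∃ t : F, t ^ 2 = t + 1 := by
  haveI : Fact (Nat.Prime 5) := ⟨by norm_num⟩
  obtain ⟨g, hg⟩ := exists_prime_orderOf_dvd_card' (G := SL(2, F)) 5 (by rwa [Linear.card_SL_two])
  set t := SL2Tori.tr g with ht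
  have h := pow_five_eq g t ht.symm
  rw [← Matrix.SpecialLinearGroup.coe_pow, orderOf_dvd_iff_pow_eq_one.1 hg.dvd,
    Matrix.SpecialLinearGroup.coe_one] at h
  have hnc : g ∉ Subgroup.center SL(2, F) := by
    intro hc
    have h2 : g ^ 2 = 1 := by rcases (mem_center_iff_eq g).1 hc with rfl | rfl <;> simp
    have := Nat.le_of_dvd two_pos (hg ▸ orderOf_dvd_of_pow_eq_one h2)
    omega
  obtain ⟨h1, h2⟩ := SL2Tori.coeff_unique (nonScalar_of_not_mem_center hnc) (x := 1) (y := 0)
    (x' := -(t ^ 3 - 2 * t)) (y' := t ^ 4 - 3 * t ^ 2 + 1) (by rw [one_smul, zero_smul, add_zero, add_comm]; exact h)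
  have hf : (t - 1) * (t ^ 2 + t - 1) = 0 := by linear_combination h1
  refine ⟨-t, ?_⟩
  rcases mul_eq_zero.1 hf with e | e
  · exfalso
    rw [sub_eq_zero] at e
    rw [e] at h2
    norm_num at h2
  · linear_combination e

theorem exists_subgroup (h5 : 5 ∣ Fintype.card F * (Fintype.card F ^ 2 - 1)) :
    ∃ H : Subgroup (Matrix.ProjectiveSpecialLinearGroup (Fin 2) F),
      Nonempty (H ≃* alternatingGroup (Fin 5)) := by
  obtain ⟨τ, hτ⟩ := exists_golden h5
  have hcond : τ ^ 2 ≠ 4 ∨ (∃ ε : F, ε ^ 2 = 1 ∧ τ = 2 * ε ∧ (0 : F) ≠ ε * 1) ∨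
      (∃ l : F, l ^ 2 - 1 * l + 1 = 0) := by
    by_cases h4 : τ ^ 2 = 4
    · refine Or.inr (Or.inl ⟨-1, by ring, ?_, ?_⟩)
      · have hτ3 : τ = 3 := by linear_combination h4 - hτ
        rw [hτ3] at h4 ⊢
        linear_combination h4
      · intro h; exact one_ne_zero (α := F) (by linear_combination h)
    · exact Or.inl h4
  obtain ⟨X, hX, hW⟩ := exists_pair_companion τ 1 0 hcond
  have hg : SL2Tori.tr (companion τ) = τ := by simp [SL2Tori.tr, companion, Matrix.trace_fin_two]
  have hy : KleinPSL.projHom (companion τ) ^ 5 = 1 := by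
    rw [← map_pow, KleinPSL.proj_eq_one_iff']
    right
    apply Subtype.ext
    rw [Matrix.SpecialLinearGroup.coe_pow, pow_five_eq _ _ hg,
      show τ ^ 4 - 3 * τ ^ 2 + 1 = 0 by linear_combination (τ ^ 2 + τ - 1) * hτ,
      show -(τ ^ 3 - 2 * τ) = -1 by linear_combination -(τ + 1) * hτ]
    simp
  have hXi : SL2Tori.tr X⁻¹ = 1 := (SL2Tori.tr_inv X).trans hX
  have hx : KleinPSL.projHom X⁻¹ ^ 3 = 1 := by
    rw [← map_pow, KleinPSL.proj_eq_one_iff']
    right
    apply Subtype.ext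
    rw [Matrix.SpecialLinearGroup.coe_pow, pow_succ, pow_two, sq_eq _ _ hXi, one_smul, sub_mul, one_mul,
      sq_eq _ _ hXi, one_smul]
    simp
  have hxy : (KleinPSL.projHom X⁻¹ * KleinPSL.projHom (companion τ)) ^ 2 = 1 := by
    rw [← map_mul]
    exact proj_sq_eq_one_of_trace_zero _ hW
  obtain ⟨e⟩ := TwoThreeFive.presented_equiv
  have hrel : ∀ r ∈ TwoThreeFive.rels,
      FreeGroup.lift ![KleinPSL.projHom X⁻¹, KleinPSL.projHom (companion τ)] r = 1 := by
    intro r hr
    simp only [TwoThreeFive.rels, Set.mem_insert_iff, Set.mem_singleton_iff] at hr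
    rcases hr with rfl | rfl | rfl <;>
      simp only [map_pow, map_mul, FreeGroup.lift_apply_of, Matrix.cons_val_zero, Matrix.cons_val_one]
    · exact hx
    · exact hy
    · exact hxy
  let φ : alternatingGroup (Fin 5) →* Matrix.ProjectiveSpecialLinearGroup (Fin 2) F :=
    (PresentedGroup.toGroup hrel).comp e.symm.toMonoidHom
  have hy1 : φ (e (PresentedGroup.of 1)) ≠ 1 := by
    simp only [φ, MonoidHom.comp_apply, MulEquiv.coe_toMonoidHom, MulEquiv.symm_apply_apply,
      PresentedGroup.toGroup.of, Matrix.cons_val_one]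
    intro h
    rcases KleinPSL.proj_eq_one_iff'.1 h with h | h
    · have := congrFun (congrFun (congrArg Subtype.val h) 1) 0
      simp [companion] at this
    · have := congrFun (congrFun (congrArg Subtype.val h) 1) 0
      simp [companion] at this
  haveI : IsSimpleGroup (alternatingGroup (Fin 5)) := alternatingGroup.isSimpleGroup_five
  have hinj : Function.Injective φ := by
    rw [← MonoidHom.ker_eq_bot_iff]
    exact (Subgroup.Normal.eq_bot_or_eq_top (MonoidHom.normal_ker φ)).resolve_right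
      fun h => hy1 (MonoidHom.mem_ker.1 (h ▸ Subgroup.mem_top _))
  exact ⟨φ.range, ⟨(MonoidHom.ofInjective hinj).symm⟩⟩

end CfsgLib.Forms.IcosahedralPSL
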