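import Cfsg.Agent.MaxSub.Subspace
import Cfsg.Prelude.Def_ClassicalGeometry

/-!
# Triangular matrices and subspace stabilisers in `GL`

Main results: `card_entrywise`, `card_lower`, `card_upper`, `card_symmMatrix`, `coordSub`,
`stab_coord_iff`, `card_stab_coord`, `isCoatom_stab`, `eq_of_stab_le`, `dualRev`.
-/

namespace CfsgLib.Forms

open Matrix Cfsg.Geo CfsgLib.MaxSub

variable {F : Type*} [Field F]

/-- Matrices with conditions entry by entry. -/
theorem card_entrywise [Finite F] {α β : Type*} [Fintype α] [Fintype β] (P : α → β → F → Prop) :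
    Nat.card {M : Matrix α β F // ∀ i j, P i j (M i j)} =
      ∏ i, ∏ j, Nat.card {x : F // P i j x} := by
  rw [Nat.card_congr (β := ∀ i j, {x : F // P i j x})
    { toFun := fun M i j => ⟨M.1 i j, M.2 i j⟩
      invFun := fun f => ⟨Matrix.of fun i j => (f i j).1, fun i j => (f i j).2⟩
      left_inv := fun M => rfl
      right_inv := fun f => rfl }, Nat.card_pi]
  exact Finset.prod_congr rfl fun i _ => Nat.card_pi

theorem card_ne_zero_elt [Fintype F] {q : ℕ} (hF : Fintype.card F = q) :
    Nat.card {x : F // x ≠ 0} = q - 1 := by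
  classical
  rw [Nat.card_eq_fintype_card, Fintype.card_subtype_compl, Fintype.card_subtype_eq, hF]

/-- Lower triangular matrices with invertible diagonal. -/
theorem card_lower [Fintype F] {q : ℕ} (hF : Fintype.card F = q) (n : ℕ) :
    Nat.card {M : Matrix (Fin n) (Fin n) F //
      (∀ i j, i < j → M i j = 0) ∧ ∀ i, M i i ≠ 0} =
      q ^ (n * (n - 1) / 2) * (q - 1) ^ n := by
  classical
  rw [Nat.card_congr (Equiv.subtypeEquivRight (q := fun M : Matrix (Fin n) (Fin n) F =>
    ∀ i j, (i < j → M i j = 0) ∧ (i = j → M i j ≠ 0)) fun M =>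
      ⟨fun h i j => ⟨h.1 i j, fun e => e ▸ h.2 i⟩,
        fun h => ⟨fun i j => (h i j).1, fun i => (h i i).2 rfl⟩⟩),
    card_entrywise fun i j (x : F) => (i < j → x = 0) ∧ (i = j → x ≠ 0)]
  have e : ∀ i j : Fin n, Nat.card {x : F // (i < j → x = 0) ∧ (i = j → x ≠ 0)} =
      (if j < i then q else 1) * (if j = i then q - 1 else 1) := by
    intro i j
    rcases lt_trichotomy i j with h | h | h
    · rw [if_neg (not_lt.2 h.le), if_neg h.ne', one_mul,
        Nat.card_congr (Equiv.subtypeEquivRight (q := fun x : F => x = 0) fun x =>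
          ⟨fun hx => hx.1 h, fun hx => ⟨fun _ => hx, fun e => absurd e h.ne⟩⟩),
        Nat.card_eq_fintype_card, Fintype.card_subtype_eq]
    · rw [if_neg (not_lt.2 h.le), if_pos h.symm, one_mul,
        Nat.card_congr (Equiv.subtypeEquivRight (q := fun x : F => x ≠ 0) fun x =>
          ⟨fun hx => hx.2 h, fun hx => ⟨fun e => absurd e (not_lt.2 h.ge), fun _ => hx⟩⟩),
        card_ne_zero_elt hF]
    · rw [if_pos h, if_neg h.ne, mul_one, Nat.card_congr (Equiv.subtypeUnivEquiv fun x =>
        ⟨fun e => absurd e (not_lt.2 h.le), fun e => absurd e h.ne'⟩),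
        Nat.card_eq_fintype_card, hF]
  simp only [e, Finset.prod_mul_distrib, Finset.prod_ite_eq', Finset.mem_univ, if_true,
    Finset.prod_const, Finset.card_univ, Fintype.card_fin]
  congr 1
  rw [← Finset.sum_range_id n, ← Fin.sum_univ_eq_sum_range (fun i => i) n,
    ← Finset.prod_pow_eq_pow_sum]
  refine Finset.prod_congr rfl fun i _ => ?_
  rw [Finset.prod_ite, Finset.prod_const, Finset.prod_const_one, mul_one]
  congr 1
  have : (Finset.univ.filter fun j => j < i) = Finset.Iio i := by ext j; simp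
  rw [this, Fin.card_Iio]

theorem card_upper [Fintype F] {q : ℕ} (hF : Fintype.card F = q) (n : ℕ) :
    Nat.card {M : Matrix (Fin n) (Fin n) F //
      (∀ i j, j < i → M i j = 0) ∧ ∀ i, M i i ≠ 0} =
      q ^ (n * (n - 1) / 2) * (q - 1) ^ n := by
  rw [← card_lower hF n]
  exact Nat.card_congr
    { toFun := fun M => ⟨M.1ᵀ, fun i j h => M.2.1 j i h, M.2.2⟩
      invFun := fun M => ⟨M.1ᵀ, fun i j h => M.2.1 j i h, M.2.2⟩
      left_inv := fun M => rfl
      right_inv := fun M => rfl }

/-- Symmetric matrices. -/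
theorem card_symmMatrix [Fintype F] {q : ℕ} (hF : Fintype.card F = q) (n : ℕ) :
    Nat.card {M : Matrix (Fin n) (Fin n) F // Mᵀ = M} = q ^ (n + n * (n - 1) / 2) := by
  classical
  have e : {M : Matrix (Fin n) (Fin n) F // Mᵀ = M} ≃
      {M : Matrix (Fin n) (Fin n) F // ∀ i j, i < j → M i j = 0} :=
    { toFun := fun M => ⟨Matrix.of fun i j => if i < j then 0 else M.1 i j,
        fun i j h => by simp [h]⟩
      invFun := fun M => ⟨Matrix.of fun i j => if i < j then M.1 j i else M.1 i j, by
        ext i j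
        rcases lt_trichotomy i j with h | h | h
        · simp [h, not_lt.2 h.le]
        · simp [h]
        · simp [h, not_lt.2 h.le]⟩
      left_inv := fun M => by
        refine Subtype.ext (Matrix.ext fun i j => ?_)
        simp only [Matrix.of_apply]
        rcases lt_trichotomy i j with h | h | h
        · rw [if_pos h, if_neg (not_lt.2 h.le)]
          exact congrFun (congrFun M.2 i) j
        · simp [h]
        · simp [not_lt.2 h.le]
      right_inv := fun M => by
        refine Subtype.ext (Matrix.ext fun i j => ?_)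
        simp only [Matrix.of_apply]
        split_ifs with h
        · exact (M.2 i j h).symm
        · rfl }
  rw [Nat.card_congr e, card_entrywise fun i j (x : F) => i < j → x = 0]
  have e' : ∀ i j : Fin n, Nat.card {x : F // i < j → x = 0} =
      (if j < i then q else 1) * (if j = i then q else 1) := by
    intro i j
    rcases lt_trichotomy i j with h | h | h
    · rw [if_neg (not_lt.2 h.le), if_neg h.ne', one_mul,
        Nat.card_congr (Equiv.subtypeEquivRight (q := fun x : F => x = 0) fun x =>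
          ⟨fun hx => hx h, fun hx _ => hx⟩),
        Nat.card_eq_fintype_card, Fintype.card_subtype_eq]
    · rw [if_neg (not_lt.2 h.le), if_pos h.symm, one_mul, Nat.card_congr
        (Equiv.subtypeUnivEquiv fun x e => absurd e (not_lt.2 h.ge)),
        Nat.card_eq_fintype_card, hF]
    · rw [if_pos h, if_neg h.ne, mul_one, Nat.card_congr (Equiv.subtypeUnivEquiv fun x e =>
        absurd e (not_lt.2 h.le)), Nat.card_eq_fintype_card, hF]
  simp only [e', Finset.prod_mul_distrib, Finset.prod_ite_eq', Finset.mem_univ, if_true,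
    Finset.prod_const, Finset.card_univ, Fintype.card_fin]
  rw [pow_add, mul_comm]
  congr 1
  rw [← Finset.sum_range_id n, ← Fin.sum_univ_eq_sum_range (fun i => i) n,
    ← Finset.prod_pow_eq_pow_sum]
  refine Finset.prod_congr rfl fun i _ => ?_
  rw [Finset.prod_ite, Finset.prod_const, Finset.prod_const_one, mul_one]
  congr 1
  have : (Finset.univ.filter fun j => j < i) = Finset.Iio i := by ext j; simp
  rw [this, Fin.card_Iio]

/-- The span of the first `k` coordinate vectors. -/
def coordSub (F : Type*) [Field F] (n k : ℕ) : Submodule F (Fin n → F) where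
  carrier := {v | ∀ i : Fin n, k ≤ (i : ℕ) → v i = 0}
  add_mem' ha hb i hi := by rw [Pi.add_apply, ha i hi, hb i hi, add_zero]
  zero_mem' _ _ := rfl
  smul_mem' c _ hv i hi := by rw [Pi.smul_apply, hv i hi, smul_zero]

theorem coe_coordSub (n k : ℕ) :
    (coordSub F n k : Set (Fin n → F)) = {v | ∀ i : Fin n, k ≤ (i : ℕ) → v i = 0} := rfl

theorem coordSub_ne_bot {n k : ℕ} (hk : 0 < k) (hn : 0 < n) : coordSub F n k ≠ ⊥ := by
  intro h
  have hm : (Pi.single ⟨0, hn⟩ 1 : Fin n → F) ∈ coordSub F n k := fun i hi =>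
    Pi.single_eq_of_ne (M := fun _ : Fin n => F) (fun e => by rw [e] at hi; simp at hi; omega) 1
  rw [h, Submodule.mem_bot] at hm
  exact one_ne_zero (α := F) (by simpa using congrFun hm ⟨0, hn⟩)

theorem coordSub_ne_top {n k : ℕ} (hk : k < n) : coordSub F n k ≠ ⊤ := by
  intro h
  have hm : (Pi.single ⟨k, hk⟩ 1 : Fin n → F) ∈ coordSub F n k := h ▸ Submodule.mem_top
  exact one_ne_zero (α := F) (by simpa using hm ⟨k, hk⟩ le_rfl)

/-- The stabiliser of a coordinate subspace consists of the block triangular matrices. -/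
theorem stab_coord_iff {n k : ℕ} (g : GL (Fin n) F) :
    g ∈ subspaceStabilizer (coordSub F n k) ↔
      ∀ i j : Fin n, k ≤ (i : ℕ) → (j : ℕ) < k → (g : Matrix (Fin n) (Fin n) F) i j = 0 := by
  constructor
  · intro h i j hi hj
    have hm : (Pi.single j 1 : Fin n → F) ∈ coordSub F n k := fun l hl =>
      Pi.single_eq_of_ne (M := fun _ : Fin n => F) (fun e => by rw [e] at hl; omega) 1
    have := (mem_subspaceStabilizer_iff.1 h _).1 hm i hi
    simpa using this
  · intro h
    refine mem_subspaceStabilizer_of_le fun x hx i hi => ?_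
    show ∑ j, (g : Matrix (Fin n) (Fin n) F) i j * x j = 0
    refine Finset.sum_eq_zero fun j _ => ?_
    by_cases hj : (j : ℕ) < k
    · exact mul_eq_zero_of_left (h i j hi hj) _
    · exact mul_eq_zero_of_right _ (hx j (not_lt.1 hj))

/-- The order of a maximal parabolic subgroup of `GL`. -/
theorem card_stab_coord [Fintype F] {q : ℕ} (hF : Fintype.card F = q) (k l : ℕ) :
    Nat.card ↥(subspaceStabilizer (coordSub F (k + l) k)) =
      q ^ (k * l) * (∏ i : Fin k, (q ^ k - q ^ (i : ℕ))) *
        ∏ i : Fin l, (q ^ l - q ^ (i : ℕ)) := by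
  classical
  have e : {g : GL (Fin k ⊕ Fin l) F //
        (g : Matrix (Fin k ⊕ Fin l) (Fin k ⊕ Fin l) F).toBlocks₂₁ = 0} ≃
      GL (Fin k) F × Matrix (Fin k) (Fin l) F × GL (Fin l) F :=
    { toFun := fun g =>
        have hd : ((g.1 : Matrix (Fin k ⊕ Fin l) (Fin k ⊕ Fin l) F).toBlocks₁₁).det ≠ 0 ∧
            ((g.1 : Matrix (Fin k ⊕ Fin l) (Fin k ⊕ Fin l) F).toBlocks₂₂).det ≠ 0 := by
          have h := g.1.det_ne_zero
          rw [← fromBlocks_toBlocks (g.1 : Matrix (Fin k ⊕ Fin l) (Fin k ⊕ Fin l) F), g.2,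
            det_fromBlocks_zero₂₁] at h
          exact ⟨left_ne_zero_of_mul h, right_ne_zero_of_mul h⟩
        (GeneralLinearGroup.mkOfDetNeZero _ hd.1,
          (g.1 : Matrix (Fin k ⊕ Fin l) (Fin k ⊕ Fin l) F).toBlocks₁₂,
          GeneralLinearGroup.mkOfDetNeZero _ hd.2)
      invFun := fun p =>
        ⟨GeneralLinearGroup.mkOfDetNeZero
          (fromBlocks (p.1 : Matrix (Fin k) (Fin k) F) p.2.1 0 (p.2.2 : Matrix (Fin l) (Fin l) F))
          (by rw [det_fromBlocks_zero₂₁]; exact mul_ne_zero p.1.det_ne_zero p.2.2.det_ne_zero),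
          by simp [GeneralLinearGroup.mkOfDetNeZero, toBlocks_fromBlocks₂₁]⟩
      left_inv := fun g => by
        refine Subtype.ext (Units.ext ?_)
        simp only [GeneralLinearGroup.mkOfDetNeZero]
        conv_rhs => rw [← fromBlocks_toBlocks (g.1 : Matrix (Fin k ⊕ Fin l) (Fin k ⊕ Fin l) F), g.2]
        rfl
      right_inv := fun p => by
        refine Prod.ext (Units.ext ?_) (Prod.ext ?_ (Units.ext ?_)) <;>
          simp [GeneralLinearGroup.mkOfDetNeZero] }
  have e2 : ↥(subspaceStabilizer (coordSub F (k + l) k)) ≃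
      {g : GL (Fin k ⊕ Fin l) F //
        (g : Matrix (Fin k ⊕ Fin l) (Fin k ⊕ Fin l) F).toBlocks₂₁ = 0} :=
    Equiv.subtypeEquiv (Units.mapEquiv
      (Matrix.reindexAlgEquiv F F (finSumFinEquiv (m := k) (n := l)).symm).toMulEquiv).toEquiv
      fun g => by
        rw [stab_coord_iff]
        constructor
        · intro h
          ext i j
          exact h _ _ (by simp) (by simp)
        · intro h i j hi hj
          obtain ⟨i', rfl⟩ : ∃ i', Fin.natAdd k i' = i :=
            ⟨⟨(i : ℕ) - k, by omega⟩, Fin.ext (by simp; omega)⟩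
          obtain ⟨j', rfl⟩ : ∃ j', Fin.castAdd l j' = j := ⟨⟨(j : ℕ), hj⟩, rfl⟩
          simpa [toBlocks₂₁] using congrFun (congrFun h i') j'
  rw [Nat.card_congr (e2.trans e), Nat.card_prod, Nat.card_prod, Matrix.card_GL_field,
    Matrix.card_GL_field, hF, show Nat.card (Matrix (Fin k) (Fin l) F) = q ^ (k * l) by
      show Nat.card (Fin k → Fin l → F) = _
      rw [Nat.card_eq_fintype_card, Fintype.card_fun, Fintype.card_fun, hF, ← pow_mul,
        Fintype.card_fin, Fintype.card_fin, mul_comm]]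
  ring

variable {ι : Type} [Fintype ι] [DecidableEq ι]

/-- A subspace invariant under the stabiliser of `W` is `⊥`, `W` or `⊤`. -/
theorem eq_of_stab_le {W U : Submodule F (ι → F)}
    (h : subspaceStabilizer W ≤ subspaceStabilizer U) (hU0 : U ≠ ⊥) (hU1 : U ≠ ⊤) : U = W := by
  have hc : ∀ v a : ι → F, a ⬝ᵥ v = 0 → v ∈ W → ∀ x ∈ U, x + (a ⬝ᵥ x) • v ∈ U :=
    fun v a ha hv x hx => by
      rw [← tv_mulVec ha]
      exact (mem_subspaceStabilizer_iff.1 (h (tv_mem_stabilizer_of_centre ha hv)) x).1 hx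
  have hUW : U ≤ W := by
    by_contra hle
    obtain ⟨x, hxU, hxW⟩ := Set.not_subset.mp hle
    obtain ⟨b, hbW, hbx⟩ := exists_dot_of_notMem W hxW
    apply hU1
    rw [Submodule.eq_top_iff']
    intro v
    have h0 : b ⬝ᵥ (v - (b ⬝ᵥ v) • x) = 0 := by simp [dotProduct_sub, dotProduct_smul, hbx]
    have h1 := (mem_subspaceStabilizer_iff.1 (h (tv_mem_stabilizer_of_axis h0 hbW)) x).1 hxU
    rw [tv_mulVec h0, hbx, one_smul] at h1
    have h2 := U.add_mem (U.sub_mem h1 hxU) (U.smul_mem (b ⬝ᵥ v) hxU)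
    simpa using h2
  refine le_antisymm hUW fun v hv => ?_
  obtain ⟨x, hxU, hx0⟩ := Submodule.exists_mem_ne_zero_of_ne_bot hU0
  by_cases hvx : ∃ c : F, c • v = x
  · obtain ⟨c, hc'⟩ := hvx
    have hc0 : c ≠ 0 := by rintro rfl; exact hx0 (by simpa using hc'.symm)
    rw [← inv_smul_smul₀ hc0 v, hc']
    exact U.smul_mem _ hxU
  · push Not at hvx
    obtain ⟨a, hav, hax⟩ := exists_axis hvx
    have h1 := hc v a hav hv x hxU
    rw [hax, one_smul] at h1
    simpa using U.sub_mem h1 hxU

/-- Maximal parabolic subgroups of `GL` are maximal. -/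
theorem isCoatom_stab {n k : ℕ} (hk0 : 0 < k) (hkn : k < n) :
    IsCoatom (subspaceStabilizer (coordSub F n k)) := by
  have hW0 : coordSub F n k ≠ ⊥ := coordSub_ne_bot hk0 (by omega)
  have hW1 : coordSub F n k ≠ ⊤ := coordSub_ne_top hkn
  refine ⟨fun h => ?_, fun M hM => ?_⟩
  · obtain ⟨v, a, -, hva⟩ := exists_tv_not_stabilizing hW0 hW1
    exact hva (h ▸ Subgroup.mem_top _)
  · obtain ⟨g, hg, hg'⟩ := SetLike.exists_of_lt hM
    have hSL := specialLinear_le_of_subspaceStabilizer hW1
      (le_trans inf_le_left hM.le) hg hg'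
    rw [eq_top_iff]
    intro x _
    obtain ⟨d, hd⟩ : ∃ d : Fin n → F,
        d = Function.update (1 : Fin n → F) ⟨0, by omega⟩ (x : Matrix (Fin n) (Fin n) F).det := ⟨_, rfl⟩
    have hdet : (Matrix.diagonal d).det = (x : Matrix (Fin n) (Fin n) F).det := by
      rw [det_diagonal, hd, Finset.prod_update_of_mem (Finset.mem_univ _)]
      simp
    have hD0 : (Matrix.diagonal d).det ≠ 0 := hdet ▸ x.det_ne_zero
    obtain ⟨D, hD⟩ : ∃ D, D = GeneralLinearGroup.mkOfDetNeZero _ hD0 := ⟨_, rfl⟩
    have hDm : D ∈ subspaceStabilizer (coordSub F n k) := by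
      rw [stab_coord_iff, hD]
      intro i j hi hj
      exact diagonal_apply_ne _ fun e => by rw [e] at hi; omega
    have : D⁻¹ * x ∈ specialLinear (Fin n) F := by
      show Matrix.GeneralLinearGroup.det (D⁻¹ * x) = 1
      rw [map_mul, map_inv, inv_mul_eq_one]
      ext
      rw [hD]
      exact hdet
    simpa using mul_mem (hM.le hDm) (hSL this)

theorem map_conj_stab (g : GL ι F) (W : Submodule F (ι → F)) :
    (subspaceStabilizer W).map (MulAut.conj g).toMonoidHom =
      subspaceStabilizer (W.map (g : Matrix ι ι F).mulVecLin) := by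
  ext h
  rw [Subgroup.mem_map_equiv, mem_subspaceStabilizer_iff, mem_subspaceStabilizer_iff]
  have key : ∀ x, x ∈ W.map (g : Matrix ι ι F).mulVecLin ↔
      ((g⁻¹ : GL ι F) : Matrix ι ι F) *ᵥ x ∈ W := by
    intro x
    constructor
    · rintro ⟨y, hy, rfl⟩
      simpa [mulVec_mulVec] using hy
    · exact fun hx => ⟨_, hx, by simp [mulVec_mulVec]⟩
  simp only [key, MulAut.conj_symm_apply, Units.val_mul, ← mulVec_mulVec]
  constructor
  · intro hh x
    have := hh (((g⁻¹ : GL ι F) : Matrix ι ι F) *ᵥ x)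
    simpa [mulVec_mulVec, Matrix.mul_assoc] using this
  · intro hh x
    have := hh ((g : Matrix ι ι F) *ᵥ x)
    simpa [mulVec_mulVec, Matrix.mul_assoc] using this

/-- Inverse transpose followed by reversal of the coordinates. -/
def dualRev (n : ℕ) (F : Type*) [Field F] (g : GL (Fin n) F) : GL (Fin n) F :=
  ⟨((g⁻¹ : GL (Fin n) F) : Matrix (Fin n) (Fin n) F)ᵀ.submatrix Fin.revPerm Fin.revPerm,
    (g : Matrix (Fin n) (Fin n) F)ᵀ.submatrix Fin.revPerm Fin.revPerm,
    by rw [submatrix_mul_equiv _ _ _ Fin.revPerm _, ← transpose_mul, g.mul_inv, transpose_one,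
      submatrix_one _ Fin.revPerm.injective],
    by rw [submatrix_mul_equiv _ _ _ Fin.revPerm _, ← transpose_mul, g.inv_mul, transpose_one,
      submatrix_one _ Fin.revPerm.injective]⟩

theorem dualRev_apply (n : ℕ) (g : GL (Fin n) F) (i j : Fin n) :
    (dualRev n F g : Matrix (Fin n) (Fin n) F) i j =
      ((g⁻¹ : GL (Fin n) F) : Matrix (Fin n) (Fin n) F) j.rev i.rev := rfl

/-- `dualRev` as an automorphism. -/
def dualRevEquiv (n : ℕ) (F : Type*) [Field F] : GL (Fin n) F ≃* GL (Fin n) F where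
  toFun := dualRev n F
  invFun := dualRev n F
  left_inv g := Units.ext (by
    ext i j
    show (g : Matrix (Fin n) (Fin n) F) i.rev.rev j.rev.rev = _
    simp)
  right_inv g := Units.ext (by
    ext i j
    show (g : Matrix (Fin n) (Fin n) F) i.rev.rev j.rev.rev = _
    simp)
  map_mul' g h := Units.ext (by
    show ((((g * h)⁻¹ : GL (Fin n) F)) : Matrix (Fin n) (Fin n) F)ᵀ.submatrix Fin.revPerm Fin.revPerm =
      (((g⁻¹ : GL (Fin n) F)) : Matrix (Fin n) (Fin n) F)ᵀ.submatrix Fin.revPerm Fin.revPerm *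
        (((h⁻¹ : GL (Fin n) F)) : Matrix (Fin n) (Fin n) F)ᵀ.submatrix Fin.revPerm Fin.revPerm
    rw [submatrix_mul_equiv _ _ _ Fin.revPerm _, ← transpose_mul, _root_.mul_inv_rev, Units.val_mul])

theorem dualRev_mem_stab {n k : ℕ} (hk : k ≤ n) {g : GL (Fin n) F}
    (hg : g ∈ subspaceStabilizer (coordSub F n k)) :
    dualRev n F g ∈ subspaceStabilizer (coordSub F n (n - k)) := by
  rw [stab_coord_iff]
  intro i j hi hj
  rw [dualRev_apply]
  exact (stab_coord_iff _).1 (inv_mem hg) _ _ (by rw [Fin.val_rev]; omega)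
    (by rw [Fin.val_rev]; omega)

theorem finrank_coordSub {n k : ℕ} (hk : k ≤ n) : Module.finrank F (coordSub F n k) = k := by
  obtain ⟨l, rfl⟩ : ∃ l, n = k + l := ⟨n - k, by omega⟩
  have e : (Fin k → F) ≃ₗ[F] coordSub F (k + l) k :=
    { toFun := fun v => ⟨Fin.append v 0, fun i hi => by
        obtain ⟨i', rfl⟩ : ∃ i', Fin.natAdd k i' = i :=
          ⟨⟨(i : ℕ) - k, by omega⟩, Fin.ext (by simp; omega)⟩
        simp⟩
      invFun := fun w i => w.1 (Fin.castAdd l i)
      map_add' := fun a b => Subtype.ext (funext fun i => by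
        refine Fin.addCases ?_ ?_ i <;> intro <;> simp)
      map_smul' := fun c a => Subtype.ext (funext fun i => by
        refine Fin.addCases ?_ ?_ i <;> intro <;> simp)
      left_inv := fun v => funext fun i => by simp
      right_inv := fun w => Subtype.ext (funext fun i => by
        refine Fin.addCases ?_ ?_ i <;> intro j
        · simp
        · have := w.2 (Fin.natAdd k j) (by simp)
          simp [this]) }
  rw [← e.finrank_eq, Module.finrank_fin_fun]

end CfsgLib.Forms
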