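import Cfsg.Agent.Spinor.Omega
import Cfsg.Agent.Forms.Symplectic
import Cfsg.Agent.Forms.SymplecticBasis

/-!
# Characteristic two: reflections (orthogonal transvections) generate the orthogonal group

Any dimension, the only exception being dimension four over the field of two elements.
Main results: `exists_move_charTwo`, `exists_isReflProd_charTwo`.
-/

namespace CfsgLib.Forms

open Matrix Module CfsgLib.Spinor

set_option linter.style.haveILetI false

variable {F : Type*} [Field F] [Finite F] [CharP F 2] {ι : Type} [Fintype ι] [DecidableEq ι]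
  {Q : QuadraticForm F (ι → F)}

omit [Finite F] [Fintype ι] [DecidableEq ι] in
theorem polar_alt_charTwo : LinearMap.IsAlt (QuadraticMap.polarBilin Q) := fun x => by
  simp [QuadraticMap.polar_self, two_smul, CharTwo.add_self_eq_zero]

omit [Finite F] [Fintype ι] [DecidableEq ι] in
theorem polar_self_charTwo (x : ι → F) : QuadraticMap.polar (⇑Q) x x = 0 := polar_alt_charTwo x

theorem exists_sq_eq (a : F) : ∃ b, b * b = a := by
  obtain ⟨b, hb⟩ := FiniteField.isSquare_of_char_two (ringChar.eq F 2) a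
  exact ⟨b, hb.symm⟩

omit [Finite F] [DecidableEq ι] in
/-- The dimension of a space with nondegenerate alternating polar form is even. -/
theorem finrank_even_charTwo (hQ : (QuadraticMap.polarBilin Q).Nondegenerate) :
    Even (Fintype.card ι) := by
  obtain ⟨m, b, -⟩ := exists_symplectic_basis_nondeg (QuadraticMap.polarBilin Q) polar_alt_charTwo hQ
  have h := Module.finrank_eq_card_basis b
  rw [Module.finrank_pi, Fintype.card_sum, Fintype.card_fin] at h
  exact ⟨m, h⟩

omit [Finite F] in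
/-- One reflection carrying `u` to `v` when `polar u v ≠ 0`. -/
theorem exists_move_one {u v : ι → F} (huv : Q u = Q v) (h : QuadraticMap.polar (⇑Q) u v ≠ 0) :
    ∃ g : ↥(Cfsg.isometryGroup F ⇑Q), (∃ vs, IsReflProd Q g vs) ∧ mat Q g *ᵥ u = v := by
  have hd : Q (u + v) = QuadraticMap.polar (⇑Q) u v := by
    rw [QuadraticMap.map_add (⇑Q), ← huv, CharTwo.add_self_eq_zero, zero_add]
  have hd0 : Q (u + v) ≠ 0 := by rw [hd]; exact h
  refine ⟨reflIso Q (u + v) hd0, ⟨_, IsReflProd.reflIso _ hd0⟩, ?_⟩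
  rw [mat_reflIso, reflectionMatrix_mulVec, refl_apply, QuadraticMap.polar_add_left,
    polar_self_charTwo, zero_add, QuadraticMap.polar_comm _ v u, hd, inv_mul_cancel₀ h, one_smul,
    sub_eq_add_neg, ← sub_eq_zero]
  have h2 : (2 : F) = 0 := CharTwo.two_eq_zero
  funext i
  simp only [Pi.sub_apply, Pi.add_apply, Pi.neg_apply, Pi.zero_apply]
  linear_combination (-(v i)) * h2

/-- Transitivity of the reflection group on anisotropic vectors of given value. -/
theorem exists_move_charTwo (hQ : (QuadraticMap.polarBilin Q).Nondegenerate)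
    (hexc : Nat.card F ≠ 2 ∨ Fintype.card ι ≠ 4) {u v : ι → F} (hu : Q u ≠ 0) (huv : Q u = Q v) :
    ∃ g : ↥(Cfsg.isometryGroup F ⇑Q), (∃ vs, IsReflProd Q g vs) ∧ mat Q g *ᵥ u = v := by
  by_cases heq : u = v
  · exact ⟨1, ⟨[], IsReflProd.one⟩, by rw [mat_one, one_mulVec, heq]⟩
  by_cases hpol : QuadraticMap.polar (⇑Q) u v = 0
  swap
  · exact exists_move_one huv hpol
  have two : ∀ w, Q w = Q u → QuadraticMap.polar (⇑Q) u w ≠ 0 →
      QuadraticMap.polar (⇑Q) v w ≠ 0 →
      ∃ g : ↥(Cfsg.isometryGroup F ⇑Q), (∃ vs, IsReflProd Q g vs) ∧ mat Q g *ᵥ u = v := by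
    intro w hw h1 h2
    obtain ⟨g₁, ⟨vs₁, hvs₁⟩, hg₁⟩ := exists_move_one hw.symm h1
    obtain ⟨g₂, ⟨vs₂, hvs₂⟩, hg₂⟩ := exists_move_one (u := w) (v := v) (hw.trans huv)
      (by rwa [QuadraticMap.polar_comm])
    exact ⟨g₂ * g₁, ⟨_, hvs₂.mul hvs₁⟩, by rw [mat_mul, ← mulVec_mulVec, hg₁, hg₂]⟩
  have hu0 : u ≠ 0 := fun h => hu (by rw [h, QuadraticMap.map_zero])
  have hv0 : v ≠ 0 := fun h => hu (by rw [huv, h, QuadraticMap.map_zero])
  -- `u` and `v` are independent, so they have dual vectors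
  have hli : LinearIndependent F ![u, v] := by
    rw [LinearIndependent.pair_iff' hu0]
    intro a ha
    rw [← ha, QuadraticMap.map_smul, smul_eq_mul] at huv
    have h1 : a * a = 1 := mul_right_cancel₀ hu (by rw [one_mul]; exact huv.symm)
    rcases mul_self_eq_mul_self_iff.1 (h1.trans (one_mul 1).symm) with h | h
    · exact heq (by rw [← ha, h, one_smul])
    · exact heq (by rw [← ha, h, CharTwo.neg_eq, one_smul])
  obtain ⟨φ, hφ⟩ := LinearMap.exists_extend
    ((Basis.span hli).constr F (fun _ => (1 : F)))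
  obtain ⟨x, hx⟩ := exists_rep (σ := RingHom.id F) (QuadraticMap.polarBilin Q) (fun _ => rfl) hQ.1 φ
  have hval : ∀ i, QuadraticMap.polar (⇑Q) (![u, v] i) x = 1 := by
    intro i
    have h1 := LinearMap.congr_fun hφ (Basis.span hli i)
    rw [Basis.constr_basis] at h1
    simp only [LinearMap.coe_comp, Function.comp_apply, Submodule.coe_subtype,
      Basis.span_apply] at h1
    rw [← hx] at h1
    rw [QuadraticMap.polar_comm]
    exact h1
  have hux : QuadraticMap.polar (⇑Q) u x = 1 := hval 0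
  have hvx : QuadraticMap.polar (⇑Q) v x = 1 := hval 1
  have h2 : (2 : F) = 0 := CharTwo.two_eq_zero
  have key : ∀ a b y, QuadraticMap.polar (⇑Q) u y = 1 → QuadraticMap.polar (⇑Q) v y = 1 →
      a * a * Q u + b * b * Q y + a * b = Q u → b ≠ 0 →
      ∃ g : ↥(Cfsg.isometryGroup F ⇑Q), (∃ vs, IsReflProd Q g vs) ∧ mat Q g *ᵥ u = v := by
    intro a b y hy1 hy2 hval hb
    refine two (a • u + b • y) ?_ ?_ ?_
    · rw [QuadraticMap.map_add (⇑Q), QuadraticMap.map_smul, QuadraticMap.map_smul,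
        QuadraticMap.polar_smul_left, QuadraticMap.polar_smul_right, hy1]
      simp only [smul_eq_mul]
      linear_combination hval
    · rw [QuadraticMap.polar_add_right, QuadraticMap.polar_smul_right,
        QuadraticMap.polar_smul_right, polar_self_charTwo, hy1]
      simpa using hb
    · rw [QuadraticMap.polar_add_right, QuadraticMap.polar_smul_right,
        QuadraticMap.polar_smul_right, QuadraticMap.polar_comm _ v u, hpol, hy2]
      simpa using hb
  by_cases hex : ∃ y, QuadraticMap.polar (⇑Q) u y = 1 ∧ QuadraticMap.polar (⇑Q) v y = 1 ∧ Q y ≠ 0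
  · obtain ⟨y, hy1, hy2, hy⟩ := hex
    refine key 1 (Q y)⁻¹ y hy1 hy2 ?_ (inv_ne_zero hy)
    field_simp
    linear_combination h2
  have hall : ∀ y, QuadraticMap.polar (⇑Q) u y = 1 → QuadraticMap.polar (⇑Q) v y = 1 → Q y = 0 :=
    fun y h1 h2 => not_not.1 fun h => hex ⟨y, h1, h2, h⟩
  by_cases ha : ∃ a : F, a ≠ 0 ∧ a ≠ 1
  · obtain ⟨a, ha0, ha1⟩ := ha
    refine key a (Q u * (1 + a * a) / a) x hux hvx ?_ ?_
    · rw [hall x hux hvx]
      field_simp
      ring_nf
      simp [h2]
    · refine div_ne_zero (mul_ne_zero hu fun h => ha1 ?_) ha0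
      have h1 : a * a = 1 * 1 := by linear_combination h - h2
      rcases mul_self_eq_mul_self_iff.1 h1 with h | h
      · exact h
      · rw [h, CharTwo.neg_eq]
  -- the field of two elements
  exfalso
  have hcard : Nat.card F = 2 := by
    rw [Nat.card_eq_two_iff]
    refine ⟨0, 1, zero_ne_one, ?_⟩
    ext a
    simp only [Set.mem_insert_iff, Set.mem_singleton_iff, Set.mem_univ, iff_true]
    by_contra h
    rw [not_or] at h
    exact ha ⟨a, h⟩
  let L : (ι → F) →ₗ[F] F × F :=
    (QuadraticMap.polarBilin Q u).prod (QuadraticMap.polarBilin Q v)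
  have hdimU : Fintype.card ι ≤ finrank F (LinearMap.ker L) + 2 := by
    have h := L.finrank_range_add_finrank_ker
    have h' := Submodule.finrank_le (LinearMap.range L)
    rw [Module.finrank_prod, Module.finrank_self] at h'
    rw [Module.finrank_pi] at h
    omega
  have hUQ : ∀ y ∈ LinearMap.ker L, Q y = QuadraticMap.polar (⇑Q) x y := by
    intro y hy
    have hy' := LinearMap.mem_ker.1 hy
    simp only [L, LinearMap.prod_apply, Function.prod_apply, Prod.mk_eq_zero,
      QuadraticMap.polarBilin_apply_apply] at hy'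
    have h1 := hall (x + y) (by rw [QuadraticMap.polar_add_right, hux, hy'.1, add_zero])
      (by rw [QuadraticMap.polar_add_right, hvx, hy'.2, add_zero])
    rw [QuadraticMap.map_add (⇑Q), hall x hux hvx, zero_add] at h1
    linear_combination h1 - (QuadraticMap.polar (⇑Q) x y) * h2
  have hUiso : LinearMap.ker L ≤
      LinearMap.BilinForm.orthogonal (QuadraticMap.polarBilin Q) (LinearMap.ker L) := by
    intro y hy z hz
    show QuadraticMap.polar (⇑Q) z y = 0
    have h1 : Q (z + y) = QuadraticMap.polar (⇑Q) x (z + y) := hUQ _ (Submodule.add_mem _ hz hy)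
    rw [QuadraticMap.map_add (⇑Q), QuadraticMap.polar_add_right, hUQ z hz, hUQ y hy] at h1
    linear_combination h1
  have hle := Submodule.finrank_mono hUiso
  rw [LinearMap.BilinForm.finrank_orthogonal hQ, Module.finrank_pi] at hle
  have hn4 : Fintype.card ι ≠ 4 := by
    rcases hexc with h | h
    · exact absurd hcard h
    · exact h
  obtain ⟨k, hk⟩ := finrank_even_charTwo hQ
  -- so the dimension is two, where `polar u v = 0` forces dependence
  have hn2 : Fintype.card ι ≤ 2 := by omega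
  have hker : Submodule.span F (Set.range ![u, v]) = ⊤ := by
    apply Submodule.eq_top_of_finrank_eq
    have h := finrank_span_eq_card hli
    have h' := Submodule.finrank_le (Submodule.span F (Set.range ![u, v]))
    rw [Module.finrank_pi] at h' ⊢
    rw [h, Fintype.card_fin] at h' ⊢
    omega
  refine hu0 (hQ.1 u fun y => ?_)
  have hy : y ∈ Submodule.span F (Set.range ![u, v]) := by rw [hker]; exact Submodule.mem_top
  induction hy using Submodule.span_induction with
  | mem y hy =>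
    obtain ⟨i, rfl⟩ := hy
    fin_cases i
    · exact polar_self_charTwo u
    · exact hpol
  | zero => exact map_zero _
  | add a b _ _ ha hb => rw [map_add, ha, hb, add_zero]
  | smul c a _ ha => rw [map_smul, ha, smul_zero]

/-- An isometry fixing an anisotropic vector is a product of reflections. -/
theorem isReflProd_of_fix (hQ : (QuadraticMap.polarBilin Q).Nondegenerate)
    (g : ↥(Cfsg.isometryGroup F ⇑Q)) {u : ι → F} (hu : Q u ≠ 0) (hgu : mat Q g *ᵥ u = u) :
    ∃ vs, IsReflProd Q g vs := by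
  obtain ⟨B, hBdef⟩ : ∃ B, B = QuadraticMap.polarBilin Q := ⟨_, rfl⟩
  have hBp : ∀ x y, B x y = QuadraticMap.polar (⇑Q) x y := fun x y => by rw [hBdef]; rfl
  have hB : B.Nondegenerate := hBdef ▸ hQ
  have hA : LinearMap.IsAlt B := hBdef ▸ polar_alt_charTwo
  have hrefl : ∀ x y, B x y = 0 → B y x = 0 := fun x y h => by
    rw [hBp, QuadraticMap.polar_comm, ← hBp, h]
  obtain ⟨w₀, hw₀⟩ : ∃ w, B u w = 1 := by
    obtain ⟨w, hw⟩ : ∃ w, B u w ≠ 0 := by
      by_contra h
      refine hu ?_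
      rw [hB.1 u fun y => not_not.1 fun hy => h ⟨y, hy⟩, QuadraticMap.map_zero]
    exact ⟨(B u w)⁻¹ • w, by rw [map_smul, smul_eq_mul, inv_mul_cancel₀ hw]⟩
  obtain ⟨W, hWdef⟩ : ∃ W, W = pairPerp B u w₀ := ⟨_, rfl⟩
  have hWu : ∀ w ∈ W, B u w = 0 ∧ B w₀ w = 0 := fun w hw => by rw [hWdef] at hw; exact hw
  have hdec : ∀ z, ∃ a c : F, ∃ w ∈ W, z = a • u + c • w₀ + w := by
    intro z
    obtain ⟨p, rfl⟩ := (pairDecomp B hA hw₀).surjective z
    exact ⟨p.1.1, p.1.2, _, hWdef ▸ p.2.2, rfl⟩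
  -- projection of `u^⊥` onto `W`
  let π : (ι → F) → (ι → F) := fun y => y + B w₀ y • u
  have hπ : ∀ y, B u y = 0 → π y ∈ W := by
    intro y hy
    rw [hWdef]
    have hw0u : B w₀ u = -1 := by rw [← LinearMap.IsAlt.neg hA u w₀, hw₀]
    exact ⟨by simp [π, hy, hA u], by simp [π, hw0u]⟩
  have hπid : ∀ y ∈ W, π y = y := fun y hy => by simp [π, (hWu y hy).2]
  have hπu : ∀ (y : ι → F) (a : F), π (y + a • u) = π y := by
    intro y a
    have hw0u : B w₀ u = -1 := by rw [← LinearMap.IsAlt.neg hA u w₀, hw₀]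
    simp only [π, map_add, map_smul, hw0u, smul_eq_mul, mul_neg, mul_one, add_smul, neg_smul]
    abel
  have hpres : ∀ (h : ↥(Cfsg.isometryGroup F ⇑Q)) x y, B (mat Q h *ᵥ x) (mat Q h *ᵥ y) = B x y :=
    fun h x y => by rw [hBp, hBp, polar_mulVec]
  have hperp : ∀ (h : ↥(Cfsg.isometryGroup F ⇑Q)), mat Q h *ᵥ u = u →
      ∀ y, B u y = 0 → B u (mat Q h *ᵥ y) = 0 := by
    intro h hh y hy
    conv_lhs => rw [← hh]
    rw [hpres, hy]
  -- symplectic coordinates on `W`
  have hWsep : ∀ x : W, (∀ y : W, B (x : ι → F) (y : ι → F) = 0) → x = 0 := by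
    intro x hx
    apply Subtype.ext
    apply hB.1
    intro z
    obtain ⟨a, c, w, hw, rfl⟩ := hdec z
    simp [hrefl _ _ (hWu x x.2).1, hrefl _ _ (hWu x x.2).2, hx ⟨w, hw⟩]
  obtain ⟨m, bb, h1, h2, h3⟩ := exists_symplectic_basis_nondeg (LinearMap.BilinForm.restrict B W) (fun x => hA x)
    ⟨hWsep, fun x hx => hWsep x fun y => hrefl _ _ (hx y)⟩
  let e := bb.equiv (Pi.basisFun F (Fin m ⊕ Fin m)) (Equiv.sumComm _ _)
  have he : ∀ x y : W, Cfsg.sympForm m F (e x) (e y) = B (x : ι → F) (y : ι → F) := by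
    intro x y
    have key : (sympBilin m F).compl₁₂ e.toLinearMap e.toLinearMap = LinearMap.BilinForm.restrict B W := by
      refine bb.ext fun i => bb.ext fun i' => ?_
      simp only [LinearMap.compl₁₂_apply, LinearEquiv.coe_coe, e, Basis.equiv_apply,
        Equiv.sumComm_apply, Pi.basisFun_apply, sympBilin_apply]
      rcases i with i | i <;> rcases i' with i' | i'
      · rw [h2]; simp [Sum.swap, sympForm_single_inr]
      · rw [h1]; simp [Sum.swap, sympForm_single_inl, Pi.single_apply, eq_comm]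
      · rw [← LinearMap.IsAlt.neg (B := LinearMap.BilinForm.restrict B W) (fun x => hA x)
          (bb (Sum.inl i')) (bb (Sum.inr i)), h1]
        simp [Sum.swap, sympForm_single_inr, Pi.single_apply]
      · rw [h3]; simp [Sum.swap, sympForm_single_inl]
    have h := LinearMap.congr_fun (LinearMap.congr_fun key x) y
    rw [← sympBilin_apply]
    exact h
  -- every symplectic map of `W` comes from a product of reflections fixing `u`
  have hall : ∀ A : Matrix.symplecticGroup (Fin m) F, ∃ h : ↥(Cfsg.isometryGroup F ⇑Q),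
      (∃ vs, IsReflProd Q h vs) ∧ ∃ hh : mat Q h *ᵥ u = u,
        ∀ y : W, e ⟨π (mat Q h *ᵥ y), hπ _ (hperp h hh y (hWu y y.2).1)⟩ = A.1 *ᵥ e y := by
    intro A
    have hA' : A ∈ transvGroup (Set.univ : Set (Fin m ⊕ Fin m → F)) := by
      rw [transvGroup_eq_top]; exact Subgroup.mem_top A
    induction hA' using Subgroup.closure_induction with
    | mem A hA' =>
      obtain ⟨w, -, c, rfl⟩ := hA'
      by_cases hc : c = 0
      · refine ⟨1, ⟨[], IsReflProd.one⟩, by rw [mat_one, one_mulVec], fun y => ?_⟩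
        show _ = Cfsg.sympTransvection m w c *ᵥ e y
        rw [sympTransvection_mulVec, hc, zero_mul, zero_smul, add_zero]
        congr 1
        apply Subtype.ext
        show π (mat Q 1 *ᵥ (y : ι → F)) = y
        rw [mat_one, one_mulVec, hπid _ y.2]
      obtain ⟨x, rfl⟩ := e.surjective w
      obtain ⟨t, ht⟩ := exists_sq_eq ((c⁻¹ - Q (x : ι → F)) / Q u)
      have hQz : Q ((x : ι → F) + t • u) = c⁻¹ := by
        rw [QuadraticMap.map_add (⇑Q), QuadraticMap.map_smul, QuadraticMap.polar_smul_right,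
          QuadraticMap.polar_comm, ← hBp, (hWu x x.2).1, smul_zero, add_zero, smul_eq_mul, ht,
          div_mul_cancel₀ _ hu]
        abel
      have hz0 : Q ((x : ι → F) + t • u) ≠ 0 := by rw [hQz]; exact inv_ne_zero hc
      have hfix : mat Q (reflIso Q _ hz0) *ᵥ u = u := by
        rw [mat_reflIso, reflectionMatrix_mulVec, refl_apply, ← hBp, LinearMap.map_add₂,
          LinearMap.map_smul₂, hA u, hrefl _ _ (hWu x x.2).1, smul_zero, add_zero,
          mul_zero, zero_smul, sub_zero]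
      refine ⟨reflIso Q _ hz0, ⟨_, IsReflProd.reflIso _ hz0⟩, hfix, fun y => ?_⟩
      show _ = Cfsg.sympTransvection m (e x) c *ᵥ e y
      rw [sympTransvection_mulVec, he, ← map_smul e, ← map_add]
      congr 1
      apply Subtype.ext
      show π (mat Q (reflIso Q _ hz0) *ᵥ (y : ι → F)) = _
      rw [mat_reflIso, reflectionMatrix_mulVec, refl_apply, hQz, inv_inv, ← hBp, LinearMap.map_add₂,
        LinearMap.map_smul₂, (hWu y y.2).1, smul_zero, add_zero,
        smul_add, smul_smul, sub_eq_add_neg, neg_add, ← add_assoc, ← neg_smul (c * _ * t),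
        hπu, ← sub_eq_add_neg, show B (x : ι → F) (y : ι → F) = B (y : ι → F) (x : ι → F) by
          rw [hBp, hBp, QuadraticMap.polar_comm]]
      rw [hπid _ (W.sub_mem y.2 (W.smul_mem _ x.2)), Submodule.coe_add, Submodule.coe_smul,
        sub_eq_add_neg, ← neg_smul, CharTwo.neg_eq]
    | one =>
      refine ⟨1, ⟨[], IsReflProd.one⟩, by rw [mat_one, one_mulVec], fun y => ?_⟩
      conv_rhs => rw [Submonoid.coe_one, Matrix.one_mulVec]
      congr 1
      apply Subtype.ext
      show π (mat Q 1 *ᵥ (y : ι → F)) = y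
      rw [mat_one, one_mulVec, hπid _ y.2]
    | mul A A' _ _ hA₁ hA₂ =>
      obtain ⟨h, ⟨vs, hvs⟩, hh, he₁⟩ := hA₁
      obtain ⟨h', ⟨vs', hvs'⟩, hh', he₂⟩ := hA₂
      have hhh : mat Q (h * h') *ᵥ u = u := by rw [mat_mul, ← mulVec_mulVec, hh', hh]
      refine ⟨h * h', ⟨_, hvs.mul hvs'⟩, hhh, fun y => ?_⟩
      rw [Submonoid.coe_mul, ← Matrix.mulVec_mulVec, ← he₂ y, ← he₁]
      congr 1
      apply Subtype.ext
      show π (mat Q (h * h') *ᵥ (y : ι → F)) = π (mat Q h *ᵥ π (mat Q h' *ᵥ (y : ι → F)))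
      conv_rhs => rw [show π (mat Q h' *ᵥ (y : ι → F)) = mat Q h' *ᵥ (y : ι → F) +
        B w₀ (mat Q h' *ᵥ (y : ι → F)) • u from rfl, mulVec_add, mulVec_smul, hh, hπu]
      rw [mat_mul, ← mulVec_mulVec]
    | inv A _ hA₁ =>
      obtain ⟨h, ⟨vs, hvs⟩, hh, he₁⟩ := hA₁
      have hinv : mat Q h⁻¹ *ᵥ u = u := by
        conv_lhs => rw [← hh]
        rw [mulVec_mulVec, ← mat_mul, inv_mul_cancel, mat_one, one_mulVec]
      refine ⟨h⁻¹, ⟨_, hvs.inv⟩, hinv, fun y => ?_⟩
      set z : W := ⟨π (mat Q h⁻¹ *ᵥ (y : ι → F)), _⟩ with hz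
      have h1 := he₁ z
      have h2 : (⟨π (mat Q h *ᵥ (z : ι → F)), hπ _ (hperp h hh z (hWu z z.2).1)⟩ : W) = y := by
        apply Subtype.ext
        show π (mat Q h *ᵥ π (mat Q h⁻¹ *ᵥ (y : ι → F))) = y
        conv_lhs => rw [show π (mat Q h⁻¹ *ᵥ (y : ι → F)) = mat Q h⁻¹ *ᵥ (y : ι → F) +
          B w₀ (mat Q h⁻¹ *ᵥ (y : ι → F)) • u from rfl, mulVec_add, mulVec_smul, hh, hπu,
          mulVec_mulVec, ← mat_mul, mul_inv_cancel, mat_one, one_mulVec, hπid _ y.2]
      rw [h2] at h1
      rw [h1, Matrix.mulVec_mulVec, ← Submonoid.coe_mul, inv_mul_cancel, Submonoid.coe_one,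
        Matrix.one_mulVec]
  -- the map induced by `g`
  let gW : W →ₗ[F] W :=
    { toFun := fun y => ⟨π (mat Q g *ᵥ y), hπ _ (hperp g hgu y (hWu y y.2).1)⟩
      map_add' := fun y y' => Subtype.ext (by
        simp only [π, Submodule.coe_add, mulVec_add, map_add, add_smul]; abel)
      map_smul' := fun c y => Subtype.ext (by
        simp only [π, Submodule.coe_smul, mulVec_smul, map_smul, smul_eq_mul, RingHom.id_apply,
          smul_add, mul_smul]) }
  obtain ⟨A, hA'⟩ := exists_sp_of_linearMap (e.toLinearMap ∘ₗ gW ∘ₗ e.symm.toLinearMap)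
    (fun x y => by
      obtain ⟨x, rfl⟩ := e.surjective x
      obtain ⟨y, rfl⟩ := e.surjective y
      simp only [LinearMap.coe_comp, Function.comp_apply, LinearEquiv.coe_coe,
        LinearEquiv.symm_apply_apply, he]
      show B (π _) (π _) = _
      have h1 := hperp g hgu x (hWu x x.2).1
      have h2 := hperp g hgu y (hWu y y.2).1
      simp only [π, map_add, map_smul, LinearMap.add_apply, LinearMap.smul_apply, smul_eq_mul,
        hA u, h2, hrefl _ _ h1, hpres]
      simp)
  obtain ⟨h, ⟨vs, hvs⟩, hh, heh⟩ := hall A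
  obtain ⟨k, hkdef⟩ : ∃ k, k = h⁻¹ * g := ⟨_, rfl⟩
  suffices hk : ∃ ws, IsReflProd Q k ws by
    obtain ⟨ws, hws⟩ := hk
    have := hvs.mul hws
    rw [hkdef, mul_inv_cancel_left] at this
    exact ⟨_, this⟩
  have hku : mat Q k *ᵥ u = u := by
    rw [hkdef, mat_mul, ← mulVec_mulVec, hgu]
    conv_lhs => rw [← hh]
    rw [mulVec_mulVec, ← mat_mul, inv_mul_cancel, mat_one, one_mulVec]
  -- `k` is trivial on `W`
  have hkW : ∀ y ∈ W, mat Q k *ᵥ y = y := by
    intro y hy
    have h1 : π (mat Q h *ᵥ y) = π (mat Q g *ᵥ y) := by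
      have h2 := heh ⟨y, hy⟩
      rw [hA'] at h2
      simp only [LinearMap.coe_comp, Function.comp_apply, LinearEquiv.coe_coe,
        LinearEquiv.symm_apply_apply] at h2
      exact congrArg Subtype.val (e.injective h2)
    obtain ⟨a, ha⟩ : ∃ a : F, mat Q g *ᵥ y = mat Q h *ᵥ y + a • u := by
      refine ⟨B w₀ (mat Q h *ᵥ y) - B w₀ (mat Q g *ᵥ y), ?_⟩
      rw [sub_smul, ← sub_eq_zero]
      rw [← sub_eq_zero] at h1
      rw [← neg_eq_zero, ← h1]
      simp only [π]
      abel
    have hk' : mat Q k *ᵥ y = y + a • u := by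
      rw [hkdef, mat_mul, ← mulVec_mulVec, ha, mulVec_add, mulVec_smul, mulVec_mulVec, ← mat_mul,
        inv_mul_cancel, mat_one, one_mulVec]
      congr 2
      conv_lhs => rw [← hh]
      rw [mulVec_mulVec, ← mat_mul, inv_mul_cancel, mat_one, one_mulVec]
    have hq := quad_mulVec Q k y
    rw [hk', QuadraticMap.map_add (⇑Q), QuadraticMap.map_smul, QuadraticMap.polar_smul_right,
      ← hBp, hrefl _ _ (hWu y hy).1, smul_zero, add_zero, smul_eq_mul, add_eq_left] at hq
    have ha0 : a = 0 := mul_self_eq_zero.1 ((mul_eq_zero.1 hq).resolve_right hu)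
    rw [hk', ha0, zero_smul, add_zero]
  obtain ⟨a, c, w, hw, hkw⟩ := hdec (mat Q k *ᵥ w₀)
  have hc : c = 1 := by
    have h := hpres k u w₀
    rw [hku, hkw, hw₀] at h
    simpa [hA u, hw₀, (hWu w hw).1] using h
  have hwz : w = 0 := by
    refine congrArg Subtype.val (hWsep ⟨w, hw⟩ fun y => ?_)
    have h := hpres k y w₀
    rw [hkW y y.2, hkw] at h
    simp [hrefl _ _ (hWu y y.2).1, hrefl _ _ (hWu y y.2).2] at h
    exact hrefl _ _ h
  subst hwz; subst hc
  rw [one_smul, add_zero] at hkw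
  have hquad := quad_mulVec Q k w₀
  rw [hkw, QuadraticMap.map_add (⇑Q), QuadraticMap.map_smul, QuadraticMap.polar_smul_left, ← hBp,
    hw₀, smul_eq_mul, smul_eq_mul, mul_one] at hquad
  -- agreement on `u`, `w₀` and `W` determines the element
  have hext : ∀ k' : ↥(Cfsg.isometryGroup F ⇑Q), mat Q k' *ᵥ u = u →
      (∀ y ∈ W, mat Q k' *ᵥ y = y) → mat Q k' *ᵥ w₀ = mat Q k *ᵥ w₀ → k = k' := by
    intro k' h1 h2 h3
    refine mat_ext Q (Matrix.ext_iff_mulVec.2 fun z => ?_)
    obtain ⟨a, c, w, hw, rfl⟩ := hdec z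
    rw [mulVec_add, mulVec_add, mulVec_smul, mulVec_smul, mulVec_add, mulVec_add, mulVec_smul,
      mulVec_smul, hku, h1, h3, h2 w hw, hkW w hw]
  by_cases ha : a = 0
  · refine ⟨[], ?_⟩
    rw [hext 1 (by rw [mat_one, one_mulVec]) (fun y _ => by rw [mat_one, one_mulVec])
      (by rw [mat_one, one_mulVec, hkw, ha, zero_smul, zero_add])]
    exact IsReflProd.one
  · have haQ : a * Q u = 1 := by
      have h0 : a * (a * Q u + 1) = 0 := by linear_combination hquad
      have h1 := (mul_eq_zero.1 h0).resolve_left ha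
      have h2 : (2 : F) = 0 := CharTwo.two_eq_zero
      linear_combination h1 - h2
    refine ⟨[u], ?_⟩
    rw [hext (reflIso Q u hu) ?_ ?_ ?_]
    · exact IsReflProd.reflIso u hu
    · rw [mat_reflIso, reflectionMatrix_mulVec, refl_apply, ← hBp, hA u, mul_zero, zero_smul,
        sub_zero]
    · intro y hy
      rw [mat_reflIso, reflectionMatrix_mulVec, refl_apply, ← hBp, (hWu y hy).1, mul_zero,
        zero_smul, sub_zero]
    · rw [mat_reflIso, reflectionMatrix_mulVec, refl_apply, ← hBp, hw₀, mul_one, hkw,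
        sub_eq_add_neg, ← neg_smul, CharTwo.neg_eq, add_comm, inv_eq_of_mul_eq_one_left haQ]

/-- Reflections generate `O(Q)` in characteristic two, except possibly in dimension four over the
field of two elements. -/
theorem exists_isReflProd_charTwo (hQ : (QuadraticMap.polarBilin Q).Nondegenerate)
    (hexc : Nat.card F ≠ 2 ∨ Fintype.card ι ≠ 4) (g : ↥(Cfsg.isometryGroup F ⇑Q)) :
    ∃ vs, IsReflProd Q g vs := by
  by_cases hex : ∃ u, Q u ≠ 0
  · obtain ⟨u, hu⟩ := hex
    obtain ⟨h, ⟨vs, hvs⟩, hh⟩ := exists_move_charTwo hQ hexc (u := mat Q g *ᵥ u) (v := u)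
      (by rw [quad_mulVec]; exact hu) (quad_mulVec Q g u)
    obtain ⟨ws, hws⟩ := isReflProd_of_fix hQ (h * g) hu
      (by rw [mat_mul, ← mulVec_mulVec, hh])
    have := hvs.inv.mul hws
    rw [inv_mul_cancel_left] at this
    exact ⟨_, this⟩
  · haveI : Subsingleton (ι → F) := subsingleton_of_forall_eq 0 fun x => hQ.1 x fun y => by
      simp [QuadraticMap.polar, fun z => not_not.1 fun hz : Q z ≠ 0 => hex ⟨z, hz⟩]
    exact ⟨[], by simp, Matrix.ext_iff_mulVec.2 fun z => Subsingleton.elim _ _⟩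

end CfsgLib.Forms
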