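import Cfsg.Agent.Forms.Symplectic
import Cfsg.Agent.Forms.SymplecticBasis

/-!
# The symmetric group inside the symplectic group over the field with two elements

Main result: `exists_perm_symplectic`.
-/

namespace CfsgLib.Forms

open Module Matrix

/-- Even subsets avoiding the last point. -/
def evenAvoid (N : ℕ) : Submodule (ZMod 2) (Fin (N + 1) → ZMod 2) where
  carrier := {x | ∑ k, x k = 0 ∧ x (Fin.last N) = 0}
  add_mem' ha hb := ⟨by rw [Pi.add_def, Finset.sum_add_distrib, ha.1, hb.1, add_zero],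
    by rw [Pi.add_apply, ha.2, hb.2, add_zero]⟩
  zero_mem' := ⟨by simp, rfl⟩
  smul_mem' c x hx := ⟨by simp [← Finset.mul_sum, hx.1], by simp [hx.2]⟩

theorem finrank_evenAvoid (N : ℕ) : finrank (ZMod 2) (evenAvoid (N + 1)) = N := by
  have e : (Fin N → ZMod 2) ≃ₗ[ZMod 2] evenAvoid (N + 1) :=
    { toFun := fun a => ⟨Fin.snoc (Fin.snoc a (∑ i, a i)) 0, by
        refine ⟨?_, Fin.snoc_last _ _⟩
        rw [Fin.sum_univ_castSucc, Fin.sum_univ_castSucc]
        simp only [Fin.snoc_last, Fin.snoc_castSucc]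
        rw [add_zero]
        exact CharTwo.add_self_eq_zero _⟩
      invFun := fun v i => v.1 i.castSucc.castSucc
      map_add' := fun a b => Subtype.ext (funext fun k => by
        induction k using Fin.lastCases with
        | last => simp
        | cast k =>
          induction k using Fin.lastCases with
          | last => simp [Finset.sum_add_distrib]
          | cast k => simp)
      map_smul' := fun c a => Subtype.ext (funext fun k => by
        induction k using Fin.lastCases with
        | last => simp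
        | cast k =>
          induction k using Fin.lastCases with
          | last => simp [Finset.mul_sum]
          | cast k => simp)
      left_inv := fun a => funext fun i => by simp
      right_inv := fun v => Subtype.ext (funext fun k => by
        induction k using Fin.lastCases with
        | last => simpa using v.2.2.symm
        | cast k =>
          induction k using Fin.lastCases with
          | last =>
            have h := v.2.1
            rw [Fin.sum_univ_castSucc, Fin.sum_univ_castSucc, v.2.2, add_zero] at h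
            simp only [Fin.snoc_castSucc, Fin.snoc_last]
            exact (eq_neg_of_add_eq_zero_left h).trans (CharTwo.neg_eq _)
          | cast k => simp) }
  rw [← e.finrank_eq, Module.finrank_fin_fun]

/-- `S_{2m+2}` embeds in `Sp_{2m}(2)` for `m ≥ 2`. -/
theorem exists_perm_symplectic (m : ℕ) (hm : 2 ≤ m) :
    ∃ f : Equiv.Perm (Fin (2 * m + 2)) →* Matrix.symplecticGroup (Fin m) (ZMod 2),
      Function.Injective f := by
  obtain ⟨E, hE⟩ : ∃ E, E = evenAvoid (2 * m + 1) := ⟨_, rfl⟩
  have hmem : ∀ x, x ∈ E ↔ ∑ k, x k = 0 ∧ x (Fin.last (2 * m + 1)) = 0 := fun x => by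
    rw [hE]; rfl
  have hcardN : ∑ _k : Fin (2 * m + 1 + 1), (1 : ZMod 2) = 0 := by
    rw [Finset.sum_const, Finset.card_univ, Fintype.card_fin, nsmul_one,
      show 2 * m + 1 + 1 = 2 * (m + 1) by ring, Nat.cast_mul]
    simp [show (2 : ZMod 2) = 0 from rfl]
  -- normalisation at the last point
  obtain ⟨π, hπ⟩ : ∃ π : (Fin (2 * m + 1 + 1) → ZMod 2) → (Fin (2 * m + 1 + 1) → ZMod 2),
      ∀ x k, π x k = x k + x (Fin.last (2 * m + 1)) := ⟨fun x k => x k + x (Fin.last _), fun _ _ => rfl⟩
  have hπE : ∀ x, ∑ k, x k = 0 → π x ∈ E := fun x hx => by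
    rw [hmem]
    refine ⟨?_, by rw [hπ]; exact CharTwo.add_self_eq_zero _⟩
    simp only [hπ, Finset.sum_add_distrib, hx, zero_add]
    rw [← mul_one (x (Fin.last (2 * m + 1))), ← Finset.mul_sum, hcardN, mul_zero]
  obtain ⟨B, hB⟩ : ∃ B : LinearMap.BilinForm (ZMod 2) E,
      ∀ x y : E, B x y = ∑ k, x.1 k * y.1 k :=
    ⟨(Matrix.toBilin' (1 : Matrix (Fin (2 * m + 1 + 1)) (Fin (2 * m + 1 + 1)) (ZMod 2))).restrict E,
      fun x y => by
        show Matrix.toBilin' 1 x.1 y.1 = _
        rw [Matrix.toBilin'_apply', Matrix.one_mulVec]; rfl⟩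
  have hsq : ∀ a : ZMod 2, a * a = a := by decide
  have hBA : B.IsAlt := fun x => by
    rw [hB]; simp only [hsq]; exact ((hmem _).1 x.2).1
  have hBn : B.Nondegenerate := by
    have key : ∀ x, (∀ y, B x y = 0) → x = 0 := by
      intro x hx
      have hz : ∀ i, i ≠ Fin.last (2 * m + 1) → ∀ j, j ≠ Fin.last (2 * m + 1) → i ≠ j →
          x.1 i = x.1 j := by
        intro i hi j hj hij
        have h := hx ⟨fun k => (if k = i then 1 else 0) + (if k = j then 1 else 0), (hmem _).2
          ⟨by simp [Finset.sum_add_distrib, show (1 : ZMod 2) + 1 = 0 from rfl],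
            by simp [Ne.symm hi, Ne.symm hj]⟩⟩
        rw [hB] at h
        simp [mul_add, Finset.sum_add_distrib] at h
        exact (eq_neg_of_add_eq_zero_left h).trans (CharTwo.neg_eq _)
      refine Subtype.ext (funext fun i => ?_)
      by_cases hi : i = Fin.last (2 * m + 1)
      · rw [hi]; exact ((hmem _).1 x.2).2
      have hsum := ((hmem _).1 x.2).1
      have hall : ∀ k, k ≠ Fin.last (2 * m + 1) → x.1 k = x.1 i := fun k hk => by
        by_cases hki : k = i
        · rw [hki]
        · exact hz k hk i hi hki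
      rw [Fin.sum_univ_castSucc, ((hmem _).1 x.2).2, add_zero,
        Finset.sum_congr rfl (fun k _ => hall k.castSucc (Fin.castSucc_lt_last k).ne),
        Finset.sum_const, Finset.card_univ, Fintype.card_fin, add_nsmul, one_nsmul, mul_nsmul,
        two_nsmul, CharTwo.add_self_eq_zero, nsmul_zero, zero_add] at hsum
      exact hsum
    exact ⟨key, fun y hy => key y fun x => by rw [← LinearMap.IsAlt.neg hBA x y, hy x, neg_zero]⟩
  obtain ⟨r, b, p, q', r'⟩ := exists_symplectic_basis_nondeg B hBA hBn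
  have hr : r = m := by
    have h := finrank_evenAvoid (2 * m)
    rw [← hE, finrank_eq_card_basis b] at h
    simp at h
    omega
  subst hr
  obtain ⟨L, hL⟩ : ∃ L : E ≃ₗ[ZMod 2] (Fin r ⊕ Fin r → ZMod 2), L = b.equivFun := ⟨_, rfl⟩
  have hform : ∀ x y, Cfsg.sympForm r (ZMod 2) (L x) (L y) = B x y := by
    have h : (sympBilin r (ZMod 2)).compl₁₂ L.toLinearMap L.toLinearMap = B := by
      refine b.ext fun i => b.ext fun j => ?_
      simp only [LinearMap.compl₁₂_apply, LinearEquiv.coe_coe, hL, Basis.equivFun_apply,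
        Basis.repr_self, sympBilin_apply, sympForm_eq_sum]
      have hswap : ∀ i j, B (b (Sum.inr i)) (b (Sum.inl j)) = B (b (Sum.inl j)) (b (Sum.inr i)) :=
        fun i j => by rw [← LinearMap.IsAlt.neg hBA, CharTwo.neg_eq]
      rcases i with i | i <;> rcases j with j | j <;>
        simp [p, q', r', hswap, Finsupp.single_apply, eq_comm, CharTwo.neg_eq]
    intro x y
    rw [← h, LinearMap.compl₁₂_apply, LinearEquiv.coe_coe, sympBilin_apply]
  have hact : ∀ σ : Equiv.Perm (Fin (2 * r + 1 + 1)), ∀ x : E, π (fun k => x.1 (σ⁻¹ k)) ∈ E :=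
    fun σ x => hπE _ ((Equiv.sum_comp σ⁻¹ x.1).trans ((hmem _).1 x.2).1)
  obtain ⟨T, hT⟩ : ∃ T : Equiv.Perm (Fin (2 * r + 1 + 1)) → (E →ₗ[ZMod 2] E),
      ∀ σ x, (T σ x).1 = π (fun k => x.1 (σ⁻¹ k)) :=
    ⟨fun σ =>
      { toFun := fun x => ⟨_, hact σ x⟩
        map_add' := fun x y => Subtype.ext (funext fun k => by
          simp only [Submodule.coe_add, Pi.add_apply, hπ]; ring)
        map_smul' := fun c x => Subtype.ext (funext fun k => by
          simp only [Submodule.coe_smul, Pi.smul_apply, hπ, smul_eq_mul, RingHom.id_apply]; ring) },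
      fun σ x => rfl⟩
  have hiso : ∀ σ x y, B (T σ x) (T σ y) = B x y := by
    intro σ x y
    rw [hB, hB, hT, hT, ← Equiv.sum_comp σ⁻¹ (fun k => x.1 k * y.1 k)]
    obtain ⟨u, hu⟩ : ∃ u, u = fun k => x.1 (σ⁻¹ k) := ⟨_, rfl⟩
    obtain ⟨v, hv⟩ : ∃ v, v = fun k => y.1 (σ⁻¹ k) := ⟨_, rfl⟩
    have su : ∑ k, u k = 0 := by
      rw [hu]; exact (Equiv.sum_comp σ⁻¹ x.1).trans ((hmem _).1 x.2).1
    have sv : ∑ k, v k = 0 := by
      rw [hv]; exact (Equiv.sum_comp σ⁻¹ y.1).trans ((hmem _).1 y.2).1
    rw [← hu, ← hv]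
    show ∑ k, π u k * π v k = _
    rw [Finset.sum_congr rfl fun k _ => show π u k * π v k = u k * v k + v (Fin.last _) * u k +
        u (Fin.last _) * v k + u (Fin.last _) * v (Fin.last _) * 1 by rw [hπ, hπ]; ring]
    simp only [Finset.sum_add_distrib, ← Finset.mul_sum, su, sv, hcardN, mul_zero, add_zero]
    rw [hu, hv]
  have hmul : ∀ σ τ x, T (σ * τ) x = T σ (T τ x) := fun σ τ x => Subtype.ext (funext fun k => by
    rw [hT, hT, hπ, hπ, hT, hπ, hπ, _root_.mul_inv_rev, Equiv.Perm.mul_apply,
      Equiv.Perm.mul_apply]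
    linear_combination -CharTwo.add_self_eq_zero (x.1 (τ⁻¹ (Fin.last _))))
  have hsp : ∀ σ, ∃ A : Matrix.symplecticGroup (Fin r) (ZMod 2),
      ∀ v, A.1 *ᵥ v = L (T σ (L.symm v)) := fun σ =>
    exists_sp_of_linearMap (L.toLinearMap.comp ((T σ).comp L.symm.toLinearMap)) fun u v => by
      show Cfsg.sympForm r (ZMod 2) (L (T σ (L.symm u))) (L (T σ (L.symm v))) = _
      rw [hform, hiso, ← hform, LinearEquiv.apply_symm_apply, LinearEquiv.apply_symm_apply]
  choose A hA using hsp
  obtain ⟨f, hf⟩ : ∃ f : Equiv.Perm (Fin (2 * r + 1 + 1)) →* Matrix.symplecticGroup (Fin r) (ZMod 2),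
      ∀ σ, f σ = A σ :=
    ⟨MonoidHom.mk' A fun σ τ => Subtype.ext (Matrix.ext_iff_mulVec.2 fun v => by
      rw [Submonoid.coe_mul, ← mulVec_mulVec, hA, hA, hA, LinearEquiv.symm_apply_apply, hmul]),
      fun σ => rfl⟩
  refine ⟨f, ?_⟩
  rw [injective_iff_map_eq_one]
  intro σ hσ
  have hfix : ∀ x : E, T σ x = x := fun x => by
    have h := hA σ (L x)
    rw [← hf, hσ, Submonoid.coe_one, one_mulVec, LinearEquiv.symm_apply_apply] at h
    exact (L.injective h).symm
  have hpair : ∀ i j, i ≠ Fin.last (2 * r + 1) → j ≠ Fin.last (2 * r + 1) → i ≠ j →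
      σ i = i ∨ σ i = j := by
    intro i j hi hj hij
    obtain ⟨x, hx⟩ : ∃ x : E, ∀ k, x.1 k = (if k = i then 1 else 0) + (if k = j then 1 else 0) :=
      ⟨⟨fun k => (if k = i then 1 else 0) + (if k = j then 1 else 0), (hmem _).2
        ⟨by simp [Finset.sum_add_distrib, show (1 : ZMod 2) + 1 = 0 from rfl],
          by simp [Ne.symm hi, Ne.symm hj]⟩⟩, fun k => rfl⟩
    have h : ∀ k, x.1 (σ⁻¹ k) + x.1 (σ⁻¹ (Fin.last _)) = x.1 k := fun k => by
      have h' := congrFun (congrArg Subtype.val (hfix x)) k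
      rwa [hT, hπ] at h'
    have hsupp : ∀ k, x.1 k ≠ 0 → k = i ∨ k = j := by
      intro k hk
      rw [hx] at hk
      by_contra hne
      push Not at hne
      simp [hne.1, hne.2] at hk
    have hc : x.1 (σ⁻¹ (Fin.last _)) = 0 := by
      by_contra hne
      have h1 : ∀ k, k ∈ ({i, j} : Finset _) ∨ σ⁻¹ k ∈ ({i, j} : Finset _) := fun k => by
        by_cases hk : x.1 k = 0
        · right
          have h2 := h k
          rw [hk] at h2
          have hne' : x.1 (σ⁻¹ k) ≠ 0 := fun h0 => hne (by rw [h0, zero_add] at h2; exact h2)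
          simpa using hsupp _ hne'
        · left; simpa using hsupp _ hk
      have hsub : Finset.univ ⊆ ({i, j} ∪ {σ i, σ j} : Finset (Fin (2 * r + 1 + 1))) := fun k _ => by
        rcases h1 k with h1 | h1
        · exact Finset.mem_union_left _ h1
        · refine Finset.mem_union_right _ ?_
          rw [Finset.mem_insert, Finset.mem_singleton] at h1 ⊢
          rcases h1 with h1 | h1
          · exact Or.inl (by rw [← h1]; exact (σ.apply_symm_apply k).symm)
          · exact Or.inr (by rw [← h1]; exact (σ.apply_symm_apply k).symm)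
      have hcard := (Finset.card_le_card hsub).trans
        ((Finset.card_union_le _ _).trans (Nat.add_le_add Finset.card_le_two Finset.card_le_two))
      rw [Finset.card_univ, Fintype.card_fin] at hcard
      omega
    have h2 := h (σ i)
    rw [Equiv.Perm.inv_def, Equiv.symm_apply_apply] at h2
    rw [← Equiv.Perm.inv_def, hc, add_zero, hx i] at h2
    simp [hij] at h2
    exact hsupp _ (by rw [← h2]; exact one_ne_zero)
  refine Equiv.ext fun i => ?_
  have hmain : ∀ i, i ≠ Fin.last (2 * r + 1) → σ i = i := by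
    intro i hi
    obtain ⟨j, k, hj, hk, hij, hik, hjk⟩ : ∃ j k, j ≠ Fin.last (2 * r + 1) ∧
        k ≠ Fin.last (2 * r + 1) ∧ i ≠ j ∧ i ≠ k ∧ j ≠ k := by
      have hc : 2 ≤ (Finset.univ \ {i, Fin.last (2 * r + 1)}).card := by
        rw [Finset.card_sdiff, Finset.card_univ, Fintype.card_fin, Finset.inter_univ]
        have := Finset.card_le_two (a := i) (b := Fin.last (2 * r + 1))
        omega
      obtain ⟨j, hj, k, hk, hjk⟩ := Finset.one_lt_card.1 hc
      simp at hj hk
      exact ⟨j, k, hj.2, hk.2, Ne.symm hj.1, Ne.symm hk.1, hjk⟩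
    rcases hpair i j hi hj hij with h | h
    · exact h
    rcases hpair i k hi hk hik with h' | h'
    · exact h'
    · exact absurd (h.symm.trans h') hjk
  by_cases hi : i = Fin.last (2 * r + 1)
  · by_contra hne
    have h1 : σ i ≠ Fin.last (2 * r + 1) := fun h => hne (by rw [h, hi]; rfl)
    have h2 := hmain _ h1
    exact hne (σ.injective h2)
  · exact hmain i hi

end CfsgLib.Forms
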