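import Cfsg.Agent.Forms.Witt
import Cfsg.Agent.Forms.SymplecticBasis
import Cfsg.Agent.Spinor.StdForms

/-!
# Maximal singular subspaces of a hyperbolic quadric

Main results: `even_three_maximal`, `card_max_singular_containing`.
-/

namespace CfsgLib.Forms

open Module CfsgLib.StdForms

variable {F V : Type*} [Field F] [AddCommGroup V] [Module F V] [FiniteDimensional F V]

/-- A maximal singular subspace of a hyperbolic quadratic space. -/
def IsMaxSing (Q : QuadraticForm F V) (m : ℕ) (W : Submodule F V) : Prop :=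
  finrank F W = m ∧ ∀ w ∈ W, Q w = 0

theorem polar_eq_zero_of_singular {Q : QuadraticForm F V} {W : Submodule F V}
    (hW : ∀ w ∈ W, Q w = 0) {x y : V} (hx : x ∈ W) (hy : y ∈ W) :
    QuadraticMap.polar (⇑Q) x y = 0 := by
  simp [QuadraticMap.polar, hW x hx, hW y hy, hW _ (W.add_mem hx hy)]

theorem mem_of_perp {Q : QuadraticForm F V} (hQ : (QuadraticMap.polarBilin Q).Nondegenerate)
    {m : ℕ} (hV : finrank F V = 2 * m) {W : Submodule F V} (hW : IsMaxSing Q m W) {x : V}
    (hx : ∀ w ∈ W, QuadraticMap.polar (⇑Q) w x = 0) : x ∈ W := by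
  have hle : W ≤ LinearMap.BilinForm.orthogonal (QuadraticMap.polarBilin Q) W :=
    fun a ha b hb => polar_eq_zero_of_singular hW.2 hb ha
  have hd := LinearMap.BilinForm.finrank_orthogonal hQ W
  have heq := Submodule.eq_of_le_of_finrank_le hle (by rw [hd, hV, hW.1]; omega)
  rw [heq]
  exact fun w hw => hx w hw

/-- The subspace obtained from `X` by moving it through a singular vector `p`. -/
theorem exists_moved {Q : QuadraticForm F V} (hQ : (QuadraticMap.polarBilin Q).Nondegenerate)
    {m : ℕ} (hV : finrank F V = 2 * m) {X : Submodule F V} (hX : IsMaxSing Q m X) {p : V}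
    (hp : Q p = 0) (hpX : p ∉ X) :
    ∃ X', IsMaxSing Q m X' ∧ p ∈ X' ∧ ∀ U : Submodule F V, (∀ u ∈ U, Q u = 0) → p ∈ U →
      finrank F ↥(U ⊓ X') = finrank F ↥(U ⊓ X) + 1 ∧ U ⊓ X ≤ X' := by
  obtain ⟨P, hP⟩ : ∃ P, P = LinearMap.ker (QuadraticMap.polarBilin Q p) := ⟨_, rfl⟩
  have hmem : ∀ x, x ∈ P ↔ QuadraticMap.polar (⇑Q) p x = 0 := fun x => by rw [hP]; rfl
  have hne : ∃ x ∈ X, QuadraticMap.polar (⇑Q) p x ≠ 0 := by
    by_contra h
    refine hpX (mem_of_perp hQ hV hX fun w hw => ?_)
    rw [QuadraticMap.polar_comm]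
    exact not_not.1 fun h' => h ⟨w, hw, h'⟩
  have hdXP : finrank F ↥(X ⊓ P) + 1 = m := by
    have h := LinearMap.finrank_range_add_finrank_ker ((QuadraticMap.polarBilin Q p).domRestrict X)
    have hk : finrank F (LinearMap.ker ((QuadraticMap.polarBilin Q p).domRestrict X)) =
        finrank F ↥(X ⊓ P) := by
      have e : (LinearMap.ker ((QuadraticMap.polarBilin Q p).domRestrict X)).map X.subtype =
          X ⊓ P := by
        rw [hP, LinearMap.ker_domRestrict, Submodule.map_comap_subtype]
      rw [← e, Submodule.finrank_map_subtype_eq]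
    have hr : finrank F (LinearMap.range ((QuadraticMap.polarBilin Q p).domRestrict X)) = 1 := by
      obtain ⟨x, hx, hx0⟩ := hne
      refine le_antisymm ((Submodule.finrank_le _).trans (finrank_self F).le) ?_
      rw [Nat.one_le_iff_ne_zero, ne_eq, Submodule.finrank_eq_zero]
      intro hb
      exact hx0 ((Submodule.mem_bot F).1 (hb ▸ ⟨⟨x, hx⟩, rfl⟩))
    rw [hr, hk, hX.1] at h
    omega
  have hspan : ∀ y, y ∈ (F ∙ p) ⊔ (X ⊓ P) ↔ ∃ c : F, ∃ z ∈ X ⊓ P, c • p + z = y := fun y => by
    simp [Submodule.mem_sup, Submodule.mem_span_singleton]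
  refine ⟨(F ∙ p) ⊔ (X ⊓ P), ⟨?_, ?_⟩, Submodule.mem_sup_left (Submodule.mem_span_singleton_self p),
    fun U hU hpU => ?_⟩
  · have h := Submodule.finrank_sup_add_finrank_inf_eq (F ∙ p) (X ⊓ P)
    have hb : (F ∙ p) ⊓ (X ⊓ P) = ⊥ := by
      rw [eq_bot_iff]
      rintro y ⟨hy, hy'⟩
      obtain ⟨c, rfl⟩ := Submodule.mem_span_singleton.1 hy
      rcases eq_or_ne c 0 with rfl | hc
      · simp
      · exact absurd (by simpa [hc] using X.smul_mem c⁻¹ hy'.1) hpX
    rw [hb, finrank_bot, finrank_span_singleton (fun h0 => hpX (by rw [h0]; exact X.zero_mem))] at h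
    omega
  · intro y hy
    obtain ⟨c, z, hz, rfl⟩ := (hspan y).1 hy
    rw [QuadraticMap.map_add (⇑Q), QuadraticMap.map_smul, hp, hX.2 z hz.1,
      QuadraticMap.polar_smul_left, (hmem z).1 hz.2]
    simp
  · have hUP : U ⊓ X ≤ X ⊓ P := fun y hy =>
      ⟨hy.2, (hmem y).2 (polar_eq_zero_of_singular hU hpU hy.1)⟩
    refine ⟨?_, le_trans hUP le_sup_right⟩
    have e : U ⊓ ((F ∙ p) ⊔ (X ⊓ P)) = (F ∙ p) ⊔ (U ⊓ X) := by
      apply le_antisymm
      · rintro y ⟨hyU, hy⟩
        obtain ⟨c, z, hz, rfl⟩ := (hspan y).1 hy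
        refine Submodule.add_mem_sup (Submodule.smul_mem _ _ (Submodule.mem_span_singleton_self p))
          ⟨?_, hz.1⟩
        have := U.sub_mem hyU (U.smul_mem c hpU)
        simpa using this
      · refine sup_le ?_ (le_inf inf_le_left (le_trans hUP le_sup_right))
        rw [Submodule.span_singleton_le_iff_mem]
        exact ⟨hpU, Submodule.mem_sup_left (Submodule.mem_span_singleton_self p)⟩
    rw [e]
    have h := Submodule.finrank_sup_add_finrank_inf_eq (F ∙ p) (U ⊓ X)
    have hb : (F ∙ p) ⊓ (U ⊓ X) = ⊥ := by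
      rw [eq_bot_iff]
      rintro y ⟨hy, hy'⟩
      obtain ⟨c, rfl⟩ := Submodule.mem_span_singleton.1 hy
      rcases eq_or_ne c 0 with rfl | hc
      · simp
      · exact absurd (by simpa [hc] using X.smul_mem c⁻¹ hy'.2) hpX
    rw [hb, finrank_bot, finrank_span_singleton (fun h0 => hpX (by rw [h0]; exact X.zero_mem))] at h
    omega

/-- Three maximal singular subspaces with equal pairwise intersections. -/
theorem even_of_pairwise {Q : QuadraticForm F V} (hQ : (QuadraticMap.polarBilin Q).Nondegenerate)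
    {m : ℕ} (hV : finrank F V = 2 * m) {U W X : Submodule F V} (hU : IsMaxSing Q m U)
    (hW : IsMaxSing Q m W) (hX : IsMaxSing Q m X) (h1 : U ⊓ W ≤ X) (h2 : W ⊓ X ≤ U)
    (h3 : U ⊓ X ≤ W) : Even (m - finrank F ↥(U ⊓ W)) := by
  obtain ⟨K, hK⟩ : ∃ K, K = U ⊓ W := ⟨_, rfl⟩
  rw [← hK]
  have hKU : K ≤ U := hK ▸ inf_le_left
  have hKW : K ≤ W := hK ▸ inf_le_right
  have hKX : K ≤ X := hK ▸ h1
  have hXU : X ⊓ U = K := le_antisymm
    (fun x hx => hK ▸ ⟨hx.2, h3 ⟨hx.2, hx.1⟩⟩) (fun x hx => ⟨hKX hx, hKU hx⟩)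
  have hXW : X ⊓ W = K := le_antisymm
    (fun x hx => hK ▸ ⟨h2 ⟨hx.2, hx.1⟩, hx.2⟩) (fun x hx => ⟨hKX hx, hKW hx⟩)
  have hXsum : X ≤ U ⊔ W := by
    have hperp : U ⊔ W = LinearMap.BilinForm.orthogonal (QuadraticMap.polarBilin Q) K := by
      refine Submodule.eq_of_le_of_finrank_le (sup_le ?_ ?_) ?_
      · exact fun a ha b hb => polar_eq_zero_of_singular hU.2 (hKU hb) ha
      · exact fun a ha b hb => polar_eq_zero_of_singular hW.2 (hKW hb) ha
      · rw [LinearMap.BilinForm.finrank_orthogonal hQ, hV]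
        have h := Submodule.finrank_sup_add_finrank_inf_eq U W
        rw [← hK, hU.1, hW.1] at h
        omega
    rw [hperp]
    exact fun a ha b hb => polar_eq_zero_of_singular hX.2 (hKX hb) ha
  obtain ⟨U₀', hU₀⟩ := (K.comap U.subtype).exists_isCompl
  obtain ⟨U₀, hU₀def⟩ : ∃ U₀, U₀ = U₀'.map U.subtype := ⟨_, rfl⟩
  have hU₀U : U₀ ≤ U := hU₀def ▸ Submodule.map_subtype_le U U₀'
  have hU₀K : ∀ u ∈ U₀, u ∈ K → u = 0 := by
    rintro u hu huK
    rw [hU₀def] at hu
    obtain ⟨v, hv, rfl⟩ := hu
    have : v ∈ K.comap U.subtype ⊓ U₀' := ⟨huK, hv⟩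
    rw [hU₀.inf_eq_bot, Submodule.mem_bot] at this
    rw [this, map_zero]
  have hsplit : ∀ u ∈ U, ∃ a ∈ U₀, ∃ k ∈ K, u = a + k := by
    intro u hu
    have : (⟨u, hu⟩ : U) ∈ K.comap U.subtype ⊔ U₀' := by rw [hU₀.sup_eq_top]; exact Submodule.mem_top
    obtain ⟨k, hk, a, ha, hka⟩ := Submodule.mem_sup.1 this
    refine ⟨a, hU₀def ▸ ⟨a, ha, rfl⟩, k, hk, ?_⟩
    rw [add_comm]; exact (congrArg Subtype.val hka).symm
  have hdim : finrank F U₀ + finrank F K = m := by
    have h := Submodule.finrank_add_eq_of_isCompl hU₀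
    have e1 : finrank F ↥(K.comap U.subtype) = finrank F K :=
      (Submodule.comapSubtypeEquivOfLe hKU).finrank_eq
    have e2 : finrank F ↥U₀ = finrank F ↥U₀' := by
      rw [hU₀def, Submodule.finrank_map_subtype_eq]
    rw [e1, hU.1] at h
    omega
  obtain ⟨C, hC⟩ := (U₀ ⊔ W).exists_isCompl
  obtain ⟨C', hC'⟩ : ∃ C', C' = W ⊔ C := ⟨_, rfl⟩
  have hUW : U₀ ⊓ W = ⊥ := by
    rw [eq_bot_iff]
    rintro u ⟨hu, huW⟩
    exact (Submodule.mem_bot F).2 (hU₀K u hu (hK ▸ ⟨hU₀U hu, huW⟩))
  have hcompl : IsCompl U₀ C' := by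
    constructor
    · rw [disjoint_iff, eq_bot_iff, hC']
      rintro u ⟨hu, huC⟩
      obtain ⟨w, hw, c, hc, rfl⟩ := Submodule.mem_sup.1 huC
      have hc0 : c = 0 := by
        have e := Submodule.sub_mem (U₀ ⊔ W) (Submodule.mem_sup_left hu : w + c ∈ U₀ ⊔ W)
          (Submodule.mem_sup_right hw : w ∈ U₀ ⊔ W)
        rw [add_sub_cancel_left] at e
        have : c ∈ (U₀ ⊔ W) ⊓ C := ⟨e, hc⟩
        rw [hC.inf_eq_bot] at this
        simpa using this
      subst hc0
      rw [add_zero] at hu ⊢
      rw [← hUW]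
      exact ⟨hu, hw⟩
    · rw [codisjoint_iff, hC', ← sup_assoc]; exact hC.sup_eq_top
  obtain ⟨π, hπ⟩ : ∃ π : V →ₗ[F] U₀, π = Submodule.linearProjOfIsCompl U₀ C' hcompl := ⟨_, rfl⟩
  have hπU : ∀ a (ha : a ∈ U₀), π a = ⟨a, ha⟩ := fun a ha => by
    rw [hπ]; exact Submodule.linearProjOfIsCompl_apply_left hcompl ⟨a, ha⟩
  have hπW : ∀ w ∈ W, π w = 0 := fun w hw => by
    rw [hπ]
    exact Submodule.linearProjOfIsCompl_apply_right hcompl ⟨w, hC' ▸ Submodule.mem_sup_left hw⟩
  have hdec : ∀ x ∈ X, x - (π x : V) ∈ W := by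
    intro x hx
    obtain ⟨u, hu, w, hw, rfl⟩ := Submodule.mem_sup.1 (hXsum hx)
    obtain ⟨a, ha, k, hk, rfl⟩ := hsplit u hu
    rw [map_add, map_add, hπU a ha, hπW k (hKW hk), hπW w hw, add_zero, add_zero]
    show a + k + w - a ∈ W
    rw [show a + k + w - a = k + w by abel]
    exact W.add_mem (hKW hk) hw
  have hsurj : Function.Surjective (π.comp X.subtype) := by
    rw [← LinearMap.range_eq_top]
    apply Submodule.eq_top_of_finrank_eq
    have h := LinearMap.finrank_range_add_finrank_ker (π.comp X.subtype)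
    have hker : LinearMap.ker (π.comp X.subtype) ≤ K.comap X.subtype := by
      intro x hx
      have h0 : π (x : V) = 0 := hx
      have := hdec x x.2
      rw [h0, Submodule.coe_zero, sub_zero] at this
      rw [← hXW]; exact ⟨x.2, this⟩
    have h' := Submodule.finrank_mono hker
    rw [(Submodule.comapSubtypeEquivOfLe hKX).finrank_eq] at h'
    have h'' := Submodule.finrank_le (LinearMap.range (π.comp X.subtype))
    rw [hX.1] at h
    omega
  obtain ⟨s, hs⟩ := LinearMap.exists_rightInverse_of_surjective _ (LinearMap.range_eq_top.2 hsurj)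
  obtain ⟨β, hβ⟩ : ∃ β : LinearMap.BilinForm F U₀, ∀ a b : U₀,
      β a b = QuadraticMap.polar (⇑Q) (a : V) ((s b : X) : V) :=
    ⟨(QuadraticMap.polarBilin Q).compl₁₂ U₀.subtype (X.subtype.comp s), fun a b => rfl⟩
  have hπs : ∀ b, π ((s b : X) : V) = b := fun b => LinearMap.congr_fun hs b
  have halt : β.IsAlt := fun a => by
    rw [hβ]
    have hw := hdec _ (s a).2
    rw [hπs] at hw
    have h := hX.2 _ (s a).2
    rw [show ((s a : X) : V) = (a : V) + (((s a : X) : V) - (a : V)) by abel,
      QuadraticMap.map_add (⇑Q), hU.2 _ (hU₀U a.2), hW.2 _ hw, zero_add, zero_add,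
      QuadraticMap.polar_sub_right, QuadraticMap.polar_self, hU.2 _ (hU₀U a.2), smul_zero,
      sub_zero] at h
    exact h
  have hβn : β.Nondegenerate := by
    have key : ∀ a, (∀ b, β a b = 0) → a = 0 := by
      intro a ha
      have hperp : ∀ x ∈ X, QuadraticMap.polar (⇑Q) x (a : V) = 0 := by
        intro x hx
        obtain ⟨b, hb⟩ : ∃ b, b = π x := ⟨_, rfl⟩
        have h1 : x - ((s b : X) : V) ∈ X ⊓ W := by
          refine ⟨X.sub_mem hx (s b).2, ?_⟩
          have e1 := hdec x hx
          have e2 := hdec _ (s b).2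
          rw [hπs] at e2
          rw [← hb] at e1
          have := W.sub_mem e1 e2
          rwa [sub_sub_sub_cancel_right] at this
        rw [hXW] at h1
        have h2 : QuadraticMap.polar (⇑Q) (x - ((s b : X) : V)) (a : V) = 0 :=
          polar_eq_zero_of_singular hU.2 (hKU h1) (hU₀U a.2)
        rw [QuadraticMap.polar_sub_left, sub_eq_zero] at h2
        rw [h2, QuadraticMap.polar_comm, ← hβ]
        exact ha b
      have haX := mem_of_perp hQ hV hX hperp
      exact Subtype.ext (hU₀K a a.2 (hXU ▸ ⟨haX, hU₀U a.2⟩))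
    exact ⟨key, fun b hb => key b fun a => by rw [← LinearMap.IsAlt.neg halt a b, hb a, neg_zero]⟩
  obtain ⟨r, c, -⟩ := exists_symplectic_basis_nondeg β halt hβn
  have := Module.finrank_eq_card_basis c
  simp at this
  exact ⟨r, by omega⟩

/-- The parity rule for three maximal singular subspaces. -/
theorem even_three_maximal {Q : QuadraticForm F V} (hQ : (QuadraticMap.polarBilin Q).Nondegenerate)
    {m : ℕ} (hV : finrank F V = 2 * m) :
    ∀ d (U W X : Submodule F V), d = m - finrank F ↥(U ⊓ W ⊓ X) → IsMaxSing Q m U →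
      IsMaxSing Q m W → IsMaxSing Q m X →
      Even ((m - finrank F ↥(U ⊓ W)) + (m - finrank F ↥(W ⊓ X)) + (m - finrank F ↥(U ⊓ X))) := by
  intro d
  induction d using Nat.strong_induction_on with
  | _ d ih =>
  intro U W X hd hU hW hX
  have step : ∀ (U W X : Submodule F V), d = m - finrank F ↥(U ⊓ W ⊓ X) → IsMaxSing Q m U →
      IsMaxSing Q m W → IsMaxSing Q m X → ¬ U ⊓ W ≤ X →
      Even ((m - finrank F ↥(U ⊓ W)) + (m - finrank F ↥(W ⊓ X)) + (m - finrank F ↥(U ⊓ X))) := by
    intro U W X hd hU hW hX hne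
    obtain ⟨p, hp, hpX⟩ := SetLike.not_le_iff_exists.1 hne
    obtain ⟨X', hX', hpX', hkey⟩ := exists_moved hQ hV hX (hU.2 p hp.1) hpX
    obtain ⟨e1, hle⟩ := hkey U hU.2 hp.1
    obtain ⟨e2, -⟩ := hkey W hW.2 hp.2
    have hlt : finrank F ↥(U ⊓ W ⊓ X) < finrank F ↥(U ⊓ W ⊓ X') := by
      refine Submodule.finrank_lt_finrank_of_lt (SetLike.lt_iff_le_and_exists.2 ⟨?_, ?_⟩)
      · exact fun y hy => ⟨hy.1, hle ⟨hy.1.1, hy.2⟩⟩
      · exact ⟨p, ⟨hp, hpX'⟩, fun h => hpX h.2⟩
    have b1 := Submodule.finrank_mono (inf_le_left : U ⊓ X' ≤ U)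
    have b2 := Submodule.finrank_mono (inf_le_left : W ⊓ X' ≤ W)
    have b3 := Submodule.finrank_mono (inf_le_right : U ⊓ W ⊓ X' ≤ X')
    rw [hU.1] at b1
    rw [hW.1] at b2
    rw [hX'.1] at b3
    have h := ih _ (by omega : m - finrank F ↥(U ⊓ W ⊓ X') < d) U W X' rfl hU hW hX'
    rw [Nat.even_iff] at h ⊢
    omega
  by_cases h1 : U ⊓ W ≤ X
  · by_cases h2 : W ⊓ X ≤ U
    · by_cases h3 : U ⊓ X ≤ W
      · have hWX : W ⊓ X = U ⊓ W := le_antisymm (fun x hx => ⟨h2 hx, hx.1⟩) fun x hx =>
          ⟨hx.2, h1 hx⟩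
        have hUX : U ⊓ X = U ⊓ W := le_antisymm (fun x hx => ⟨hx.1, h3 hx⟩) fun x hx =>
          ⟨hx.1, h1 hx⟩
        rw [hWX, hUX]
        have h := even_of_pairwise hQ hV hU hW hX h1 h2 h3
        exact (h.add h).add h
      · have h := step U X W (by rw [hd, inf_right_comm]) hU hX hW h3
        rw [inf_comm X W] at h
        rw [Nat.even_iff] at h ⊢
        omega
    · have h := step W X U (by rw [hd, inf_comm (W ⊓ X), ← inf_assoc]) hW hX hU h2
      rw [inf_comm X U, inf_comm W U] at h
      rw [Nat.even_iff] at h ⊢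
      omega
  · exact step U W X hd hU hW hX h1

omit [FiniteDimensional F V] in
theorem finrank_map_isometry (g : V ≃ₗ[F] V) (W : Submodule F V) :
    finrank F (W.map g.toLinearMap) = finrank F W :=
  (g.submoduleMap W).finrank_eq.symm

/-- A singular subspace of dimension `m` in `F^{2m}` spanned by coordinate vectors. -/
def stdMax (F : Type*) [Field F] {m : ℕ} (c : Fin m → Bool) : Submodule F (Fin m ⊕ Fin m → F) where
  carrier := {v | ∀ i, (if c i then v (Sum.inl i) else v (Sum.inr i)) = 0}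
  add_mem' ha hb i := by have := ha i; have := hb i; split_ifs at * <;> simp [*]
  zero_mem' i := by split_ifs <;> rfl
  smul_mem' r _ hv i := by have := hv i; split_ifs at * <;> simp [*]

theorem isMaxSing_stdMax {m : ℕ} (c : Fin m → Bool) :
    IsMaxSing (plusQ m F) m (stdMax F c) := by
  constructor
  · have e : (Fin m → F) ≃ₗ[F] stdMax F c :=
      { toFun := fun a => ⟨Sum.elim (fun i => if c i then 0 else a i)
            (fun i => if c i then a i else 0), fun i => by split_ifs with h <;> simp [h]⟩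
        invFun := fun v i => if c i then v.1 (Sum.inr i) else v.1 (Sum.inl i)
        map_add' := fun a b => Subtype.ext (funext fun x => by
          rcases x with i | i <;> cases h : c i <;> simp [h])
        map_smul' := fun r a => Subtype.ext (funext fun x => by
          rcases x with i | i <;> cases h : c i <;> simp [h])
        left_inv := fun a => funext fun i => by cases h : c i <;> simp [h]
        right_inv := fun v => Subtype.ext (funext fun x => by
          rcases x with i | i <;> cases h : c i <;> have h' := v.2 i <;> simp [h] at h' ⊢ <;>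
            simp [h']) }
    rw [← e.finrank_eq, Module.finrank_fin_fun]
  · intro w hw
    rw [plusQ_apply, Cfsg.quadFormPlus]
    refine Finset.sum_eq_zero fun i _ => ?_
    have := hw i
    split_ifs at this <;> simp [this]

theorem exists_two_families {m : ℕ} (hm : 1 ≤ m) :
    ∃ U W : Submodule F (Fin m ⊕ Fin m → F), IsMaxSing (plusQ m F) m U ∧
      IsMaxSing (plusQ m F) m W ∧ finrank F ↥(U ⊓ W) + 1 = m := by
  obtain ⟨n, rfl⟩ : ∃ n, m = n + 1 := ⟨m - 1, by omega⟩
  refine ⟨stdMax F fun _ => false, stdMax F fun i => decide (i = 0), isMaxSing_stdMax _,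
    isMaxSing_stdMax _, ?_⟩
  have e : (Fin n → F) ≃ₗ[F] ↥(stdMax F (fun _ : Fin (n + 1) => false) ⊓
      stdMax F fun i : Fin (n + 1) => decide (i = 0)) :=
    { toFun := fun a => ⟨Sum.elim (Fin.cons 0 a) (fun _ => 0),
        fun i => by simp, fun i => by
          induction i using Fin.cases with
          | zero => simp
          | succ j => simp⟩
      invFun := fun v i => v.1 (Sum.inl i.succ)
      map_add' := fun a b => Subtype.ext (funext fun x => by
        rcases x with i | i
        · induction i using Fin.cases with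
          | zero => simp
          | succ j => simp
        · simp)
      map_smul' := fun r a => Subtype.ext (funext fun x => by
        rcases x with i | i
        · induction i using Fin.cases with
          | zero => simp
          | succ j => simp
        · simp)
      left_inv := fun a => funext fun i => by simp
      right_inv := fun v => Subtype.ext (funext fun x => by
        have h1 := v.2.1
        have h2 := v.2.2
        rcases x with i | i
        · induction i using Fin.cases with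
          | zero => have := h2 0; simp at this; simp [this]
          | succ j => simp
        · have := h1 i; simp at this; simp [this]) }
  rw [← e.finrank_eq, Module.finrank_fin_fun]

/-- A singular subspace of dimension `m - 1` lies in exactly two maximal ones. -/
theorem card_max_singular_containing {n : ℕ} (U : Submodule F (Fin (n + 1) ⊕ Fin (n + 1) → F))
    (hU : finrank F U = n) (hU0 : ∀ u ∈ U, plusQ (n + 1) F u = 0) :
    Nat.card {W : Submodule F (Fin (n + 1) ⊕ Fin (n + 1) → F) //
      IsMaxSing (plusQ (n + 1) F) (n + 1) W ∧ U ≤ W} = 2 := by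
  obtain ⟨Q, hQdef⟩ : ∃ Q, Q = plusQ (n + 1) F := ⟨_, rfl⟩
  rw [← hQdef] at hU0 ⊢
  obtain ⟨E, hEdef⟩ : ∃ E, E = stdMax F (fun _ : Fin (n + 1) => false) ⊓
      stdMax F (fun i : Fin (n + 1) => decide (i = 0)) := ⟨_, rfl⟩
  obtain ⟨A, hA⟩ : ∃ A, A = stdMax F (fun _ : Fin (n + 1) => false) := ⟨_, rfl⟩
  obtain ⟨B, hB⟩ : ∃ B, B = stdMax F (fun i : Fin (n + 1) => decide (i = 0)) := ⟨_, rfl⟩
  have hEA : E ≤ A := by rw [hEdef, hA]; exact inf_le_left
  have hEB : E ≤ B := by rw [hEdef, hB]; exact inf_le_right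
  have hAm : IsMaxSing Q (n + 1) A := by rw [hA, hQdef]; exact isMaxSing_stdMax _
  have hBm : IsMaxSing Q (n + 1) B := by rw [hB, hQdef]; exact isMaxSing_stdMax _
  have hAB : A ≠ B := by
    intro h
    have : (Pi.single (Sum.inl 0) 1 : Fin (n + 1) ⊕ Fin (n + 1) → F) ∈ B := by
      rw [← h, hA]
      intro i
      simp
    rw [hB] at this
    simpa using this 0
  have hQn : (QuadraticMap.polarBilin Q).Nondegenerate := hQdef ▸ plusQ_nondegenerate _
  have hEd : finrank F E = n := by
    have e : (Fin n → F) ≃ₗ[F] E :=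
      { toFun := fun a => ⟨Sum.elim (Fin.cons 0 a) (fun _ => 0), by
          rw [hEdef]
          exact ⟨fun i => by simp, fun i => by induction i using Fin.cases <;> simp⟩⟩
        invFun := fun v i => v.1 (Sum.inl i.succ)
        map_add' := fun a b => Subtype.ext (funext fun x => by
          rcases x with i | i
          · induction i using Fin.cases <;> simp
          · simp)
        map_smul' := fun r a => Subtype.ext (funext fun x => by
          rcases x with i | i
          · induction i using Fin.cases <;> simp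
          · simp)
        left_inv := fun a => funext fun i => by simp
        right_inv := fun v => Subtype.ext (funext fun x => by
          have hv := v.2
          simp only [hEdef] at hv
          rcases x with i | i
          · induction i using Fin.cases with
            | zero => have := hv.2 0; simp at this; simp [this]
            | succ j => simp
          · have := hv.1 i; simp at this; simp [this]) }
    rw [← e.finrank_eq, Module.finrank_fin_fun]
  have hE0 : ∀ u ∈ E, Q u = 0 := fun u hu => hAm.2 u (hEA hu)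
  obtain ⟨g, hg, hgU⟩ := witt_quadratic Q hQn E U
    (LinearEquiv.ofFinrankEq E U (by rw [hEd, hU]))
    (fun x => by rw [hU0 _ (Submodule.coe_mem _), hE0 _ x.2])
  have hgE : E.map g.toLinearMap = U := by
    refine Submodule.eq_of_le_of_finrank_le ?_ (by rw [finrank_map_isometry, hEd, hU])
    rintro _ ⟨x, hx, rfl⟩
    rw [LinearEquiv.coe_coe, hgU ⟨x, hx⟩]
    exact Submodule.coe_mem _
  have hstd : ∀ W, IsMaxSing Q (n + 1) W → E ≤ W → W = A ∨ W = B := by
    intro W hW hEW
    have hzero : ∀ w ∈ W, ∀ i : Fin n,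
        w (Sum.inr i.succ) = 0 := by
      intro w hw i
      have hi : (Pi.single (Sum.inl i.succ) 1 : Fin (n + 1) ⊕ Fin (n + 1) → F) ∈ E := by
        rw [hEdef]
        refine ⟨fun j => by simp, fun j => ?_⟩
        induction j using Fin.cases <;> simp [Pi.single_apply, (Fin.succ_ne_zero i).symm]
      have h := polar_eq_zero_of_singular hW.2 (hEW hi) hw
      rw [hQdef, polar_plus] at h
      simpa [Pi.single_apply] using h
    by_cases h : ∀ w ∈ W, w (Sum.inr 0) = 0
    · left
      refine Submodule.eq_of_le_of_finrank_le ?_ (by rw [hW.1, hAm.1])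
      intro w hw
      rw [hA]
      intro i
      induction i using Fin.cases with
      | zero => simpa using h w hw
      | succ j => simpa using hzero w hw j
    · right
      push Not at h
      obtain ⟨w₀, hw₀, hw₀0⟩ := h
      have hl : ∀ w ∈ W, w (Sum.inl 0) = 0 := by
        intro w hw
        have hQw : ∀ u ∈ W, u (Sum.inl 0) * u (Sum.inr 0) = 0 := by
          intro u hu
          have h1 := hW.2 u hu
          rw [hQdef, plusQ_apply, Cfsg.quadFormPlus, Fin.sum_univ_succ] at h1
          simpa [hzero u hu] using h1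
        have e0 := (mul_eq_zero.1 (hQw w₀ hw₀)).resolve_right hw₀0
        by_cases hw0 : w (Sum.inr 0) = 0
        · have h1 := hQw (w + w₀) (W.add_mem hw hw₀)
          simp [e0, hw0] at h1
          exact h1.resolve_right hw₀0
        · exact (mul_eq_zero.1 (hQw w hw)).resolve_right hw0
      refine Submodule.eq_of_le_of_finrank_le ?_ (by rw [hW.1, hBm.1])
      intro w hw
      rw [hB]
      intro i
      induction i using Fin.cases with
      | zero => simpa using hl w hw
      | succ j => simpa using hzero w hw j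
  have hiso : ∀ (k : (Fin (n + 1) ⊕ Fin (n + 1) → F) ≃ₗ[F] (Fin (n + 1) ⊕ Fin (n + 1) → F)),
      (∀ v, Q (k v) = Q v) → ∀ W, IsMaxSing Q (n + 1) W →
      IsMaxSing Q (n + 1) (W.map k.toLinearMap) := fun k hk W hW => by
    refine ⟨by rw [finrank_map_isometry, hW.1], ?_⟩
    rintro _ ⟨x, hx, rfl⟩
    rw [LinearEquiv.coe_coe, hk]
    exact hW.2 x hx
  have hset : {W : Submodule F (Fin (n + 1) ⊕ Fin (n + 1) → F) | IsMaxSing Q (n + 1) W ∧ U ≤ W} =
      {A.map g.toLinearMap, B.map g.toLinearMap} := by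
    ext W
    simp only [Set.mem_setOf_eq, Set.mem_insert_iff, Set.mem_singleton_iff]
    constructor
    · rintro ⟨hW, hUW⟩
      have hgW : (W.map g.symm.toLinearMap).map g.toLinearMap = W := by
        ext x; simp [Submodule.mem_map]
      have hW' := hiso g.symm (fun v => by rw [← hg (g.symm v), LinearEquiv.apply_symm_apply]) W hW
      have hEW : E ≤ W.map g.symm.toLinearMap := fun x hx =>
        ⟨g x, hUW (hgE ▸ ⟨x, hx, rfl⟩), g.symm_apply_apply x⟩
      rcases hstd _ hW' hEW with h | h <;> rw [← hgW, h] <;> simp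
    · rintro (rfl | rfl)
      · exact ⟨hiso g hg A hAm, hgE ▸ Submodule.map_mono hEA⟩
      · exact ⟨hiso g hg B hBm, hgE ▸ Submodule.map_mono hEB⟩
  show Nat.card {W : Submodule F (Fin (n + 1) ⊕ Fin (n + 1) → F) |
    IsMaxSing Q (n + 1) W ∧ U ≤ W} = 2
  rw [Nat.card_coe_set_eq, hset, Set.ncard_pair]
  exact fun h => hAB (Submodule.map_injective_of_injective g.injective h)

end CfsgLib.Forms
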