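import Cfsg.Agent.Forms.KleinPSL
import Cfsg.Agent.FieldEmb.Basic

/-!
# Subfield subgroups of `PSL₂`
-/

set_option autoImplicit false
set_option linter.unusedSectionVars false

namespace CfsgLib.Forms.SubfieldPSL

open Matrix CfsgLib.SL2Trace
open scoped MatrixGroups

variable {F K : Type*} [Field F] [Fintype F] [Field K] [Fintype K]

theorem exists_psl (ι : K →+* F) :
    ∃ H : Subgroup (Matrix.ProjectiveSpecialLinearGroup (Fin 2) F),
      Nonempty (H ≃* Matrix.ProjectiveSpecialLinearGroup (Fin 2) K) := by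
  let φ : SL(2, K) →* Matrix.ProjectiveSpecialLinearGroup (Fin 2) F :=
    KleinPSL.projHom.comp (Matrix.SpecialLinearGroup.map ι)
  have hker : φ.ker = Subgroup.center SL(2, K) := by
    ext g
    rw [MonoidHom.mem_ker, mem_center_iff_eq]
    show KleinPSL.projHom (Matrix.SpecialLinearGroup.map ι g) = 1 ↔ _
    rw [KleinPSL.proj_eq_one_iff']
    have hinj : Function.Injective (Matrix.SpecialLinearGroup.map (n := Fin 2) ι) := by
      intro a b h
      ext i j
      exact ι.injective (congrFun (congrFun (congrArg Subtype.val h) i) j)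
    have hn : Matrix.SpecialLinearGroup.map ι (-1 : SL(2, K)) = -1 := by
      ext i j
      fin_cases i <;> fin_cases j <;> simp
    exact or_congr ⟨fun h => hinj (h.trans (map_one _).symm), fun h => by rw [h, map_one]⟩
      ⟨fun h => hinj (h.trans hn.symm), fun h => by rw [h, hn]⟩
  exact ⟨φ.range, ⟨((QuotientGroup.quotientKerEquivRange φ).symm).trans
    (QuotientGroup.quotientMulEquivOfEq hker)⟩⟩

theorem exists_pgl (ι : K →+* F) (hsq : ∀ x : K, IsSquare (ι x)) :
    ∃ H : Subgroup (Matrix.ProjectiveSpecialLinearGroup (Fin 2) F),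
      Nonempty (H ≃* Matrix.ProjGenLinGroup (Fin 2) K) := by
  have hex : ∀ g : GL (Fin 2) K, ∃ s : F, s ^ 2 = ι (g : Matrix (Fin 2) (Fin 2) K).det ∧ s ≠ 0 := by
    intro g
    obtain ⟨s, hs⟩ := hsq (g : Matrix (Fin 2) (Fin 2) K).det
    refine ⟨s, by rw [hs, pow_two], fun h0 => ?_⟩
    rw [h0, mul_zero, map_eq_zero] at hs
    exact (Matrix.GeneralLinearGroup.det g).ne_zero hs
  choose s hs hs0 using hex
  let τ : GL (Fin 2) K → SL(2, F) := fun g =>
    ⟨(s g)⁻¹ • ι.mapMatrix (g : Matrix (Fin 2) (Fin 2) K), by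
      rw [Matrix.det_smul, ← RingHom.map_det, ← hs, Fintype.card_fin, ← mul_pow,
        inv_mul_cancel₀ (hs0 g), one_pow]⟩
  have hτ : ∀ (g : GL (Fin 2) K), (τ g).1 = (s g)⁻¹ • ι.mapMatrix (g : Matrix (Fin 2) (Fin 2) K) :=
    fun g => rfl
  have hsign : ∀ a b : GL (Fin 2) K,
      KleinPSL.projHom (τ (a * b)) = KleinPSL.projHom (τ a) * KleinPSL.projHom (τ b) := by
    intro a b
    rw [← map_mul, eq_comm, KleinPSL.proj_eq_proj_iff]
    have e : (s (a * b)) ^ 2 = (s a * s b) ^ 2 := by
      rw [mul_pow, hs, hs, hs, Units.val_mul, Matrix.det_mul, map_mul]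
    rcases sq_eq_sq_iff_eq_or_eq_neg.1 e with e | e
    · left
      apply Subtype.ext
      simp only [Matrix.SpecialLinearGroup.coe_mul, hτ, Units.val_mul, map_mul, e, mul_inv,
        smul_mul_smul_comm]
    · right
      apply Subtype.ext
      simp only [Matrix.SpecialLinearGroup.coe_mul, Matrix.SpecialLinearGroup.coe_neg, hτ, Units.val_mul,
        map_mul, e, inv_neg, mul_inv, smul_mul_smul_comm, neg_smul]
  let ψ : GL (Fin 2) K →* Matrix.ProjectiveSpecialLinearGroup (Fin 2) F :=
    MonoidHom.mk' (fun g => KleinPSL.projHom (τ g)) hsign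
  have hker : ψ.ker = Subgroup.center (GL (Fin 2) K) := by
    ext g
    rw [MonoidHom.mem_ker, Matrix.GeneralLinearGroup.center_eq_range_scalar]
    show KleinPSL.projHom (τ g) = 1 ↔ _
    rw [KleinPSL.proj_eq_one_iff']
    constructor
    · intro h
      obtain ⟨c, hc⟩ : ∃ c : F, ι.mapMatrix (g : Matrix (Fin 2) (Fin 2) K) = c • 1 := by
        rcases h with h | h
        · refine ⟨s g, ?_⟩
          have h' := congrArg Subtype.val h
          rw [hτ, inv_smul_eq_iff₀ (hs0 g)] at h'
          simpa using h'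
        · refine ⟨-s g, ?_⟩
          have h' := congrArg Subtype.val h
          rw [hτ, inv_smul_eq_iff₀ (hs0 g)] at h'
          simpa using h'
      have he : ∀ i j, ι ((g : Matrix (Fin 2) (Fin 2) K) i j) = (c • (1 : Matrix (Fin 2) (Fin 2) F)) i j :=
        fun i j => by rw [← hc]; rfl
      have h01 : (g : Matrix (Fin 2) (Fin 2) K) 0 1 = 0 := ι.injective (by simpa using he 0 1)
      have h10 : (g : Matrix (Fin 2) (Fin 2) K) 1 0 = 0 := ι.injective (by simpa using he 1 0)
      have h00 : (g : Matrix (Fin 2) (Fin 2) K) 0 0 = (g : Matrix (Fin 2) (Fin 2) K) 1 1 :=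
        ι.injective (by rw [he, he]; simp)
      have hne : (g : Matrix (Fin 2) (Fin 2) K) 0 0 ≠ 0 := by
        intro h0
        apply (Matrix.GeneralLinearGroup.det g).ne_zero
        show (g : Matrix (Fin 2) (Fin 2) K).det = 0
        simp [Matrix.det_fin_two, h0, h01]
      refine ⟨Units.mk0 _ hne, ?_⟩
      ext i j
      fin_cases i <;> fin_cases j <;> simp [h01, h10, h00]
    · rintro ⟨u, rfl⟩
      have hd : (s (Matrix.GeneralLinearGroup.scalar (Fin 2) u)) ^ 2 = (ι u) ^ 2 := by
        rw [hs]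
        simp
      rcases sq_eq_sq_iff_eq_or_eq_neg.1 hd with e | e
      · left
        apply Subtype.ext
        rw [hτ, e]
        ext i j
        fin_cases i <;> fin_cases j <;> simp
      · right
        apply Subtype.ext
        rw [hτ, e]
        ext i j
        fin_cases i <;> fin_cases j <;> simp
  exact ⟨ψ.range, ⟨((QuotientGroup.quotientKerEquivRange ψ).symm).trans
    (QuotientGroup.quotientMulEquivOfEq hker)⟩⟩

theorem isSquare_of_even (ι : K →+* F) {m : ℕ} (hm : Even m)
    (hodd : Odd (Fintype.card F)) (hK : Fintype.card K ^ m = Fintype.card F) (x : K) : IsSquare (ι x) := by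
  by_cases hx : x = 0
  · exact ⟨0, by simp [hx]⟩
  have hchar : ringChar F ≠ 2 := fun h => by
    have := FiniteField.even_card_of_char_two h
    rw [Nat.odd_iff] at hodd
    omega
  have hd : 2 * (Fintype.card K - 1) ∣ Fintype.card F - 1 := by
    obtain ⟨k, rfl⟩ := hm
    rw [← hK, ← two_mul, pow_mul]
    refine dvd_trans ?_ (Nat.sub_one_dvd_pow_sub_one _ _)
    have h1 := Fintype.one_lt_card (α := K)
    have hr : Odd (Fintype.card K) := by
      rw [← hK] at hodd
      exact hodd.of_dvd_nat (dvd_pow_self _ (by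
        intro h0
        rw [h0, pow_zero] at hK
        have := Fintype.one_lt_card (α := F)
        omega))
    obtain ⟨j, hj⟩ := hr
    refine ⟨j + 1, ?_⟩
    rw [hj, Nat.add_sub_cancel]
    have : (2 * j + 1) ^ 2 = 2 * (2 * j) * (j + 1) + 1 := by ring
    omega
  rw [FiniteField.isSquare_iff hchar (by simpa using hx), ← map_pow]
  obtain ⟨c, hc⟩ := hd
  have : Fintype.card F / 2 = (Fintype.card K - 1) * c := by
    rw [mul_assoc] at hc
    have := Fintype.one_lt_card (α := F)
    omega
  rw [this, pow_mul, FiniteField.pow_card_sub_one_eq_one x hx, one_pow, map_one]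

theorem even_of_pgl {m : ℕ} (hodd : Odd (Fintype.card F)) (hK : Fintype.card K ^ m = Fintype.card F)
    (h : ∃ H : Subgroup (Matrix.ProjectiveSpecialLinearGroup (Fin 2) F),
      Nonempty (H ≃* Matrix.ProjGenLinGroup (Fin 2) K)) : Even m := by
  obtain ⟨H, ⟨e⟩⟩ := h
  by_contra hm
  rw [Nat.not_even_iff_odd] at hm
  have hd := Subgroup.card_subgroup_dvd_card H
  rw [Nat.card_congr e.toEquiv, Linear.card_PGL, Linear.card_SL_two] at hd
  obtain ⟨c, hc⟩ := hd
  have h2 := Linear.card_PSL_two_odd (F := F) hodd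
  rw [hc, ← hK, ← pow_mul, mul_comm m 2, pow_mul] at h2
  rw [← hK] at hodd
  have hr : 1 < Fintype.card K := Fintype.one_lt_card
  generalize Fintype.card K = r at h2 hr hodd
  have hrodd : Odd r := hodd.of_dvd_nat (dvd_pow_self _ (by rintro rfl; simp at hm))
  obtain ⟨D, hD⟩ : ∃ D, r ^ 2 = D + 1 := ⟨r ^ 2 - 1, (Nat.sub_add_cancel (Nat.one_le_pow _ _ (by omega))).symm⟩
  have hD0 : D ≠ 0 := by nlinarith
  have hgs := geom_sum_mul_add D m
  set S := ∑ i ∈ Finset.range m, (D + 1) ^ i with hS
  have hSodd : Odd S := by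
    have hD1 : Odd (D + 1) := hD ▸ hrodd.pow
    rw [hS, Finset.odd_sum_iff_odd_card_odd, Finset.filter_true_of_mem (fun i _ => hD1.pow),
      Finset.card_range]
    exact hm
  rw [hD, Nat.add_sub_cancel, ← hgs, Nat.add_sub_cancel] at h2
  have h3 : 2 * (r * c) = r ^ m * S := Nat.eq_of_mul_eq_mul_right (Nat.pos_of_ne_zero hD0) (by linarith)
  have h4 : Odd (r ^ m * S) := hrodd.pow.mul hSodd
  rw [← h3] at h4
  exact absurd h4 (by simp)

end CfsgLib.Forms.SubfieldPSL
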