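import Cfsg.Agent.Forms.LinearBlocks

/-!
# Borel subgroup, Levi subgroup and torus normaliser of the symplectic group

Main results: `mem_symp_upper_iff`, `card_sympBorel`, `leviEquiv`, `card_sympTorusNormalizer`.
-/

namespace CfsgLib.Forms

open Matrix

variable {F : Type*} [Field F] {m : ℕ}

local notation "I" => Fin m ⊕ Fin m

theorem mem_stabilizing_of_le {H : Type*} [Group H] {ι : Type} [Fintype ι] [DecidableEq ι]
    (toMat : H →* Matrix ι ι F) (W : Submodule F (ι → F)) {h : H}
    (hh : ∀ v ∈ W, toMat h *ᵥ v ∈ W) : h ∈ Cfsg.stabilizing toMat (W : Set (ι → F)) := by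
  refine fun x => ⟨hh x, fun hx => ?_⟩
  have hf : Function.Injective (toMat h).mulVecLin := by
    intro a b hab
    have := congrArg (toMat h⁻¹).mulVecLin hab
    simpa [mulVec_mulVec, ← map_mul] using this
  have heq : W.map (toMat h).mulVecLin = W :=
    Submodule.eq_of_le_of_finrank_le (by rintro y ⟨z, hz, rfl⟩; exact hh z hz)
      ((Submodule.equivMapOfInjective _ hf W).finrank_eq.le)
  rw [SetLike.mem_coe, ← heq] at hx
  obtain ⟨z, hz, hzx⟩ := hx
  rwa [← hf hzx]

/-- Block upper triangular symplectic matrices. -/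
theorem mem_symp_upper_iff (A B D : Matrix (Fin m) (Fin m) F) :
    fromBlocks A B 0 D ∈ Matrix.symplecticGroup (Fin m) F ↔ A * Dᵀ = 1 ∧ B * Aᵀ = A * Bᵀ := by
  rw [SymplecticGroup.mem_iff]
  simp only [Matrix.J, fromBlocks_transpose, fromBlocks_multiply, transpose_zero, mul_zero,
    zero_mul, mul_neg, neg_mul, mul_one, zero_add, add_zero]
  rw [fromBlocks_inj]
  constructor
  · rintro ⟨h1, h2, -, -⟩
    exact ⟨neg_injective h2, add_neg_eq_zero.1 h1⟩
  · rintro ⟨h1, h2⟩
    refine ⟨add_neg_eq_zero.2 h2, by rw [h1], ?_, neg_zero⟩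
    have := congrArg Matrix.transpose h1
    simpa using this

theorem det_ne_zero_of_mem {g : Matrix.symplecticGroup (Fin m) F} :
    (g : Matrix I I F).det ≠ 0 :=
  (SymplecticGroup.symplectic_det g.2).ne_zero

theorem blocks_of_lower_zero {g : Matrix.symplecticGroup (Fin m) F}
    (h : (g : Matrix I I F).toBlocks₂₁ = 0) :
    (g : Matrix I I F) = fromBlocks (g : Matrix I I F).toBlocks₁₁ (g : Matrix I I F).toBlocks₁₂ 0
        (g : Matrix I I F).toBlocks₂₂ ∧
      (g : Matrix I I F).toBlocks₁₁ * (g : Matrix I I F).toBlocks₂₂ᵀ = 1 ∧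
      (g : Matrix I I F).toBlocks₁₂ * (g : Matrix I I F).toBlocks₁₁ᵀ =
        (g : Matrix I I F).toBlocks₁₁ * (g : Matrix I I F).toBlocks₁₂ᵀ := by
  have e : (g : Matrix I I F) = fromBlocks (g : Matrix I I F).toBlocks₁₁
      (g : Matrix I I F).toBlocks₁₂ 0 (g : Matrix I I F).toBlocks₂₂ := by
    conv_lhs => rw [← fromBlocks_toBlocks (g : Matrix I I F), h]
  have hm := g.2
  rw [e, mem_symp_upper_iff] at hm
  exact ⟨e, hm⟩

/-- The flag space `⟨e_0, …, e_k⟩`. -/
def flagSub (F : Type*) [Field F] (m : ℕ) (k : Fin m) : Submodule F (Fin m ⊕ Fin m → F) where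
  carrier := {v | (∀ i : Fin m, (k : ℕ) < (i : ℕ) → v (Sum.inl i) = 0) ∧
    ∀ i : Fin m, v (Sum.inr i) = 0}
  add_mem' ha hb := ⟨fun i hi => by rw [Pi.add_apply, ha.1 i hi, hb.1 i hi, add_zero],
    fun i => by rw [Pi.add_apply, ha.2 i, hb.2 i, add_zero]⟩
  zero_mem' := ⟨fun _ _ => rfl, fun _ => rfl⟩
  smul_mem' c _ hv := ⟨fun i hi => by rw [Pi.smul_apply, hv.1 i hi, smul_zero],
    fun i => by rw [Pi.smul_apply, hv.2 i, smul_zero]⟩

theorem mem_sympBorel_iff (g : Matrix.symplecticGroup (Fin m) F) :
    g ∈ (⨅ k : Fin m, Cfsg.stabilizing (Cfsg.spToMat m F) {v : I → F |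
      (∀ i : Fin m, (k : ℕ) < (i : ℕ) → v (Sum.inl i) = 0) ∧ ∀ i : Fin m, v (Sum.inr i) = 0}) ↔
    (g : Matrix I I F).toBlocks₂₁ = 0 ∧
      ∀ i j, j < i → (g : Matrix I I F).toBlocks₁₁ i j = 0 := by
  rw [Subgroup.mem_iInf]
  constructor
  · intro h
    have key : ∀ j : Fin m, (∀ i : Fin m, (j : ℕ) < i → (g : Matrix I I F) (.inl i) (.inl j) = 0) ∧
        ∀ i : Fin m, (g : Matrix I I F) (.inr i) (.inl j) = 0 := by
      intro j
      have hs : (Pi.single (Sum.inl j) 1 : I → F) ∈ {v : I → F |
          (∀ i : Fin m, (j : ℕ) < (i : ℕ) → v (Sum.inl i) = 0) ∧ ∀ i : Fin m, v (Sum.inr i) = 0} :=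
        ⟨fun i hi => Pi.single_eq_of_ne (M := fun _ : I => F) (by
          intro e; rw [Sum.inl.inj e] at hi; omega) 1,
          fun i => Pi.single_eq_of_ne (M := fun _ : I => F) Sum.inr_ne_inl 1⟩
      have := (h j _).1 hs
      constructor
      · intro i hi
        simpa [Cfsg.spToMat] using this.1 i hi
      · intro i
        simpa [Cfsg.spToMat] using this.2 i
    exact ⟨Matrix.ext fun i j => (key j).2 i, fun i j hji => (key j).1 i hji⟩
  · rintro ⟨h21, hA⟩ k
    refine mem_stabilizing_of_le _ (flagSub F m k) fun v hv => ⟨fun i hi => ?_, fun i => ?_⟩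
    · show ∑ j, (g : Matrix I I F) (.inl i) j * v j = 0
      refine Finset.sum_eq_zero fun j _ => ?_
      rcases j with j | j
      · by_cases hj : (k : ℕ) < j
        · exact mul_eq_zero_of_right _ (hv.1 j hj)
        · exact mul_eq_zero_of_left (hA i j (by rw [Fin.lt_def]; omega)) _
      · exact mul_eq_zero_of_right _ (hv.2 j)
    · show ∑ j, (g : Matrix I I F) (.inr i) j * v j = 0
      refine Finset.sum_eq_zero fun j _ => ?_
      rcases j with j | j
      · exact mul_eq_zero_of_left (congrFun (congrFun h21 i) j) _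
      · exact mul_eq_zero_of_right _ (hv.2 j)

/-- The order of the Borel subgroup of the symplectic group. -/
theorem card_sympBorel [Fintype F] {q : ℕ} (hF : Fintype.card F = q) :
    Nat.card ↥(⨅ k : Fin m, Cfsg.stabilizing (Cfsg.spToMat m F) {v : I → F |
      (∀ i : Fin m, (k : ℕ) < (i : ℕ) → v (Sum.inl i) = 0) ∧ ∀ i : Fin m, v (Sum.inr i) = 0}) =
      q ^ (m ^ 2) * (q - 1) ^ m := by
  classical
  have hdetA : ∀ g : Matrix.symplecticGroup (Fin m) F, (g : Matrix I I F).toBlocks₂₁ = 0 →
      (g : Matrix I I F).toBlocks₁₁.det ≠ 0 := fun g h hz => by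
    have := congrArg Matrix.det (blocks_of_lower_zero h).2.1
    rw [det_mul, hz, zero_mul, det_one] at this
    exact zero_ne_one this
  have hdetU : ∀ A : {M : Matrix (Fin m) (Fin m) F //
      (∀ i j, j < i → M i j = 0) ∧ ∀ i, M i i ≠ 0}, IsUnit A.1.det := fun A => by
    rw [det_of_upperTriangular (M := A.1) fun i j h => A.2.1 i j h]
    exact (Finset.prod_ne_zero_iff.2 fun i _ => A.2.2 i).isUnit
  have e : {g : Matrix.symplecticGroup (Fin m) F // (g : Matrix I I F).toBlocks₂₁ = 0 ∧
      ∀ i j, j < i → (g : Matrix I I F).toBlocks₁₁ i j = 0} ≃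
      {M : Matrix (Fin m) (Fin m) F // (∀ i j, j < i → M i j = 0) ∧ ∀ i, M i i ≠ 0} ×
        {S : Matrix (Fin m) (Fin m) F // Sᵀ = S} :=
    { toFun := fun g => (⟨(g.1 : Matrix I I F).toBlocks₁₁, g.2.2, fun i => by
          have h := hdetA g.1 g.2.1
          rw [det_of_upperTriangular fun i j h => g.2.2 i j h] at h
          exact Finset.prod_ne_zero_iff.1 h i (Finset.mem_univ i)⟩,
        ⟨(g.1 : Matrix I I F).toBlocks₁₁⁻¹ * (g.1 : Matrix I I F).toBlocks₁₂, by
          obtain ⟨-, -, h3⟩ := blocks_of_lower_zero g.2.1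
          have hu := (hdetA g.1 g.2.1).isUnit
          generalize (g.1 : Matrix I I F).toBlocks₁₁ = A at h3 hu ⊢
          generalize (g.1 : Matrix I I F).toBlocks₁₂ = B at h3 ⊢
          have hu' : IsUnit Aᵀ.det := by rwa [det_transpose]
          rw [transpose_mul, transpose_nonsing_inv]
          calc Bᵀ * Aᵀ⁻¹ = A⁻¹ * (A * Bᵀ) * Aᵀ⁻¹ := by
                rw [nonsing_inv_mul_cancel_left _ _ hu]
            _ = A⁻¹ * B := by
                rw [← h3, ← Matrix.mul_assoc, mul_nonsing_inv_cancel_right _ _ hu']⟩)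
      invFun := fun p => ⟨⟨fromBlocks p.1.1 (p.1.1 * p.2.1) 0 (p.1.1⁻¹)ᵀ, by
          rw [mem_symp_upper_iff, transpose_transpose, mul_nonsing_inv _ (hdetU p.1)]
          exact ⟨rfl, by rw [transpose_mul, p.2.2, Matrix.mul_assoc]⟩⟩,
        by simp [toBlocks_fromBlocks₂₁], fun i j h => by
          simpa [toBlocks_fromBlocks₁₁] using p.1.2.1 i j h⟩
      left_inv := fun g => by
        obtain ⟨h1, h2, -⟩ := blocks_of_lower_zero g.2.1
        have hu := (hdetA g.1 g.2.1).isUnit
        refine Subtype.ext (Subtype.ext ?_)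
        conv_rhs => rw [h1]
        refine fromBlocks_inj.2 ⟨rfl, ?_, rfl, ?_⟩
        · exact mul_nonsing_inv_cancel_left _ _ hu
        · rw [inv_eq_right_inv h2, transpose_transpose]
      right_inv := fun p => by
        refine Prod.ext (Subtype.ext ?_) (Subtype.ext ?_)
        · simp [toBlocks_fromBlocks₁₁]
        · simp [toBlocks_fromBlocks₁₁, toBlocks_fromBlocks₁₂,
            nonsing_inv_mul_cancel_left _ _ (hdetU p.1)] }
  rw [Nat.card_congr ((Equiv.subtypeEquivRight mem_sympBorel_iff).trans e), Nat.card_prod,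
    card_upper hF, card_symmMatrix hF]
  have hs : m ^ 2 = m * (m - 1) / 2 + (m + m * (m - 1) / 2) := by
    obtain ⟨k, hk⟩ : Even (m * (m - 1)) := Nat.even_mul_pred_self m
    rw [hk, ← two_mul, Nat.mul_div_cancel_left _ two_pos]
    cases m with
    | zero => simp at hk ⊢; omega
    | succ n => simp at hk; nlinarith
  rw [hs, pow_add]
  ring

/-- The common stabiliser of the two standard maximal totally isotropic subspaces is `GL_m`. -/
theorem leviEquiv : Nonempty (↥(Cfsg.stabilizing (Cfsg.spToMat m F)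
      {v : I → F | ∀ i : Fin m, v (Sum.inr i) = 0} ⊓
    Cfsg.stabilizing (Cfsg.spToMat m F) {v : I → F | ∀ i : Fin m, v (Sum.inl i) = 0}) ≃*
    GL (Fin m) F) := by
  obtain ⟨W, hW⟩ : ∃ W : Submodule F (I → F),
      (W : Set (I → F)) = {v : I → F | ∀ i : Fin m, v (Sum.inr i) = 0} :=
    ⟨LinearMap.ker (LinearMap.pi fun i : Fin m =>
      (LinearMap.proj (Sum.inr i) : (I → F) →ₗ[F] F)), by ext v; simp [funext_iff]⟩
  obtain ⟨U, hU⟩ : ∃ U : Submodule F (I → F),
      (U : Set (I → F)) = {v : I → F | ∀ i : Fin m, v (Sum.inl i) = 0} :=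
    ⟨LinearMap.ker (LinearMap.pi fun i : Fin m =>
      (LinearMap.proj (Sum.inl i) : (I → F) →ₗ[F] F)), by ext v; simp [funext_iff]⟩
  obtain ⟨f, hfdef⟩ : ∃ f : GL (Fin m) F →* Matrix.symplecticGroup (Fin m) F,
      ∀ A : GL (Fin m) F, (f A : Matrix I I F) = fromBlocks (A : Matrix (Fin m) (Fin m) F) 0 0
        (((A⁻¹ : GL (Fin m) F) : Matrix (Fin m) (Fin m) F))ᵀ := by
    refine ⟨MonoidHom.mk' (fun A => ⟨fromBlocks (A : Matrix (Fin m) (Fin m) F) 0 0
        (((A⁻¹ : GL (Fin m) F) : Matrix (Fin m) (Fin m) F))ᵀ, by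
          rw [mem_symp_upper_iff, transpose_transpose, A.mul_inv]
          simp⟩) fun A B => Subtype.ext ?_, fun A => rfl⟩
    show fromBlocks _ _ _ _ = fromBlocks _ _ _ _ * fromBlocks _ _ _ _
    simp [fromBlocks_multiply, Units.val_mul, _root_.mul_inv_rev, transpose_mul]
  have hinj : Function.Injective f := fun A B h => Units.ext (by
    have h' := congrArg (fun g : Matrix.symplecticGroup (Fin m) F => (g : Matrix I I F).toBlocks₁₁) h
    simpa [hfdef] using h')
  refine ⟨((MonoidHom.ofInjective hinj).trans (MulEquiv.subgroupCongr (le_antisymm ?_ ?_))).symm⟩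
  · rintro _ ⟨A, rfl⟩
    rw [← hW, ← hU]
    refine ⟨mem_stabilizing_of_le _ W fun v hv => ?_, mem_stabilizing_of_le _ U fun v hv => ?_⟩
    · rw [← SetLike.mem_coe, hW] at hv ⊢
      intro i
      show ((f A : Matrix I I F) *ᵥ v) (.inr i) = 0
      simp [hfdef, mulVec, dotProduct, Fintype.sum_sum_type, hv _]
    · rw [← SetLike.mem_coe, hU] at hv ⊢
      intro i
      show ((f A : Matrix I I F) *ᵥ v) (.inl i) = 0
      simp [hfdef, mulVec, dotProduct, Fintype.sum_sum_type, hv _]
  · rintro g ⟨h1, h2⟩
    have h21 : (g : Matrix I I F).toBlocks₂₁ = 0 := Matrix.ext fun i j => by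
      have := (h1 (Pi.single (Sum.inl j) 1)).1 (fun _ =>
        Pi.single_eq_of_ne (M := fun _ : I => F) Sum.inr_ne_inl 1) i
      simpa [Cfsg.spToMat, toBlocks₂₁] using this
    have h12 : (g : Matrix I I F).toBlocks₁₂ = 0 := Matrix.ext fun i j => by
      have := (h2 (Pi.single (Sum.inr j) 1)).1 (fun _ =>
        Pi.single_eq_of_ne (M := fun _ : I => F) Sum.inl_ne_inr 1) i
      simpa [Cfsg.spToMat, toBlocks₁₂] using this
    obtain ⟨hg, hAD, -⟩ := blocks_of_lower_zero h21
    have hd : (g : Matrix I I F).toBlocks₁₁.det ≠ 0 := fun hz => by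
      have := congrArg Matrix.det hAD
      rw [det_mul, hz, zero_mul, det_one] at this
      exact zero_ne_one this
    refine ⟨GeneralLinearGroup.mkOfDetNeZero _ hd, Subtype.ext ?_⟩
    rw [hfdef]
    conv_rhs => rw [hg, h12]
    refine fromBlocks_inj.2 ⟨rfl, rfl, rfl, ?_⟩
    rw [Matrix.coe_units_inv]
    show ((g : Matrix I I F).toBlocks₁₁)⁻¹ᵀ = _
    rw [inv_eq_right_inv hAD, transpose_transpose]

theorem mem_sympTorus_iff (g : Matrix.symplecticGroup (Fin m) F) :
    g ∈ (⨅ i : I, Cfsg.stabilizing (Cfsg.spToMat m F)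
      ((Submodule.span F {(Pi.single i (1 : F) : I → F)} : Submodule F (I → F)) : Set (I → F))) ↔
    ∀ i j, i ≠ j → (g : Matrix I I F) i j = 0 := by
  rw [Subgroup.mem_iInf]
  constructor
  · intro h i j hij
    obtain ⟨c, hc⟩ := Submodule.mem_span_singleton.1
      ((h j (Pi.single j 1)).1 (Submodule.mem_span_singleton_self _))
    have h' := congrFun hc i
    simp [Cfsg.spToMat, Pi.single_eq_of_ne hij] at h'
    exact h'.symm
  · intro h j
    refine mem_stabilizing_of_le _ _ fun v hv => ?_
    obtain ⟨c, rfl⟩ := Submodule.mem_span_singleton.1 hv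
    refine Submodule.mem_span_singleton.2 ⟨c * (g : Matrix I I F) j j, ?_⟩
    rw [mulVec_smul, mulVec_single_one]
    funext i
    by_cases hij : i = j
    · subst hij; simp [Cfsg.spToMat]
    · simp [Cfsg.spToMat, Pi.single_eq_of_ne hij, h i j hij]

/-- A signed permutation of the index set. -/
def sgnPerm (π : Equiv.Perm (Fin m)) (ε : Fin m → Bool) : I → I
  | .inl i => if ε i then .inr (π i) else .inl (π i)
  | .inr i => if ε i then .inl (π i) else .inr (π i)

/-- Its coefficients in the symplectic group. -/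
def sgnCoeff (ε : Fin m → Bool) (a : Fin m → Fˣ) : I → F
  | .inl i => a i
  | .inr i => (if ε i then -1 else 1) * ((a i)⁻¹ : Fˣ)

/-- The monomial matrix. -/
def monMat (σ : I → I) (c : I → F) : Matrix I I F :=
  Matrix.of fun r s => if s = σ r then c r else 0

theorem monMat_mul_J_mul (σ : I → I) (c : I → F) (r s : I) :
    (monMat σ c * Matrix.J (Fin m) F * (monMat σ c)ᵀ) r s =
      c r * c s * Matrix.J (Fin m) F (σ r) (σ s) := by
  classical
  simp [monMat, Matrix.mul_apply, ite_mul, mul_ite]
  ring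

theorem J_apply_swap (r : I) : Matrix.J (Fin m) F r r.swap ≠ 0 := by
  rcases r with i | i <;> simp [Matrix.J]

theorem J_ne_zero_iff {r s : I} (h : Matrix.J (Fin m) F r s ≠ 0) : s = r.swap := by
  rcases r with i | i <;> rcases s with j | j <;> simp [Matrix.J, Matrix.one_apply] at h ⊢ <;>
    exact h.symm

/-- The order of the normaliser of the diagonal torus. -/
theorem card_sympTorusNormalizer [Fintype F] {q : ℕ} (hF : Fintype.card F = q) (hq : 4 ≤ q) :
    Nat.card ↥(Subgroup.normalizer (⨅ i : I, Cfsg.stabilizing (Cfsg.spToMat m F)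
      ((Submodule.span F {(Pi.single i (1 : F) : I → F)} : Submodule F (I → F)) : Set (I → F)) :
      Set (Matrix.symplecticGroup (Fin m) F))) = 2 ^ m * Nat.factorial m * (q - 1) ^ m := by
  classical
  obtain ⟨T, hT⟩ : ∃ T, T = ⨅ i : I, Cfsg.stabilizing (Cfsg.spToMat m F)
      ((Submodule.span F {(Pi.single i (1 : F) : I → F)} : Submodule F (I → F)) : Set (I → F)) :=
    ⟨_, rfl⟩
  rw [Set.iInf_eq_iInter, ← Subgroup.coe_iInf, ← hT]
  obtain ⟨a, ha0, ha2⟩ : ∃ a : F, a ≠ 0 ∧ a ^ 2 ≠ 1 := by
    by_contra h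
    have h' : (Finset.univ : Finset F) ⊆ {0, 1, -1} := fun x _ => by
      by_cases hx : x = 0
      · simp [hx]
      · rcases sq_eq_one_iff.1 (not_not.1 fun h2 => h ⟨x, hx, h2⟩) with h1 | h1 <;> simp [h1]
    have := (Finset.card_le_card h').trans Finset.card_le_three
    rw [Finset.card_univ, hF] at this
    omega
  have hdiag : ∀ x : Matrix.symplecticGroup (Fin m) F, x ∈ T ↔
      (x : Matrix I I F) = Matrix.diagonal fun i => (x : Matrix I I F) i i := by
    intro x
    rw [hT, mem_sympTorus_iff]
    constructor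
    · intro h
      ext i j
      by_cases hij : i = j
      · subst hij; simp
      · rw [h i j hij, diagonal_apply_ne _ hij]
    · intro h i j hij
      rw [h, diagonal_apply_ne _ hij]
  have htor : ∀ u : Fin m → Fˣ, ∃ x ∈ T, (x : Matrix I I F) =
      Matrix.diagonal (Sum.elim (fun i => (u i : F)) (fun i => ((u i)⁻¹ : Fˣ))) := by
    intro u
    refine ⟨⟨Matrix.diagonal (Sum.elim (fun i => (u i : F)) (fun i => ((u i)⁻¹ : Fˣ))), ?_⟩, ?_, rfl⟩
    · rw [← fromBlocks_diagonal, mem_symp_upper_iff, diagonal_transpose, diagonal_mul_diagonal]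
      simp [← diagonal_one]
    rw [hT, mem_sympTorus_iff]
    exact fun i j hij => diagonal_apply_ne _ hij
  -- elements of the normaliser are monomial
  have hN : ∀ g : Matrix.symplecticGroup (Fin m) F, g ∈ Subgroup.normalizer (T : Set _) ↔
      ∃ σ : Equiv.Perm I, ∀ r s, s ≠ σ r → (g : Matrix I I F) r s = 0 := by
    intro g
    rw [Subgroup.mem_normalizer_iff]
    constructor
    · intro hn
      have hrow : ∀ r, ∃ s, (g : Matrix I I F) r s ≠ 0 := fun r => by
        by_contra h
        exact det_ne_zero_of_mem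
          (det_eq_zero_of_row_eq_zero r fun s => not_not.1 fun hs => h ⟨s, hs⟩)
      have huniq : ∀ r s s', (g : Matrix I I F) r s ≠ 0 → (g : Matrix I I F) r s' ≠ 0 → s = s' := by
        intro r s s' hs hs'
        by_contra hne
        obtain ⟨i, hi⟩ : ∃ i : Fin m, s = .inl i ∨ s = .inr i := by
          rcases s with i | i
          · exact ⟨i, .inl rfl⟩
          · exact ⟨i, .inr rfl⟩
        obtain ⟨x, hx, hxe⟩ := htor (Function.update (1 : Fin m → Fˣ) i (Units.mk0 a ha0))
        obtain ⟨D, hD⟩ : ∃ D : I → F,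
            ((g * x * g⁻¹ : Matrix.symplecticGroup (Fin m) F) : Matrix I I F) = Matrix.diagonal D :=
          ⟨_, (hdiag _).1 ((hn x).1 hx)⟩
        have e : (g : Matrix I I F) * (x : Matrix I I F) = Matrix.diagonal D * (g : Matrix I I F) := by
          rw [← hD, ← Submonoid.coe_mul, ← Submonoid.coe_mul]
          congr 1
          group
        rw [hxe] at e
        have e1 := congrFun (congrFun e r) s
        have e2 := congrFun (congrFun e r) s'
        rw [mul_diagonal, diagonal_mul, mul_comm (D r)] at e1 e2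
        have h12 := (mul_left_cancel₀ hs e1).trans (mul_left_cancel₀ hs' e2).symm
        have ha1 : a ≠ 1 := fun h => ha2 (by rw [h, one_pow])
        rcases hi with rfl | rfl <;> rcases s' with j | j <;>
          simp only [Sum.elim_inl, Sum.elim_inr, Function.update_self] at h12
        · rw [Function.update_of_ne (by rintro rfl; exact hne rfl)] at h12
          exact ha1 (by simpa using h12)
        · by_cases hji : j = i
          · subst hji
            simp at h12
            exact ha2 (by field_simp at h12; linear_combination h12)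
          · rw [Function.update_of_ne hji] at h12
            exact ha1 (by simpa using h12)
        · by_cases hji : j = i
          · subst hji
            simp at h12
            exact ha2 (by field_simp at h12; linear_combination -h12)
          · rw [Function.update_of_ne hji] at h12
            exact ha1 (by simpa using h12)
        · rw [Function.update_of_ne (by rintro rfl; exact hne rfl)] at h12
          exact ha1 (by simpa using h12)
      choose σ hσ using hrow
      have hz : ∀ r s, s ≠ σ r → (g : Matrix I I F) r s = 0 := fun r s hne =>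
        not_not.1 fun h => hne (huniq r s (σ r) h (hσ r))
      have hinj : Function.Injective σ := by
        intro r r' he
        by_contra hne
        refine det_ne_zero_of_mem (g := g) ?_
        rw [← Matrix.det_updateRow_add_smul_self (g : Matrix I I F) hne
          (-((g : Matrix I I F) r (σ r) / (g : Matrix I I F) r' (σ r')))]
        refine det_eq_zero_of_row_eq_zero r fun s => ?_
        rw [updateRow_self, Pi.add_apply, Pi.smul_apply, smul_eq_mul]
        by_cases hs : s = σ r
        · have h0 := hσ r'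
          subst hs
          rw [← he] at h0 ⊢
          field_simp
          ring
        · rw [hz r s hs, hz r' s (by rw [← he]; exact hs)]
          ring
      exact ⟨Equiv.ofBijective σ (Finite.injective_iff_bijective.1 hinj), hz⟩
    · rintro ⟨σ, hσ⟩
      have key : ∀ d : I → F, (g : Matrix I I F) * Matrix.diagonal d =
          Matrix.diagonal (fun r => d (σ r)) * (g : Matrix I I F) := by
        intro d
        ext r s
        rw [mul_diagonal, diagonal_mul]
        by_cases hs : s = σ r
        · rw [hs, mul_comm]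
        · rw [hσ r s hs]; simp
      intro x
      rw [hdiag x, hdiag (g * x * g⁻¹)]
      constructor
      · intro hd
        obtain ⟨d, hd'⟩ : ∃ d : I → F, (x : Matrix I I F) = Matrix.diagonal d := ⟨_, hd⟩
        have h : ((g * x * g⁻¹ : Matrix.symplecticGroup (Fin m) F) : Matrix I I F) =
            Matrix.diagonal fun r => d (σ r) := by
          rw [Submonoid.coe_mul, Submonoid.coe_mul, hd', key, Matrix.mul_assoc, ← Submonoid.coe_mul,
            mul_inv_cancel, Submonoid.coe_one, Matrix.mul_one]
        rw [h]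
        simp
      · intro hd
        obtain ⟨d, hd'⟩ : ∃ d : I → F,
            ((g * x * g⁻¹ : Matrix.symplecticGroup (Fin m) F) : Matrix I I F) = Matrix.diagonal d :=
          ⟨_, hd⟩
        have h := key (fun s => d (σ.symm s))
        simp only [Equiv.symm_apply_apply] at h
        have hx : (x : Matrix I I F) = Matrix.diagonal fun s => d (σ.symm s) := by
          calc (x : Matrix I I F)
              = ((g⁻¹ * (g * x * g⁻¹) * g : Matrix.symplecticGroup (Fin m) F) : Matrix I I F) := by
                congr 1; group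
            _ = _ := by
                rw [Submonoid.coe_mul, Submonoid.coe_mul, hd', Matrix.mul_assoc, ← h,
                  ← Matrix.mul_assoc, ← Submonoid.coe_mul, inv_mul_cancel, Submonoid.coe_one,
                  Matrix.one_mul]
        rw [hx]
        simp
  -- parametrisation
  have hmem : ∀ (π : Equiv.Perm (Fin m)) (ε : Fin m → Bool) (u : Fin m → Fˣ),
      monMat (sgnPerm π ε) (sgnCoeff ε u) ∈ Matrix.symplecticGroup (Fin m) F := by
    intro π ε u
    rw [SymplecticGroup.mem_iff]
    ext r s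
    rw [monMat_mul_J_mul]
    rcases r with i | i <;> rcases s with j | j <;> by_cases hij : i = j
    all_goals first
      | (subst hij; cases he : ε i <;> simp [sgnPerm, sgnCoeff, Matrix.J, he])
      | (cases he : ε i <;> cases he' : ε j <;>
          simp [sgnPerm, sgnCoeff, Matrix.J, he, he', Matrix.one_apply, hij])
  have hinjσ : ∀ (π : Equiv.Perm (Fin m)) (ε : Fin m → Bool),
      Function.Bijective (sgnPerm π ε) := fun π ε => by
    refine Finite.injective_iff_bijective.1 ?_
    rintro (i | i) (j | j) h <;> cases he : ε i <;> cases he' : ε j <;>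
      simp [sgnPerm, he, he'] at h <;> subst h <;> simp_all
  obtain ⟨Φ, hΦ⟩ : ∃ Φ : Equiv.Perm (Fin m) × (Fin m → Bool) × (Fin m → Fˣ) →
      ↥(Subgroup.normalizer (T : Set (Matrix.symplecticGroup (Fin m) F))),
      ∀ p, ((Φ p).1 : Matrix I I F) = monMat (sgnPerm p.1 p.2.1) (sgnCoeff p.2.1 p.2.2) :=
    ⟨fun p => ⟨⟨_, hmem p.1 p.2.1 p.2.2⟩, (hN _).2 ⟨Equiv.ofBijective _ (hinjσ p.1 p.2.1),
      fun r s hs => if_neg hs⟩⟩, fun p => rfl⟩
  have hbij : Function.Bijective Φ := by
    constructor
    · rintro ⟨π, ε, u⟩ ⟨π', ε', u'⟩ h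
      have hM := hΦ (π, ε, u)
      rw [h, hΦ] at hM
      have hc : ∀ r, sgnPerm π' ε' r = sgnPerm π ε r ∧ sgnCoeff ε' u' r = sgnCoeff ε u r := by
        intro r
        have h1 := congrFun (congrFun hM r) (sgnPerm π ε r)
        simp only [monMat, Matrix.of_apply, if_true] at h1
        have hne : sgnCoeff ε u r ≠ 0 := by
          rcases r with i | i
          · exact (u i).ne_zero
          · refine mul_ne_zero ?_ ((u i)⁻¹).ne_zero
            split_ifs
            · exact neg_ne_zero.2 one_ne_zero
            · exact one_ne_zero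
        split_ifs at h1 with h2
        · exact ⟨h2.symm, h1⟩
        · exact absurd h1.symm hne
      have hεπ : ∀ i, ε' i = ε i ∧ π' i = π i := by
        intro i
        have h1 := (hc (.inl i)).1
        cases he : ε i <;> cases he' : ε' i <;> simp [sgnPerm, he, he'] at h1 ⊢ <;> exact h1
      refine Prod.ext (Equiv.ext fun i => ((hεπ i).2).symm) (Prod.ext (funext fun i =>
        ((hεπ i).1).symm) (funext fun i => Units.ext ((hc (.inl i)).2).symm))
    · rintro ⟨g, hg⟩
      obtain ⟨σ, hσ⟩ := (hN g).1 hg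
      obtain ⟨c, hc⟩ : ∃ c : I → F, (g : Matrix I I F) = monMat σ c :=
        ⟨fun r => (g : Matrix I I F) r (σ r), by
          ext r s
          simp only [monMat, Matrix.of_apply]
          split_ifs with hs
          · rw [hs]
          · exact hσ r s hs⟩
      have hJ : ∀ r s, c r * c s * Matrix.J (Fin m) F (σ r) (σ s) = Matrix.J (Fin m) F r s := by
        intro r s
        rw [← monMat_mul_J_mul, ← hc, (SymplecticGroup.mem_iff.1 g.2)]
      have hsw : ∀ r, σ r.swap = (σ r).swap := fun r => by
        refine J_ne_zero_iff (F := F) fun h => J_apply_swap (F := F) r ?_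
        rw [← hJ, h, mul_zero]
      have hc0 : ∀ r, c r ≠ 0 := fun r h => J_apply_swap (F := F) r (by
        rw [← hJ, h, zero_mul, zero_mul])
      obtain ⟨ε, hε⟩ : ∃ ε : Fin m → Bool, ∀ i, ε i = (σ (.inl i)).isRight := ⟨_, fun _ => rfl⟩
      obtain ⟨π₀, hπ₀⟩ : ∃ π₀ : Fin m → Fin m, ∀ i, π₀ i = Sum.elim id id (σ (.inl i)) :=
        ⟨_, fun _ => rfl⟩
      have hπinj : Function.Injective π₀ := by
        intro i j hij
        rw [hπ₀, hπ₀] at hij
        have h : σ (.inl i) = σ (.inl j) ∨ σ (.inl i) = σ (Sum.swap (.inl j)) := by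
          rw [hsw]
          generalize σ (.inl i) = x at hij ⊢
          generalize σ (.inl j) = y at hij ⊢
          rcases x with a | a <;> rcases y with b | b <;>
            simp at hij ⊢ <;> exact hij
        rcases h with h | h
        · exact Sum.inl.inj (σ.injective h)
        · exact absurd (σ.injective h) (by simp)
      refine ⟨(Equiv.ofBijective π₀ (Finite.injective_iff_bijective.1 hπinj), ε,
        fun i => Units.mk0 (c (.inl i)) (hc0 _)), Subtype.ext (Subtype.ext ?_)⟩
      rw [hΦ, hc]
      dsimp only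
      have hσe : ∀ r, sgnPerm (Equiv.ofBijective π₀ (Finite.injective_iff_bijective.1 hπinj)) ε r =
          σ r := by
        rintro (i | i)
        · cases h : σ (.inl i) <;> simp [sgnPerm, hε, hπ₀, h]
        · have := hsw (.inl i)
          rw [Sum.swap_inl] at this
          cases h : σ (.inl i) <;> simp [sgnPerm, hε, hπ₀, h, this]
      congr 1
      · exact funext hσe
      · funext r
        rcases r with i | i
        · rfl
        · have hj := hJ (.inl i) (.inr i)
          have := hsw (.inl i)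
          rw [Sum.swap_inl] at this
          have h0 := hc0 (.inl i)
          cases h : σ (.inl i) <;> simp [sgnCoeff, hε, h, this, Matrix.J] at hj ⊢ <;>
            field_simp <;> linear_combination -hj
  rw [← Nat.card_eq_of_bijective Φ hbij, Nat.card_prod, Nat.card_prod,
    Nat.card_eq_fintype_card, Fintype.card_perm, Fintype.card_fin, Nat.card_fun,
    Nat.card_eq_fintype_card (α := Bool), Fintype.card_bool, Nat.card_fun, Nat.card_units,
    Nat.card_eq_fintype_card (α := F), hF, Nat.card_fin]
  ring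

end CfsgLib.Forms
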