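import Cfsg.Prelude.Def_Classical
import Mathlib

/-!
# A lower bound for faithful linear representations of `PSp₂ₘ`

In odd characteristic the sign involutions of the hyperbolic pairs and the quaternion groups on the
pairs force every linear representation of `Sp₂ₘ(F)` killing `-1` and non-trivial on the sign
involutions to have dimension more than `2m + 1`.
-/

set_option autoImplicit false
set_option linter.unusedSectionVars false

namespace CfsgLib.Forms.SymplecticRepBound

open Matrix Module

section LinearAlgebra

variable {K V : Type*} [Field K] [AddCommGroup V] [Module K V]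

/-- An elementwise refinement to a common eigenvector of commuting involutions. -/
theorem exists_signs {ι : Type*} (T : ι → V →ₗ[K] V) (hsq : ∀ i v, T i (T i v) = v)
    (hc : ∀ i j v, T i (T j v) = T j (T i v)) (s : Finset ι) (W : Submodule K V)
    (hW : ∀ i, ∀ v ∈ W, T i v ∈ W) {v : V} (hv : v ∈ W) (hv0 : v ≠ 0) :
    ∃ w ∈ W, w ≠ 0 ∧ ∀ i ∈ s, T i w = w ∨ T i w = -w := by
  classical
  induction s using Finset.induction_on with
  | empty => exact ⟨v, hv, hv0, by simp⟩
  | insert a s ha ih =>
    obtain ⟨w, hw, hw0, hws⟩ := ih
    by_cases h : T a w = -w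
    · refine ⟨w, hw, hw0, fun i hi => ?_⟩
      rcases Finset.mem_insert.1 hi with rfl | hi
      exacts [Or.inr h, hws i hi]
    · refine ⟨w + T a w, W.add_mem hw (hW a w hw), fun h0 => h (eq_neg_of_add_eq_zero_right h0),
        fun i hi => ?_⟩
      rcases Finset.mem_insert.1 hi with rfl | hi
      · left; rw [map_add, hsq, add_comm]
      · rcases hws i hi with e | e
        · left; rw [map_add, hc i a, e]
        · right; rw [map_add, hc i a, e, map_neg, ← neg_add]

/-- `k` commuting anticommuting pairs force dimension at least `2 ^ k`. -/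
theorem two_pow_le_finrank [FiniteDimensional K V] (h2 : (2 : K) ≠ 0) {ι : Type*} :
    ∀ (s : Finset ι) (U : Submodule K V) (a b : ι → V →ₗ[K] V), U ≠ ⊥ →
      (∀ i ∈ s, ∀ v ∈ U, a i v ∈ U ∧ b i v ∈ U ∧ a i (a i v) = -v ∧ a i (b i v) = -(b i (a i v)) ∧
        (b i v = 0 → v = 0)) →
      (∀ i ∈ s, ∀ j ∈ s, i ≠ j → ∀ v ∈ U, a i (a j v) = a j (a i v) ∧ a i (b j v) = b j (a i v) ∧
        b i (b j v) = b j (b i v)) →
      2 ^ s.card ≤ finrank K U := by
  classical
  intro s
  induction s using Finset.strongInduction with
  | _ s ih =>
    intro U a b hU h1 hcomm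
    have hpos : 1 ≤ finrank K U := by
      by_contra h
      exact hU (Submodule.finrank_eq_zero.1 (by omega))
    rcases s.eq_empty_or_nonempty with rfl | ⟨i, hi⟩
    · simpa using hpos
    have hneg : ∀ v : V, v = -v → v = 0 := fun v hv => by
      have : (2 : K) • v = 0 := by rw [two_smul]; nth_rw 2 [hv]; exact add_neg_cancel v
      exact (smul_eq_zero.1 this).resolve_left h2
    by_cases hone : s = {i}
    · subst hone
      obtain ⟨v, hv, hv0⟩ := Submodule.exists_mem_ne_zero_of_ne_bot hU
      obtain ⟨hav, hbv, haa, hab, hbinj⟩ := h1 i (Finset.mem_singleton_self i) v hv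
      rw [Finset.card_singleton, pow_one]
      by_contra hlt
      have h1' : finrank K U = 1 := by omega
      have hspan := (finrank_eq_one_iff_of_nonzero' (⟨v, hv⟩ : U) (by simpa using hv0)).1 h1'
      obtain ⟨x, hx⟩ := hspan ⟨a i v, hav⟩
      obtain ⟨y, hy⟩ := hspan ⟨b i v, hbv⟩
      have hx' : a i v = x • v := by simpa using (congrArg Subtype.val hx).symm
      have hy' : b i v = y • v := by simpa using (congrArg Subtype.val hy).symm
      rw [hy', map_smul, hx', map_smul, hy', smul_smul, smul_smul, mul_comm] at hab
      have h0 := hneg _ hab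
      rcases mul_eq_zero.1 ((smul_eq_zero.1 h0).resolve_right hv0) with h | h
      · rw [hx', h, zero_smul, map_zero] at haa
        exact hv0 (neg_eq_zero.1 haa.symm)
      · exact hv0 (hbinj (by rw [hy', h, zero_smul]))
    · obtain ⟨j, hj, hji⟩ : ∃ j ∈ s, j ≠ i := by
        by_contra hcon
        push Not at hcon
        exact hone (Finset.eq_singleton_iff_unique_mem.2 ⟨hi, hcon⟩)
      set p : V →ₗ[K] V := (a i).comp (a j) with hp
      let Up : Submodule K V := U ⊓ LinearMap.ker (p - LinearMap.id)
      let Um : Submodule K V := U ⊓ LinearMap.ker (p + LinearMap.id)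
      have hUp : ∀ v, v ∈ Up ↔ v ∈ U ∧ a i (a j v) = v := fun v => by
        simp [Up, p, LinearMap.mem_ker, sub_eq_zero]
      have hUm : ∀ v, v ∈ Um ↔ v ∈ U ∧ a i (a j v) = -v := fun v => by
        simp [Um, p, LinearMap.mem_ker, add_eq_zero_iff_eq_neg]
      have hpp : ∀ v ∈ U, a i (a j (a i (a j v))) = v := by
        intro v hv
        have hj' := (h1 j hj v hv).1
        have hij' := (h1 i hi _ hj').1
        rw [(hcomm j hj i hi hji (a j v) hj').1, (h1 j hj v hv).2.2.1, map_neg, map_neg,
          (h1 i hi v hv).2.2.1, neg_neg]
      have hflip : ∀ v ∈ U, a i (a j (b i v)) = -(b i (a i (a j v))) := by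
        intro v hv
        rw [(hcomm j hj i hi hji v hv).2.1, (h1 i hi _ (h1 j hj v hv).1).2.2.2.1]
      have hbp : ∀ v ∈ Up, b i v ∈ Um := fun v hv => by
        rw [hUp] at hv
        rw [hUm]
        exact ⟨(h1 i hi v hv.1).2.1, by rw [hflip v hv.1, hv.2]⟩
      have hbm : ∀ v ∈ Um, b i v ∈ Up := fun v hv => by
        rw [hUm] at hv
        rw [hUp]
        exact ⟨(h1 i hi v hv.1).2.1, by rw [hflip v hv.1, hv.2, map_neg, neg_neg]⟩
      have hUpne : Up ≠ ⊥ := by
        intro hbot
        apply hU
        rw [Submodule.eq_bot_iff] at hbot ⊢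
        intro v hv
        have hadd : v + a i (a j v) = 0 := hbot _ ((hUp _).2
          ⟨U.add_mem hv (h1 i hi _ (h1 j hj v hv).1).1, by rw [map_add, map_add, hpp v hv, add_comm]⟩)
        have hvm : v ∈ Um := (hUm v).2 ⟨hv, eq_neg_of_add_eq_zero_right hadd⟩
        exact (h1 i hi v hv).2.2.2.2 (hbot _ (hbm v hvm))
      let b' : ι → V →ₗ[K] V := Function.update b i ((b i).comp (b j))
      have hcard : (s.erase j).card + 1 = s.card := Finset.card_erase_add_one hj
      have hie : i ∈ s.erase j := Finset.mem_erase.2 ⟨Ne.symm hji, hi⟩
      -- every operator used preserves `Up`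
      have hstab : ∀ k ∈ s.erase j, ∀ v ∈ Up, a k v ∈ Up ∧ b' k v ∈ Up := by
        intro k hk v hv
        have hks := Finset.mem_of_mem_erase hk
        have hkj := Finset.ne_of_mem_erase hk
        rw [hUp] at hv
        obtain ⟨hvU, hv⟩ := hv
        have haU := (h1 k hks v hvU).1
        constructor
        · rw [hUp]
          refine ⟨haU, ?_⟩
          rw [(hcomm j hj k hks (Ne.symm hkj) v hvU).1]
          by_cases hki : k = i
          · subst hki
            rw [hv]
          · rw [(hcomm i hi k hks (Ne.symm hki) _ (h1 j hj v hvU).1).1, hv]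
        · by_cases hki : k = i
          · subst hki
            simp only [b', Function.update_self, LinearMap.comp_apply]
            have hbjU := (h1 j hj v hvU).2.1
            have h1' : b j v ∈ Um := by
              rw [hUm]
              refine ⟨hbjU, ?_⟩
              rw [(h1 j hj v hvU).2.2.2.1, map_neg,
                (hcomm k hks j hj (Ne.symm hji) _ (h1 j hj v hvU).1).2.1, hv]
            exact hbm _ h1'
          · simp only [b', Function.update_of_ne hki]
            rw [hUp]
            have hbU := (h1 k hks v hvU).2.1
            refine ⟨hbU, ?_⟩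
            rw [(hcomm j hj k hks (Ne.symm hkj) v hvU).2.1,
              (hcomm i hi k hks (Ne.symm hki) _ (h1 j hj v hvU).1).2.1, hv]
      have hle : 2 ^ (s.erase j).card ≤ finrank K Up := by
        refine ih _ (Finset.erase_ssubset hj) Up a b' hUpne ?_ ?_
        · intro k hk v hv
          have hks := Finset.mem_of_mem_erase hk
          have hkj := Finset.ne_of_mem_erase hk
          obtain ⟨hvU, -⟩ := (hUp v).1 hv
          obtain ⟨haU, hbU, haa, hab, hbinj⟩ := h1 k hks v hvU
          refine ⟨(hstab k hk v hv).1, (hstab k hk v hv).2, haa, ?_, ?_⟩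
          · by_cases hki : k = i
            · subst hki
              simp only [b', Function.update_self, LinearMap.comp_apply]
              rw [(h1 k hks _ (h1 j hj v hvU).2.1).2.2.2.1, (hcomm k hks j hj hkj v hvU).2.1]
            · simpa only [b', Function.update_of_ne hki] using hab
          · intro h0
            by_cases hki : k = i
            · subst hki
              simp only [b', Function.update_self, LinearMap.comp_apply] at h0
              exact (h1 j hj v hvU).2.2.2.2 ((h1 k hks _ (h1 j hj v hvU).2.1).2.2.2.2 h0)
            · simp only [b', Function.update_of_ne hki] at h0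
              exact hbinj h0
        · intro k hk l hl hkl v hv
          have hks := Finset.mem_of_mem_erase hk
          have hls := Finset.mem_of_mem_erase hl
          have hkj := Finset.ne_of_mem_erase hk
          have hlj := Finset.ne_of_mem_erase hl
          obtain ⟨hvU, -⟩ := (hUp v).1 hv
          refine ⟨(hcomm k hks l hls hkl v hvU).1, ?_, ?_⟩
          · by_cases hli : l = i
            · subst hli
              simp only [b', Function.update_self, LinearMap.comp_apply]
              rw [(hcomm k hks l hls hkl _ (h1 j hj v hvU).2.1).2.1, (hcomm k hks j hj hkj v hvU).2.1]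
            · simp only [b', Function.update_of_ne hli]
              exact (hcomm k hks l hls hkl v hvU).2.1
          · by_cases hli : l = i
            · subst hli
              simp only [b', Function.update_self, Function.update_of_ne hkl, LinearMap.comp_apply]
              rw [(hcomm k hks l hls hkl _ (h1 j hj v hvU).2.1).2.2, (hcomm k hks j hj hkj v hvU).2.2]
            · by_cases hki : k = i
              · subst hki
                simp only [b', Function.update_self, Function.update_of_ne hli, LinearMap.comp_apply]
                rw [(hcomm j hj l hls (Ne.symm hlj) v hvU).2.2,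
                  (hcomm k hks l hls hkl _ (h1 j hj v hvU).2.1).2.2]
              · simp only [b', Function.update_of_ne hli, Function.update_of_ne hki]
                exact (hcomm k hks l hls hkl v hvU).2.2
      have hinj : finrank K Up ≤ finrank K Um := by
        refine LinearMap.finrank_le_finrank_of_injective
          (f := ((b i).comp Up.subtype).codRestrict Um (fun v => hbp v.1 v.2)) ?_
        rw [← LinearMap.ker_eq_bot, LinearMap.ker_eq_bot']
        intro v hv
        apply Subtype.ext
        exact (h1 i hi v.1 ((hUp _).1 v.2).1).2.2.2.2 (congrArg Subtype.val hv)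
      have hsum := Submodule.finrank_sup_add_finrank_inf_eq Up Um
      have hinf : Up ⊓ Um = ⊥ := by
        rw [Submodule.eq_bot_iff]
        intro v hv
        exact hneg v (((hUp v).1 hv.1).2.symm.trans ((hUm v).1 hv.2).2)
      have hsup : finrank K ↥(Up ⊔ Um) ≤ finrank K U :=
        Submodule.finrank_mono (sup_le inf_le_left inf_le_left)
      rw [hinf, finrank_bot, add_zero] at hsum
      rw [← hcard, pow_succ]
      omega

end LinearAlgebra

section Symplectic

variable {F : Type*} [Field F] {m : ℕ}

/-- The symplectic matrix acting as `[[α i, β i], [γ i, δ i]]` on the `i`-th hyperbolic pair. -/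
def pairMat (α β γ δ : Fin m → F) : Matrix (Fin m ⊕ Fin m) (Fin m ⊕ Fin m) F :=
  fromBlocks (diagonal α) (diagonal β) (diagonal γ) (diagonal δ)

theorem pairMat_mul (α β γ δ α' β' γ' δ' : Fin m → F) :
    pairMat α β γ δ * pairMat α' β' γ' δ' = pairMat (fun i => α i * α' i + β i * γ' i)
      (fun i => α i * β' i + β i * δ' i) (fun i => γ i * α' i + δ i * γ' i)
      (fun i => γ i * β' i + δ i * δ' i) := by
  simp [pairMat, fromBlocks_multiply, diagonal_mul_diagonal, diagonal_add]

theorem pairMat_transpose (α β γ δ : Fin m → F) :
    (pairMat α β γ δ)ᵀ = pairMat α γ β δ := by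
  simp [pairMat, fromBlocks_transpose]

theorem pairMat_mem {α β γ δ : Fin m → F} (h : ∀ i, α i * δ i - β i * γ i = 1) :
    pairMat α β γ δ ∈ Matrix.symplecticGroup (Fin m) F := by
  rw [SymplecticGroup.mem_iff]
  have e : (J (Fin m) F) = pairMat 0 (-1) 1 0 := by
    simp [J, pairMat, ← diagonal_one, diagonal_neg]
  rw [e, pairMat_mul, pairMat_transpose, pairMat_mul]
  congr 1 <;> funext i <;> simp
  · ring
  · linear_combination -h i
  · linear_combination h i
  · ring

variable (F m)

/-- The sign involution of the `i`-th pair. -/
def tSp (i : Fin m) : Matrix.symplecticGroup (Fin m) F :=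
  ⟨pairMat (Function.update 1 i (-1)) 0 0 (Function.update 1 i (-1)), pairMat_mem fun k => by
    by_cases hk : k = i <;> simp [hk]⟩

/-- An element of order four on the `i`-th pair. -/
def aSp (i : Fin m) : Matrix.symplecticGroup (Fin m) F :=
  ⟨pairMat (Function.update 1 i 0) (Function.update 0 i (-1)) (Function.update 0 i 1)
    (Function.update 1 i 0), pairMat_mem fun k => by
    by_cases hk : k = i <;> simp [hk]⟩

/-- The permutation of the pairs. -/
def permSp (σ : Equiv.Perm (Fin m)) : Matrix.symplecticGroup (Fin m) F :=
  ⟨(σ.sumCongr σ).permMatrix F, by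
    rw [SymplecticGroup.mem_iff]
    ext i j
    rcases i with i | i <;> rcases j with j | j <;>
      simp [Matrix.mul_apply, J, Matrix.one_apply, Equiv.Perm.permMatrix, PEquiv.toMatrix]⟩

end Symplectic

end CfsgLib.Forms.SymplecticRepBound
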