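import Cfsg.Agent.Forms.SymplecticRepBound
import Cfsg.Agent.SL2Trace.Basic
import Cfsg.Agent.SympOrders.Basic

/-!
# Faithful linear representations of `PSp₂ₘ` have dimension more than `2m + 1`
-/

set_option autoImplicit false
set_option linter.unusedSectionVars false

namespace CfsgLib.Forms.SymplecticRepBound

open Matrix Module

variable {F : Type*} [Field F] [Fintype F] {m : ℕ}

theorem two_pow_gt {m : ℕ} (hm : 3 ≤ m) : 2 * m + 1 < 2 ^ m := by
  induction m, hm using Nat.le_induction with
  | base => norm_num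
  | succ n hn ih => rw [pow_succ]; omega

theorem le_choose {n : ℕ} : ∀ k, 1 ≤ k → k < n → n ≤ n.choose k := by
  induction n with
  | zero => intro k _ h; omega
  | succ n ih =>
    intro k h1 h2
    obtain ⟨k, rfl⟩ : ∃ j, k = j + 1 := ⟨k - 1, by omega⟩
    rw [Nat.choose_succ_succ, Nat.succ_eq_add_one]
    rcases Nat.eq_or_lt_of_le (show k + 1 ≤ n by omega) with h | h
    · subst h
      simp [Nat.choose_succ_self_right]
    · have := ih (k + 1) (by omega) h
      have h0 : 1 ≤ n.choose k := Nat.choose_pos (by omega)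
      omega

theorem choose_mul_pow_gt {m w : ℕ} (hm : 3 ≤ m) (hw : 2 ≤ w) (hwm : w ≤ m) :
    2 * m + 1 < m.choose w * 2 ^ w := by
  rcases Nat.eq_or_lt_of_le hwm with rfl | h
  · rw [Nat.choose_self, one_mul]; exact two_pow_gt hm
  · have h1 := le_choose w (by omega) h
    have h2 : 4 ≤ 2 ^ w := le_trans (by norm_num) (Nat.pow_le_pow_right two_pos hw)
    nlinarith

theorem permSp_tSp (σ : Equiv.Perm (Fin m)) (i : Fin m) :
    tSp F m i * permSp F m σ = permSp F m σ * tSp F m (σ i) := by
  apply Subtype.ext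
  show (tSp F m i).1 * (σ.sumCongr σ).permMatrix F = (σ.sumCongr σ).permMatrix F * (tSp F m (σ i)).1
  rw [PEquiv.toMatrix_toPEquiv_mul, PEquiv.mul_toMatrix_toPEquiv]
  ext a b
  rcases a with a | a <;> rcases b with b | b <;>
    simp [tSp, pairMat, Matrix.diagonal_apply, Function.update_apply, Equiv.eq_symm_apply]
  all_goals split_ifs <;> simp_all

theorem exists_bSp : ∃ b : Fin m → Matrix.symplecticGroup (Fin m) F, ∀ i,
    (∀ j, tSp F m j * b i = b i * tSp F m j) ∧ aSp F m i * b i = b i * aSp F m i * tSp F m i ∧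
    (∀ j, j ≠ i → aSp F m j * b i = b i * aSp F m j) ∧ ∀ j, j ≠ i → b j * b i = b i * b j := by
  by_cases h2 : (2 : F) = 0
  · have hc : (-1 : F) = 1 := by linear_combination -h2
    refine ⟨fun _ => 1, fun i => ⟨fun j => by simp, ?_, fun j _ => by simp, fun j _ => by simp⟩⟩
    apply Subtype.ext
    have ht : (tSp F m i).1 = 1 := by
      simp [tSp, pairMat, hc]
    simp [ht]
  obtain ⟨x, y, hxy⟩ := CfsgLib.SL2Trace.exists_norm_eq (0 : F) (-1) (by
    intro h
    apply mul_ne_zero h2 h2
    linear_combination -h)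
  refine ⟨fun i => ⟨pairMat (Function.update 1 i x) (Function.update 0 i y) (Function.update 0 i y)
    (Function.update 1 i (-x)), pairMat_mem fun k => ?_⟩, fun i => ⟨fun j => ?_, ?_, fun j hj => ?_, fun j hj => ?_⟩⟩
  · by_cases hk : k = i
    · subst hk
      simp
      linear_combination -hxy
    · simp [hk]
  all_goals
    apply Subtype.ext
    simp only [Submonoid.coe_mul, tSp, aSp, pairMat_mul]
    congr 1 <;> funext k <;> by_cases hki : k = i <;> simp [hki, Function.update_apply] <;>
      (try split_ifs) <;> (try subst_vars) <;> (try simp_all) <;> ring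

theorem aSp_sq (i : Fin m) : aSp F m i * aSp F m i = tSp F m i := by
  apply Subtype.ext
  simp only [Submonoid.coe_mul, tSp, aSp, pairMat_mul]
  congr 1 <;> funext k <;> by_cases hki : k = i <;> simp [hki]

theorem tSp_sq (i : Fin m) : tSp F m i * tSp F m i = 1 := by
  apply Subtype.ext
  simp only [Submonoid.coe_mul, Submonoid.coe_one, tSp, pairMat_mul]
  rw [← fromBlocks_one, ← diagonal_one, ← diagonal_zero, pairMat]
  congr 2 <;> funext k <;> by_cases hki : k = i <;> simp [hki]

theorem tSp_comm_aSp (i j : Fin m) : tSp F m i * aSp F m j = aSp F m j * tSp F m i := by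
  apply Subtype.ext
  simp only [Submonoid.coe_mul, tSp, aSp, pairMat_mul]
  congr 1 <;> funext k <;> by_cases hki : k = i <;> simp [hki, Function.update_apply] <;>
    (try split_ifs) <;> simp_all

theorem aSp_comm (i j : Fin m) : aSp F m i * aSp F m j = aSp F m j * aSp F m i := by
  by_cases hij : i = j
  · rw [hij]
  apply Subtype.ext
  simp only [Submonoid.coe_mul, aSp, pairMat_mul]
  congr 1 <;> funext k <;> by_cases hki : k = i <;> simp [hki, Function.update_apply] <;>
    (try split_ifs) <;> simp_all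

theorem tSp_comm (i j : Fin m) : tSp F m i * tSp F m j = tSp F m j * tSp F m i := by
  apply Subtype.ext
  simp only [Submonoid.coe_mul, tSp, pairMat_mul]
  congr 1 <;> funext k <;> simp [mul_comm]

/-- Minus the identity. -/
def negOne (F : Type*) [Field F] (m : ℕ) : Matrix.symplecticGroup (Fin m) F :=
  ⟨-1, SymplecticGroup.neg_mem (one_mem _)⟩

theorem prod_tSp : ((List.finRange m).map (tSp F m)).prod = negOne F m := by
  have h : ∀ l : List (Fin m), l.Nodup → ((l.map (tSp F m)).prod : Matrix.symplecticGroup (Fin m) F).1 =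
      pairMat (fun k => if k ∈ l then -1 else 1) 0 0 (fun k => if k ∈ l then -1 else 1) := by
    intro l hl
    induction l with
    | nil =>
      simp only [List.map_nil, List.prod_nil, Submonoid.coe_one, List.not_mem_nil, if_false, pairMat]
      rw [← fromBlocks_one, ← diagonal_one, ← diagonal_zero]
      rfl
    | cons a l ih =>
      rw [List.nodup_cons] at hl
      rw [List.map_cons, List.prod_cons, Submonoid.coe_mul, ih hl.2, tSp, pairMat_mul]
      congr 1 <;> funext k <;> by_cases hk : k = a <;> simp [hk, hl.1]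
  apply Subtype.ext
  rw [h _ (List.nodup_finRange m)]
  show _ = -(1 : Matrix (Fin m ⊕ Fin m) (Fin m ⊕ Fin m) F)
  rw [← fromBlocks_one, fromBlocks_neg, neg_zero, ← diagonal_one, diagonal_neg, ← diagonal_zero, pairMat]
  simp

/-- A representation killing `-1` but not the product of two sign involutions is large. -/
theorem lt_finrank (h2 : (2 : F) ≠ 0) (hm : 3 ≤ m) {K V : Type*} [Field K] [AddCommGroup V] [Module K V]
    [FiniteDimensional K V] (hK : (2 : K) ≠ 0)
    (θ : Matrix.symplecticGroup (Fin m) F →* (V ≃ₗ[K] V)) (hneg : θ (negOne F m) = 1)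
    {i₀ i₁ : Fin m} (hne : θ (tSp F m i₀ * tSp F m i₁) ≠ 1) : 2 * m + 1 < finrank K V := by
  classical
  obtain ⟨bS, hbS⟩ := exists_bSp (F := F) (m := m)
  let L : Matrix.symplecticGroup (Fin m) F → V →ₗ[K] V := fun g => (θ g).toLinearMap
  have hL : ∀ g h v, L (g * h) v = L g (L h v) := fun g h v => by
    show θ (g * h) v = θ g (θ h v)
    rw [map_mul]; rfl
  have hL1 : ∀ v, L 1 v = v := fun v => by show θ 1 v = v; rw [map_one]; rfl
  have hLinj : ∀ g v, L g v = 0 → v = 0 := fun g v h => (θ g).map_eq_zero_iff.1 h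
  let W : Finset (Fin m) → Submodule K V := fun S =>
    { carrier := {v | ∀ i, L (tSp F m i) v = if i ∈ S then -v else v}
      add_mem' := fun {u v} hu hv i => by
        rw [map_add, hu i, hv i]; split_ifs <;> simp [neg_add_rev, add_comm]
      zero_mem' := fun i => by simp
      smul_mem' := fun c v hv i => by rw [map_smul, hv i]; split_ifs <;> simp }
  have hneg' : ∀ v : V, v = -v → v = 0 := fun v hv => by
    have : (2 : K) • v = 0 := by rw [two_smul]; nth_rw 2 [hv]; exact add_neg_cancel v
    exact (smul_eq_zero.1 this).resolve_left hK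
  obtain ⟨u, hu⟩ : ∃ u, L (tSp F m i₀ * tSp F m i₁) u ≠ u := by
    by_contra hcon
    push Not at hcon
    exact hne (LinearEquiv.ext hcon)
  set u' := u - L (tSp F m i₀ * tSp F m i₁) u with hu'
  have htt : tSp F m i₀ * tSp F m i₁ * (tSp F m i₀ * tSp F m i₁) = 1 := by
    rw [mul_assoc, ← mul_assoc (tSp F m i₁), tSp_comm i₁ i₀, mul_assoc, tSp_sq, mul_one, tSp_sq]
  have hu1 : L (tSp F m i₀ * tSp F m i₁) u' = -u' := by
    rw [hu', map_sub, ← hL, htt, hL1, neg_sub]
  let W₀ : Submodule K V := LinearMap.ker (L (tSp F m i₀ * tSp F m i₁) + LinearMap.id)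
  have hW₀ : ∀ v, v ∈ W₀ ↔ L (tSp F m i₀ * tSp F m i₁) v = -v := fun v => by
    simp [W₀, add_eq_zero_iff_eq_neg]
  obtain ⟨w, hwW, hw0, hws⟩ := exists_signs (fun i => L (tSp F m i))
    (fun i v => by rw [← hL, tSp_sq, hL1]) (fun i j v => by rw [← hL, ← hL, tSp_comm]) Finset.univ W₀
    (fun i v hv => by
      rw [hW₀] at hv ⊢
      rw [← hL, mul_assoc, tSp_comm i₁ i, ← mul_assoc, tSp_comm i₀ i, mul_assoc, hL, hv, map_neg])
    ((hW₀ u').2 hu1) (fun h => hu (sub_eq_zero.1 h).symm)
  set S : Finset (Fin m) := Finset.univ.filter fun i => L (tSp F m i) w = -w with hS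
  have hwS : w ∈ W S := by
    intro i
    by_cases hi : i ∈ S
    · rw [if_pos hi]; exact (Finset.mem_filter.1 hi).2
    · rw [if_neg hi]
      exact (hws i (Finset.mem_univ i)).resolve_right fun h => hi (by simp [hS, h])
  have hlist : ∀ l : List (Fin m), L (l.map (tSp F m)).prod w = (-1 : K) ^ (l.filter (· ∈ S)).length • w := by
    intro l
    induction l with
    | nil => simp [hL1]
    | cons a l ih =>
      rw [List.map_cons, List.prod_cons, hL, ih, map_smul, hwS a]
      by_cases ha : a ∈ S <;> simp [ha, pow_succ]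
  have heven : Even S.card := by
    have h := hlist (List.finRange m)
    rw [prod_tSp] at h
    have hlen : ((List.finRange m).filter (· ∈ S)).length = S.card := by
      rw [← List.toFinset_card_of_nodup ((List.nodup_finRange m).filter _)]
      congr 1
      ext; simp
    rw [hlen, show L (negOne F m) w = w from LinearEquiv.congr_fun hneg w] at h
    by_contra hodd
    rw [(Nat.not_even_iff_odd.1 hodd).neg_one_pow, neg_one_smul] at h
    exact hw0 (hneg' w h)
  have hpos : 2 ≤ S.card := by
    have hne0 : S.card ≠ 0 := by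
      intro h
      rw [Finset.card_eq_zero] at h
      have h2' := (hW₀ w).1 hwW
      rw [hL, hwS i₁, h] at h2'
      simp only [Finset.notMem_empty, if_false] at h2'
      rw [hwS i₀, h] at h2'
      simp only [Finset.notMem_empty, if_false] at h2'
      exact hw0 (hneg' w h2')
    obtain ⟨k, hk⟩ := heven
    omega
  have hdim : 2 ^ S.card ≤ finrank K (W S) := by
    have hWne : W S ≠ ⊥ := fun h => hw0 (by rw [h] at hwS; exact (Submodule.mem_bot K).1 hwS)
    have hmem : ∀ g, (∀ j, tSp F m j * g = g * tSp F m j) → ∀ v ∈ W S, L g v ∈ W S := by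
      intro g hg v hv j
      rw [← hL, hg j, hL, hv j]
      split_ifs <;> simp
    refine two_pow_le_finrank hK S (W S) (fun i => L (aSp F m i)) (fun i => L (bS i)) hWne ?_ ?_
    · intro i hi v hv
      refine ⟨hmem _ (fun j => tSp_comm_aSp j i) v hv, hmem _ (hbS i).1 v hv, ?_, ?_, hLinj _ v⟩
      · rw [← hL, aSp_sq, hv i, if_pos hi]
      · rw [← hL, (hbS i).2.1, hL, hL, hv i, if_pos hi, map_neg, map_neg]
    · intro i _ j _ hij v _
      refine ⟨by rw [← hL, ← hL, aSp_comm], by rw [← hL, ← hL, (hbS j).2.2.1 i hij], ?_⟩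
      rw [← hL, ← hL, (hbS j).2.2.2 i hij]
  -- all sets of the same size
  let 𝒮 := (Finset.univ : Finset (Fin m)).powersetCard S.card
  have horb : ∀ S' : 𝒮, 2 ^ S.card ≤ finrank K (W S'.1) := by
    rintro ⟨S', hS'⟩
    have hc : S'.card = S.card := (Finset.mem_powersetCard.1 hS').2
    obtain ⟨σ, hσ⟩ : ∃ σ : Equiv.Perm (Fin m), ∀ i, σ i ∈ S ↔ i ∈ S' := by
      have e := Finset.equivOfCardEq hc
      refine ⟨e.extendSubtype, fun i => ?_⟩
      by_cases hi : i ∈ S'
      · exact iff_of_true (e.extendSubtype_mem i hi) hi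
      · exact iff_of_false (e.extendSubtype_not_mem i hi) hi
    refine le_trans hdim (LinearMap.finrank_le_finrank_of_injective
      (f := ((L (permSp F m σ)).comp (W S).subtype).codRestrict (W S') (fun v i => ?_)) ?_)
    · simp only [LinearMap.comp_apply, Submodule.subtype_apply]
      rw [← hL, permSp_tSp, hL, v.2 (σ i)]
      by_cases hi : i ∈ S'
      · rw [if_pos ((hσ i).2 hi), if_pos hi, map_neg]
      · rw [if_neg (fun h => hi ((hσ i).1 h)), if_neg hi]
    · rw [← LinearMap.ker_eq_bot, LinearMap.ker_eq_bot']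
      intro v hv
      exact Subtype.ext (hLinj _ _ (congrArg Subtype.val hv))
  have hproj : ∀ (S₁ s : Finset (Fin m)), ∃ E : V →ₗ[K] V, ∀ S₂, ∀ v ∈ W S₂,
      E v = if (∀ i ∈ s, (i ∈ S₂ ↔ i ∈ S₁)) then (2 : K) ^ s.card • v else 0 := by
    intro S₁ s
    induction s using Finset.induction_on with
    | empty => exact ⟨LinearMap.id, fun S₂ v _ => by simp⟩
    | insert a s ha ih =>
      obtain ⟨E, hE⟩ := ih
      refine ⟨E.comp (LinearMap.id + (if a ∈ S₁ then (-1 : K) else 1) • L (tSp F m a)), fun S₂ v hv => ?_⟩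
      simp only [LinearMap.comp_apply, LinearMap.add_apply, LinearMap.id_apply, LinearMap.smul_apply,
        hv a, Finset.forall_mem_insert, Finset.card_insert_of_notMem ha]
      by_cases h1 : a ∈ S₁ <;> by_cases h2 : a ∈ S₂ <;>
        simp only [h1, h2, iff_self, iff_false, not_true, not_false_iff, if_true, if_false, true_and, false_and,
          neg_smul, one_smul, smul_neg, neg_neg, add_neg_cancel, map_zero, iff_true]
      · rw [← two_smul K, map_smul, hE S₂ v hv]; split_ifs <;> simp [smul_smul, pow_succ, mul_comm]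
      · rw [← two_smul K, map_smul, hE S₂ v hv]; split_ifs <;> simp [smul_smul, pow_succ, mul_comm]
  let f : (∀ S' : 𝒮, W S'.1) →ₗ[K] V := ∑ S' : 𝒮, (W S'.1).subtype.comp (LinearMap.proj S')
  have hf : Function.Injective f := by
    rw [← LinearMap.ker_eq_bot, LinearMap.ker_eq_bot']
    intro x hx
    funext S'
    obtain ⟨E, hE⟩ := hproj S'.1 Finset.univ
    have h := congrArg E hx
    simp only [f, LinearMap.coe_sum, Finset.sum_apply, LinearMap.comp_apply, LinearMap.proj_apply,
      Submodule.subtype_apply, map_sum, map_zero] at h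
    rw [Finset.sum_eq_single S'] at h
    · rw [hE _ _ (x S').2, if_pos (fun i _ => Iff.rfl), smul_eq_zero] at h
      exact Subtype.ext (h.resolve_left (pow_ne_zero _ hK))
    · intro S'' _ hne'
      rw [hE _ _ (x S'').2, if_neg]
      intro hall
      exact hne' (Subtype.ext (Finset.ext fun i => hall i (Finset.mem_univ i)))
    · intro hS'; exact absurd (Finset.mem_univ _) hS'
  have h1 := LinearMap.finrank_le_finrank_of_injective hf
  rw [Module.finrank_pi_fintype] at h1
  have h3 : m.choose S.card * 2 ^ S.card ≤ ∑ S' : 𝒮, finrank K (W S'.1) := by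
    have := Finset.card_nsmul_le_sum (Finset.univ : Finset 𝒮) _ _ (fun S' _ => horb S')
    simpa [𝒮, Finset.card_powersetCard] using this
  exact lt_of_lt_of_le (choose_mul_pow_gt hm hpos (by simpa using S.card_le_univ)) (h3.trans h1)

end CfsgLib.Forms.SymplecticRepBound
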